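import Cfsg.Agent.Known.FormEquiv
import Cfsg.Agent.Known.OrthAut.Forms

/-!
Nondegenerate quadratic forms over a finite field, up to the standard models.
-/

set_option autoImplicit false
set_option linter.unusedSectionVars false

open QuadraticMap Submodule

namespace Cfsg.Lib.OrthField

open Cfsg.Lib.Classical

universe u v

variable {F : Type u} [Field F] [Finite F]

/-- An Artin–Schreier non-value. -/
theorem exists_zeta : ∃ ζ : F, ∀ t : F, t ^ 2 + t + ζ ≠ 0 := by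
  by_contra h
  push Not at h
  have hs : Function.Surjective fun t : F => t ^ 2 + t := fun z => by
    obtain ⟨t, ht⟩ := h (-z)
    exact ⟨t, by linear_combination ht⟩
  have he := Finite.injective_iff_surjective.2 hs (show (fun t : F => t ^ 2 + t) 0 = (fun t : F => t ^ 2 + t) (-1) by ring)
  exact one_ne_zero (neg_eq_zero.1 he.symm)

theorem aniso_zeta {ζ : F} (hζ : ∀ t : F, t ^ 2 + t + ζ ≠ 0) (z₁ z₂ : F)
    (h : z₁ ^ 2 + 1 * z₁ * z₂ + ζ * z₂ ^ 2 = 0) : z₁ = 0 ∧ z₂ = 0 := by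
  by_cases h2 : z₂ = 0
  · subst h2
    exact ⟨by simpa using h, rfl⟩
  · exact absurd (by field_simp; linear_combination h) (hζ (z₁ / z₂))

variable {V : Type v} [AddCommGroup V] [Module F V] [FiniteDimensional F V] {A : QuadraticForm F V}

theorem even_cases (hA : (polarBilin A).Nondegenerate) {m : ℕ} (hV : Module.finrank F V = 2 * m) :
    (∃ g : V ≃ₗ[F] (Fin m ⊕ Fin m → F), ∀ v, A v = Cfsg.quadFormPlus m F (g v)) ∨
    (∃ k, k + 1 = m ∧ ∀ ζ : F, (∀ t : F, t ^ 2 + t + ζ ≠ 0) →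
      ∃ g : V ≃ₗ[F] ((Fin k ⊕ Fin k) ⊕ Fin 2 → F), ∀ v, A v = Cfsg.quadFormMinus k F 1 ζ (g v)) := by
  rcases FormNormal.even_basis A hV hA with ⟨D, hD⟩ | ⟨D, hD, h2⟩
  · refine Or.inl (FormNormal.plus_equiv D hD ?_)
    have := D.dim
    rw [finrank_top, hV] at this
    omega
  · exact Or.inr ⟨D.m, hD, fun ζ hζ => FormNormal.minus_equiv D rfl h2 hζ⟩

theorem plus_case (hA : (polarBilin A).Nondegenerate) {m : ℕ} (hV : Module.finrank F V = 2 * m) {U : Submodule F V}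
    (hU : Module.finrank F U = m) (hU0 : ∀ x ∈ U, A x = 0) :
    ∃ g : V ≃ₗ[F] (Fin m ⊕ Fin m → F), ∀ v, A v = Cfsg.quadFormPlus m F (g v) := by
  rcases even_cases hA hV with h | ⟨k, hk, h⟩
  · exact h
  exfalso
  obtain ⟨ζ, hζ⟩ := exists_zeta (F := F)
  obtain ⟨g, hg⟩ := h ζ hζ
  haveI := Fintype.ofFinite F
  have h1 := OrthAut.minus_ts_le (m := k) (a := (1 : F)) (b := ζ) (fun z₁ z₂ h => aniso_zeta hζ z₁ z₂ h)
    (T := U.map g.toLinearMap) (by
      rintro _ ⟨x, hx, rfl⟩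
      rw [Refl.minusForm_coe]
      exact (hg x).symm.trans (hU0 x hx))
  rw [LinearEquiv.finrank_map_eq, hU] at h1
  omega

theorem minus_case (hA : (polarBilin A).Nondegenerate) {k : ℕ} (hV : Module.finrank F V = 2 * (k + 1))
    (hT : ∀ T : Submodule F V, (∀ x ∈ T, A x = 0) → Module.finrank F T ≤ k) {ζ : F}
    (hζ : ∀ t : F, t ^ 2 + t + ζ ≠ 0) :
    ∃ g : V ≃ₗ[F] ((Fin k ⊕ Fin k) ⊕ Fin 2 → F), ∀ v, A v = Cfsg.quadFormMinus k F 1 ζ (g v) := by
  rcases even_cases hA hV with ⟨g, hg⟩ | ⟨k', hk, h⟩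
  · exfalso
    let E : (Fin (k + 1) → F) →ₗ[F] (Fin (k + 1) ⊕ Fin (k + 1) → F) :=
      { toFun := fun x => Sum.elim x 0
        map_add' := fun x y => funext fun i => by cases i <;> simp
        map_smul' := fun c x => funext fun i => by cases i <;> simp }
    have hE : Function.Injective (g.symm.toLinearMap ∘ₗ E) :=
      g.symm.injective.comp fun x y h => funext fun i => congrFun h (Sum.inl i)
    have h1 := hT (LinearMap.range (g.symm.toLinearMap ∘ₗ E)) (by
      rintro _ ⟨x, rfl⟩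
      rw [hg]
      simp [E, Cfsg.quadFormPlus])
    rw [LinearMap.finrank_range_of_inj hE, Module.finrank_fin_fun] at h1
    omega
  · obtain rfl : k' = k := by omega
    exact h ζ hζ

theorem odd_model {B : QuadraticForm F V} (D : FormNormal.Decomp B (⊤ : Submodule F V)) {z : V} (hz : z ∈ D.K)
    (hz1 : B z = 1) (hzi : LinearIndependent F ![z]) (hr : Module.finrank F D.K = 1) :
    ∃ g : V ≃ₗ[F] (Unit ⊕ (Fin D.m ⊕ Fin D.m) → F), ∀ v, B v = Cfsg.quadFormOdd D.m F (g v) := by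
  classical
  obtain ⟨b, hb⟩ := D.basis rfl (κ := Fin 1) ![z] (fun i => by fin_cases i; exact hz) hzi (by simp [hr])
  let e : (Fin D.m ⊕ Fin D.m) ⊕ Fin 1 ≃ Unit ⊕ (Fin D.m ⊕ Fin D.m) :=
    (Equiv.sumComm _ _).trans (finOneEquiv.sumCongr (Equiv.refl _))
  let b' : Module.Basis (Unit ⊕ (Fin D.m ⊕ Fin D.m)) F V := b.reindex e
  have hb' : ⇑b' = Sum.elim (fun _ => z) (Sum.elim D.e D.f) := by
    funext i
    show b.reindex e i = _
    rw [Module.Basis.reindex_apply, hb]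
    rcases i with i | i | i <;> simp [e]
  have : Fintype F := Fintype.ofFinite F
  refine ⟨b'.equivFun, fun v => ?_⟩
  have hcomp : ∀ x y, polar (⇑((Refl.oddForm D.m F).comp (b'.equivFun : V →ₗ[F] (Unit ⊕ (Fin D.m ⊕ Fin D.m) → F)))) x y =
      polar (⇑(Refl.oddForm D.m F)) (b'.equivFun x) (b'.equivFun y) := fun x y => by simp [polar]
  have key := FormNormal.eq_of_basis B
    ((Refl.oddForm D.m F).comp (b'.equivFun : V →ₗ[F] (Unit ⊕ (Fin D.m ⊕ Fin D.m) → F))) b' ?_ ?_ v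
  · rw [key, QuadraticMap.comp_apply, Refl.oddForm_coe]; rfl
  · intro i
    rw [QuadraticMap.comp_apply, LinearEquiv.coe_coe, Refl.oddForm_coe,
      show B (b' i) = B (Sum.elim (fun _ => z) (Sum.elim D.e D.f) i) by rw [hb']]
    rcases i with i | i | i <;> simp only [Sum.elim_inl, Sum.elim_inr]
    · rw [hz1]; simp [Cfsg.quadFormOdd, Finsupp.single_apply]
    · rw [D.qe]; simp [Cfsg.quadFormOdd, Finsupp.single_apply]
    · rw [D.qf]; simp [Cfsg.quadFormOdd, Finsupp.single_apply]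
  · intro i j
    rw [hcomp, Refl.oddForm_coe]
    have sy : polar (⇑B) (b' i) (b' j) = polar (⇑B) (Sum.elim (fun _ => z) (Sum.elim D.e D.f) i)
        (Sum.elim (fun _ => z) (Sum.elim D.e D.f) j) := by rw [hb']
    rw [sy]
    have ze : ∀ i, polar (⇑B) z (D.e i) = 0 := fun i => by rw [QuadraticMap.polar_comm]; exact D.ek i _ hz
    have zf : ∀ i, polar (⇑B) z (D.f i) = 0 := fun i => by rw [QuadraticMap.polar_comm]; exact D.fk i _ hz
    have fe : ∀ i j, polar (⇑B) (D.f i) (D.e j) = if j = i then 1 else 0 := fun i j => by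
      rw [QuadraticMap.polar_comm]; exact D.ef j i
    rcases i with i | i | i <;> rcases j with j | j | j <;>
      simp only [Sum.elim_inl, Sum.elim_inr, D.ee, D.ff, D.ef, fe, ze, zf, D.ek _ _ hz, D.fk _ _ hz,
        FormNormal.polar_self' B, hz1] <;>
      simp [polar, Cfsg.quadFormOdd, Finsupp.single_apply, add_mul, mul_add, Finset.sum_add_distrib, eq_comm] <;>
      ring

theorem odd_case (hA : (polarBilin A).Nondegenerate) {m : ℕ} (hV : Module.finrank F V = 2 * m + 1) :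
    ∃ c : F, c ≠ 0 ∧ ∃ g : V ≃ₗ[F] (Unit ⊕ (Fin m ⊕ Fin m) → F), ∀ v, A v = c * Cfsg.quadFormOdd m F (g v) := by
  obtain ⟨D, z, hm, hz, hQz, hzi, hr⟩ := FormNormal.odd_basis hV hA
  subst hm
  obtain ⟨g, hg⟩ := odd_model (D.scale (A z)⁻¹ (inv_ne_zero hQz)) (z := z) hz
    (inv_mul_cancel₀ hQz) hzi hr
  refine ⟨A z, hQz, g, fun v => ?_⟩
  exact ((inv_mul_eq_iff_eq_mul₀ hQz).1 (hg v))

end Cfsg.Lib.OrthField
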