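import Cfsg.Agent.Known.OrthField.Std

/-!
Normal forms of field type automorphisms and transfer along conjugation.
-/

set_option autoImplicit false
set_option linter.unusedSectionVars false
set_option linter.style.haveILetI false

namespace Cfsg.Lib.OrthField

open Matrix Cfsg.Lib.Classical Cfsg.Lib.Classical.Refl Cfsg.Lib.OrthAut
open Cfsg.Lib.OrthSim (GO gm semiPO glS conjPO toGO scal semiPO_mul NN)
open Cfsg.Lib.OrthOut (semiMap_comp semiPO_congr conjPO_eq_semi pair_refl exists_semi)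

universe u

section Transfer

variable {X : Type*} [Group X] {H K : Subgroup X} {h x : X}

theorem conj_iff {y : X} (hh : h ∈ H) : Cfsg.IsConjUnder H (h * x * h⁻¹) y ↔ Cfsg.IsConjUnder H x y := by
  constructor
  · rintro ⟨k, hk, rfl⟩
    exact ⟨k * h, mul_mem hk hh, by group⟩
  · rintro ⟨k, hk, rfl⟩
    exact ⟨k * h⁻¹, mul_mem hk (inv_mem hh), by group⟩

theorem split_conj_mem (hh : h ∈ H) :
    Cfsg.splitClassCount H K (h * x * h⁻¹) = Cfsg.splitClassCount H K x :=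
  Nat.card_congr (Quot.congr (Equiv.subtypeEquivRight fun _ => conj_iff hh) fun _ _ => Iff.rfl)

theorem cent_conj_mem (hh : h ∈ H) :
    Nonempty (↥(H ⊓ Subgroup.centralizer {h * x * h⁻¹}) ≃* ↥(H ⊓ Subgroup.centralizer {x})) := by
  have key : (H ⊓ Subgroup.centralizer {x}).map (MulAut.conj h).toMonoidHom =
      H ⊓ Subgroup.centralizer {h * x * h⁻¹} := by
    ext y
    constructor
    · rintro ⟨k, ⟨hk, hc⟩, rfl⟩
      refine ⟨H.mul_mem (H.mul_mem hh hk) (H.inv_mem hh), Subgroup.mem_centralizer_singleton_iff.2 ?_⟩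
      show h * k * h⁻¹ * (h * x * h⁻¹) = h * x * h⁻¹ * (h * k * h⁻¹)
      calc h * k * h⁻¹ * (h * x * h⁻¹) = h * (k * x) * h⁻¹ := by group
        _ = _ := by rw [Subgroup.mem_centralizer_singleton_iff.1 hc]; group
    · rintro ⟨hy, hc⟩
      refine ⟨h⁻¹ * y * h, ⟨H.mul_mem (H.mul_mem (H.inv_mem hh) hy) hh, Subgroup.mem_centralizer_singleton_iff.2 ?_⟩, ?_⟩
      · calc h⁻¹ * y * h * x = h⁻¹ * (y * (h * x * h⁻¹)) * h := by group
          _ = _ := by rw [Subgroup.mem_centralizer_singleton_iff.1 hc]; group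
      · show h * (h⁻¹ * y * h) * h⁻¹ = y
        group
  exact ⟨((((H ⊓ Subgroup.centralizer {x}).equivMapOfInjective _ (MulAut.conj h).injective).trans
    (MulEquiv.subgroupCongr key))).symm⟩

end Transfer

variable {F : Type u} [Field F] [Fintype F] [DecidableEq F] {ι : Type} [Fintype ι] [DecidableEq ι]
  {Q : QuadraticForm F (ι → F)} {σ : F ≃+* F} (hσ : Fixes σ Q)

include hσ

/-- The standard field automorphism. -/
theorem eq_semiW_one {φ : MulAut (Cfsg.POmega F (⇑Q))} (h : Cfsg.IsFieldAutPOmegaOf (⇑Q) σ φ) :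
    φ = semiW hσ 1 :=
  (OrthSim.induced_semi_iff _ _ _ _).1 fun s s' e => h s s' (by simpa using e)

/-- A reflection followed by the standard field automorphism. -/
theorem eq_semiW_mul {φ γ : MulAut (Cfsg.POmega F (⇑Q))} {R : GO Q}
    (hγ : Cfsg.IsInducedBySemilinearPOmega (⇑Q) (R : GL ι F) (RingEquiv.refl F) γ)
    (h : Cfsg.IsFieldAutPOmegaOf (⇑Q) σ φ) : γ * φ = semiW hσ R := by
  rw [eq_semiW_one hσ h, (OrthSim.induced_iff Q R γ).1 hγ, conj_mul_semiW, mul_one]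

omit hσ in
/-- Field parts commute. -/
theorem galois_comm (σ τ : F ≃+* F) : σ * τ = τ * σ := by
  obtain ⟨p, hc⟩ := CharP.exists F
  haveI := Fact.mk (CharP.char_is_prime F p)
  obtain ⟨n, -, hn⟩ := FiniteField.card F p
  haveI := (Known.FieldLight.ringAut_facts (F := F) p n hn).1
  letI : CommGroup (F ≃+* F) := IsCyclic.commGroup
  exact mul_comm σ τ

/-- An element conjugate to a standard one, in normal form. -/
theorem normal_form (G : Good Q) (hH : Narrow Q) (hall : ∀ τ : F ≃+* F, Fixes τ Q)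
    {x α : MulAut (Cfsg.POmega F (⇑Q))} {g₀ : GO Q} (h : α * x * α⁻¹ = semiW hσ g₀) :
    ∃ (g : GO Q) (τ : F ≃+* F),
      x = semiW hσ (g * mapGO (ext_self (hall τ)) g₀ * (mapGO (ext_self hσ) g)⁻¹) := by
  obtain ⟨g', τ, hp, e⟩ := exists_semi G hH α⁻¹
  refine ⟨⟨g', go_of_pair (hall τ) hp⟩, τ, ?_⟩
  set g : GO Q := ⟨g', go_of_pair (hall τ) hp⟩
  have ex : x = α⁻¹ * semiW hσ g₀ * α⁻¹⁻¹ := by rw [← h]; group
  rw [ex, e, mul_inv_eq_iff_eq_mul, semiPO_mul hp (pair_go hσ g₀), semiPO_mul (pair_go hσ _) hp]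
  refine semiPO_congr _ _ (galois_comm τ σ).symm.symm fun v => ?_
  rw [semiMap_comp, semiMap_comp]
  show gm Q g *ᵥ (fun i => τ ((gm Q g₀ *ᵥ fun j => σ (v j)) i)) =
    gm Q (g * mapGO (ext_self (hall τ)) g₀ * (mapGO (ext_self hσ) g)⁻¹) *ᵥ
      fun i => σ ((gm Q g *ᵥ fun j => τ (v j)) i)
  have e1 : (fun i => σ ((gm Q g *ᵥ fun j => τ (v j)) i)) =
      gm Q (mapGO (ext_self hσ) g) *ᵥ fun i => σ (τ (v i)) := funext fun i => RingHom.map_mulVec σ.toRingHom _ _ i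
  have e2 : (fun i => τ ((gm Q g₀ *ᵥ fun j => σ (v j)) i)) =
      gm Q (mapGO (ext_self (hall τ)) g₀) *ᵥ fun i => τ (σ (v i)) := funext fun i => RingHom.map_mulVec τ.toRingHom _ _ i
  rw [e1, e2, mulVec_mulVec, mulVec_mulVec, ← OrthSim.gm_mul, ← OrthSim.gm_mul, inv_mul_cancel_right]
  exact congrArg _ (funext fun i => DFunLike.congr_fun (galois_comm τ σ) (v i))

theorem order_sigma (G : Good Q) (hH : Narrow Q) (hne : σ ≠ RingEquiv.refl F) {x α : MulAut (Cfsg.POmega F (⇑Q))}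
    {g₀ : GO Q} (h : α * x * α⁻¹ = semiW hσ g₀) {r : ℕ} (hr : r.Prime) (hxr : orderOf x = r) :
    orderOf σ = r ∧ semiW hσ g₀ ^ r = 1 := by
  have hp : semiW hσ g₀ ^ r = 1 := by
    rw [← h, conj_pow, ← hxr, pow_orderOf_eq_one, mul_one, mul_inv_cancel]
  haveI := Fact.mk hr
  exact ⟨orderOf_eq_prime (pow_semi G hH _ hp).1 hne, hp⟩

/-- Elements of prime order in an inner-diagonal coset. -/
theorem coset_iff (M : Subgroup (GO Q)) {w d g₀ : GO Q} (hd : d ∈ M) {r : ℕ}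
    (hxr : orderOf (semiW hσ w) = r)
    (hstd : ∀ w', (w' = w ∨ w' = d * w) → semiW hσ w' ^ r = 1 →
      ∃ x ∈ M, semiW hσ w' = conjPO Q x * semiW hσ g₀ * (conjPO Q x)⁻¹) :
    orderOf (conjPO Q d * semiW hσ w) = r ↔
      Cfsg.IsConjUnder (M.map (conjPO Q)) (semiW hσ w) (conjPO Q d * semiW hσ w) := by
  constructor
  · intro h
    obtain ⟨x, hx, e⟩ := hstd w (Or.inl rfl) (hxr ▸ pow_orderOf_eq_one _)
    have h' : semiW hσ (d * w) ^ r = 1 := by rw [← conj_mul_semiW, ← h, pow_orderOf_eq_one]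
    obtain ⟨y, hy, e'⟩ := hstd _ (Or.inr rfl) h'
    refine ⟨conjPO Q (y * x⁻¹), ⟨_, mul_mem hy (inv_mem hx), rfl⟩, ?_⟩
    rw [conj_mul_semiW, e', e, map_mul, map_inv]
    group
  · rintro ⟨h, -, e⟩
    rw [e, ← MulAut.conj_apply, MulEquiv.orderOf_eq (MulAut.conj h), hxr]

end Cfsg.Lib.OrthField
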