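import Cfsg.Agent.Known.OrthField.Classes
import Cfsg.Agent.Known.OrthField.Normal
import Cfsg.Agent.Known.OrthField.Classify
import Cfsg.Agent.Known.OrthSim.Plus
import Cfsg.Agent.Known.OrthSim.Minus
import Cfsg.Agent.Known.OrthOut.Odd

/-!
Field and graph-field automorphisms of prime order of `PΩ⁺_{2m}(q)`.
-/

set_option autoImplicit false
set_option linter.unusedSectionVars false
set_option linter.style.haveILetI false

namespace Cfsg.Lib.OrthField

open Matrix Cfsg.Lib.Classical Cfsg.Lib.Classical.Refl Cfsg.Lib.OrthAut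
open Cfsg.Lib.OrthSim (GO gm conjPO toGO scal NN lineSpace lineSpace_isMax)

universe u v

variable {F : Type u} [Field F] [Fintype F] [DecidableEq F] {m : ℕ}

local notation "ιP" => Fin m ⊕ Fin m
local notation "QP" => HypQuad.plusForm m F

theorem ext_plus {K : Type v} [Field K] [Fintype K] (e₀ : K →+* F) : Ext e₀ (HypQuad.plusForm m K) QP := fun v => by
  simp [HypQuad.plusForm_apply, Cfsg.quadFormPlus, map_sum]

theorem ext_minus {K : Type v} [Field K] [Fintype K] (e₀ : K →+* F) {k : ℕ} (a b : K) :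
    Ext e₀ (minusForm k K a b) (minusForm k F (e₀ a) (e₀ b)) := fun v => by
  simp [minusForm_coe, Cfsg.quadFormMinus]

theorem fixes_plus (σ : F ≃+* F) : Fixes σ QP := fun v => by
  simp [HypQuad.plusForm_apply, Cfsg.quadFormPlus, map_sum]

theorem good_plus (hm : 4 ≤ m) : Good (HypQuad.plusForm m F) :=
  ⟨HypQuad.plusForm_nondegenerate m, by simp; omega⟩

theorem narrow_plus (hm : 5 ≤ m) : Narrow (HypQuad.plusForm m F) := Or.inl (by simp; omega)

/-- The classes of the plus form. -/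
noncomputable def plusHyp (hm : 4 ≤ m) : Hyp (HypQuad.plusForm m F) m where
  nd := HypQuad.plusForm_nondegenerate m
  card := by simp; omega
  three := hm
  L := HypQuad.leftSpace m F
  hL := HypQuad.leftSpace_isMax m

variable (hm : 4 ≤ m)

/-- The class-preserving similitudes. -/
noncomputable abbrev MP : Subgroup (GO QP) := (eP (plusHyp hm)).ker

theorem inndiag_plus : OrthSim.inndiagP (⇑QP) = (MP hm).map (conjPO QP) :=
  OrthSim.closure_eq_map QP _ _ fun β =>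
    ⟨fun ⟨g, hg, hp, h⟩ =>
      ⟨⟨g, hg⟩, (preserves_iff (plusHyp hm) ⟨g, hg⟩).1 hp, (OrthSim.induced_iff QP ⟨g, hg⟩ β).1 h⟩,
      fun ⟨g, hg, h⟩ => ⟨g.1, g.2, (preserves_iff (plusHyp hm) g).2 hg, (OrthSim.induced_iff QP g β).2 h⟩⟩

theorem scal_mem_MP (a : Fˣ) : scal QP a ∈ MP hm := MonoidHom.mem_ker.2 (eP_scal _ a)

theorem isSim_field {ι : Type} [Fintype ι] {Q : QuadraticForm F (ι → F)} {σ : F ≃+* F} (hσ : Fixes σ Q) :
    IsSim Q Q σ (fun v i => σ (v i)) where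
  add x y := funext fun i => map_add σ _ _
  smul c x := funext fun i => map_mul σ _ _
  bij := ⟨fun x y h => funext fun i => σ.injective (congrFun h i),
    fun y => ⟨fun i => σ.symm (y i), funext fun i => σ.apply_symm_apply _⟩⟩
  sim := ⟨1, fun v => by rw [Units.val_one, one_mul]; exact hσ v⟩

theorem eP_field (τ : F ≃+* F) (x : GO QP) :
    eP (plusHyp hm) (mapGO (ext_self (fixes_plus τ)) x) = eP (plusHyp hm) x :=
  eP_conj _ _ rfl (isSim_field (fixes_plus τ)) x _ fun v =>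
    funext fun i => RingHom.map_mulVec τ.toRingHom _ _ i

theorem eP_refl {v : ιP → F} (hv : QP v ≠ 0) : eP (plusHyp hm) (toGO QP (refl QP v hv)) = -1 := by
  rw [eP_toGO, dickson_refl]

theorem refl_commute (σ : F ≃+* F) {v : ιP → F} (hv : QP v ≠ 0) (hfix : ∀ i, σ (v i) = v i) (u : ιP → F) :
    (fun i => σ ((gm QP (toGO QP (refl QP v hv)) *ᵥ u) i)) =
      gm QP (toGO QP (refl QP v hv)) *ᵥ fun i => σ (u i) := by
  rw [OrthSim.gm_toGO, show mat QP (refl QP v hv) = Cfsg.reflectionMatrix (⇑QP) v from coe_refl QP v hv,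
    mulVec_eq, mulVec_eq]
  have hv' : (fun i => σ (v i)) = v := funext hfix
  have hq : σ (QP v) = QP v := by rw [← fixes_plus σ, hv']
  have hp : σ (QuadraticMap.polar (⇑QP) v u) = QuadraticMap.polar (⇑QP) v (fun i => σ (u i)) := by
    have e : (fun i => σ ((v + u) i)) = v + fun i => σ (u i) := funext fun i => by simp [hfix]
    have hf : ∀ v, σ (QP v) = QP (fun i => σ (v i)) := fun v => (fixes_plus σ v).symm
    simp only [QuadraticMap.polar, map_sub, hf, e, hv']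
  funext i
  simp [hfix, hq, hp]

theorem same_line {k : ℕ} {ρ ρ' : F} (h : ρ ≠ ρ') :
    Module.finrank F ↥(LinearMap.range (lineSpace k ρ) ⊓ LinearMap.range (lineSpace k ρ')) = k := by
  set f : (Fin k → F) →ₗ[F] ((Fin k ⊕ Fin k) ⊕ Fin 2 → F) := (lineSpace k ρ) ∘ₗ LinearMap.inl F (Fin k → F) F
  have hinj : Function.Injective f := fun x y e => funext fun i => congrFun e (Sum.inl (Sum.inl i))
  have e : LinearMap.range (lineSpace k ρ) ⊓ LinearMap.range (lineSpace k ρ') = LinearMap.range f := by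
    refine le_antisymm ?_ (le_inf ?_ ?_)
    · rintro _ ⟨⟨p, rfl⟩, ⟨p', e⟩⟩
      have h0 : p'.2 = p.2 := by simpa [lineSpace] using congrFun e (Sum.inr 1)
      have h1 : p'.2 * ρ' = p.2 * ρ := by simpa [lineSpace] using congrFun e (Sum.inr 0)
      have hp : p.2 = 0 := by
        rw [h0] at h1
        by_contra hp
        exact h (mul_left_cancel₀ hp h1).symm
      exact ⟨p.1, by show lineSpace k ρ (p.1, 0) = _; rw [← hp]⟩
    · rintro _ ⟨x, rfl⟩
      exact ⟨(x, 0), rfl⟩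
    · rintro _ ⟨x, rfl⟩
      refine ⟨(x, 0), funext fun i => ?_⟩
      rcases i with (i | i) | i
      · rfl
      · rfl
      · fin_cases i <;> simp [f, lineSpace]
  rw [e, LinearMap.finrank_range_of_inj hinj, Module.finrank_fin_fun]

theorem semiMap_go_one (σ : F ≃+* F) (v : ιP → F) :
    semiMap ((1 : GO QP) : GL ιP F) σ v = fun i => σ (v i) := by simp [semiMap]

theorem eP_triv_plus {σ : F ≃+* F} {w : GO QP} (h : Triv QP QP (w : GL ιP F) σ) : eP (plusHyp hm) w = 1 := by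
  obtain ⟨x, hx⟩ := exists_intertwiner h (show Triv QP QP ((1 : GO QP) : GL ιP F) σ from triv_refl QP σ)
  have e : w * mapGO (ext_self (fixes_plus σ)) x = x := by
    refine OrthSim.go_ext QP (Matrix.toLin'.injective (LinearMap.ext fun v => ?_))
    obtain ⟨u, rfl⟩ : ∃ u : ιP → F, (fun i => σ (u i)) = v :=
      ⟨fun i => σ.symm (v i), funext fun i => σ.apply_symm_apply _⟩
    rw [Matrix.toLin'_apply, Matrix.toLin'_apply, OrthSim.gm_mul, ← mulVec_mulVec]
    have h2 : gm QP (mapGO (ext_self (fixes_plus σ)) x) *ᵥ (fun i => σ (u i)) = fun i => σ ((gm QP x *ᵥ u) i) :=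
      (funext fun i => RingHom.map_mulVec σ.toRingHom _ _ i).symm
    rw [h2]
    exact (hx u).trans (congrArg _ (semiMap_go_one σ u))
  have h1 := congrArg (eP (plusHyp hm)) e
  rwa [map_mul, eP_field, mul_eq_right] at h1

/-- The two possible shapes of a semisimilarity of prime order. -/
theorem plus_shape {K : Type v} [Field K] [Fintype K] {e₀ : K →+* F} {σ : F ≃+* F}
    (hfix : ∀ x, σ x = x ↔ x ∈ Set.range e₀) {r : ℕ} (hord : orderOf σ = r) (hr : r.Prime) {w : GO QP}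
    (h : ∀ v, (semiMap (w : GL ιP F) σ)^[r] v = v) :
    (Triv QP QP (w : GL ιP F) σ ∧ eP (plusHyp hm) w = 1) ∨
    (r = 2 ∧ eP (plusHyp hm) w = -1 ∧ ∀ ζ : K, (∀ t : K, t ^ 2 + t + ζ ≠ 0) →
      (∃ ρ : F, ρ ^ 2 + ρ + e₀ ζ = 0) ∧ Triv (minusForm (m - 1) F 1 (e₀ ζ)) QP (w : GL ιP F) σ) := by
  classical
  haveI : Nonempty ιP := ⟨Sum.inl ⟨0, by omega⟩⟩
  have hfix' : ∀ x, σ (e₀ x) = e₀ x := fun x => (hfix _).2 ⟨x, rfl⟩
  obtain ⟨q, T, c, hnd, hT, hc⟩ := exists_form (HypQuad.plusForm_nondegenerate m) hfix hord hr.pos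
    (pair_go (fixes_plus σ) w) h
  rcases even_cases hnd (m := m) (by simp; omega) with ⟨g, hg⟩ | ⟨k, hk, hkk⟩
  · have ht := triv_of_model hfix' hT hc (ext_plus (m := m) e₀) g one_ne_zero
      fun v => by rw [hg, one_mul, HypQuad.plusForm_apply]
    exact Or.inl ⟨ht, eP_triv_plus hm ht⟩
  refine Or.inr ?_
  obtain rfl : k = m - 1 := by omega
  have htriv : ∀ ζ : K, (∀ t : K, t ^ 2 + t + ζ ≠ 0) →
      Triv (minusForm (m - 1) F 1 (e₀ ζ)) QP (w : GL ιP F) σ := fun ζ hζ => by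
    obtain ⟨g, hg⟩ := hkk ζ hζ
    exact triv_of_model hfix' hT hc (by simpa using ext_minus e₀ (1 : K) ζ) g one_ne_zero
      fun v => by rw [hg, one_mul, minusForm_coe]
  have hroot : ∀ ζ : K, (∀ t : K, t ^ 2 + t + ζ ≠ 0) → ∃ ρ : F, ρ ^ 2 + ρ + e₀ ζ = 0 := by
    intro ζ hζ
    by_contra hne
    push Not at hne
    obtain ⟨T', c', -, hc'⟩ := htriv ζ hζ
    have hL := (plusHyp (F := F) hm).hL
    have h1 := minus_ts_le (m := m - 1) (a := (1 : F)) (b := e₀ ζ) (aniso_zeta hne)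
      (T := (plusHyp (F := F) hm).L.map T'.symm.toLinearMap) (by
        rintro _ ⟨x, hx, rfl⟩
        have h2 := hc' (T'.symm x)
        rw [T'.apply_symm_apply, hL.2 x hx] at h2
        exact (mul_eq_zero.1 h2.symm).resolve_left c'.ne_zero)
    rw [LinearEquiv.finrank_map_eq, hL.1] at h1
    omega
  obtain ⟨ζ, hζ⟩ := exists_zeta (F := K)
  obtain ⟨ρ, hρ⟩ := hroot ζ hζ
  have hroots : ∀ ρ' : F, ρ' ^ 2 + ρ' + e₀ ζ = 0 → ρ' = ρ ∨ ρ' = -1 - ρ := fun ρ' hρ' => by
    rcases mul_eq_zero.1 (show (ρ' - ρ) * (ρ' - (-1 - ρ)) = 0 by linear_combination hρ' - hρ) with e | e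
    · exact Or.inl (sub_eq_zero.1 e)
    · exact Or.inr (sub_eq_zero.1 e)
  have hρ' : (σ ρ) ^ 2 + σ ρ + e₀ ζ = 0 := by
    have := congrArg σ hρ
    rwa [map_add, map_add, map_pow, hfix', map_zero] at this
  have hne : σ ρ ≠ ρ := fun e => by
    obtain ⟨t, rfl⟩ := (hfix ρ).1 e
    exact hζ t (e₀.injective (by rw [map_zero, map_add, map_add, map_pow]; exact hρ))
  have hσσ : σ (σ ρ) = ρ := by
    rw [(hroots _ hρ').resolve_left hne, map_sub, map_neg, map_one, (hroots _ hρ').resolve_left hne]; ring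
  have hr2 : r = 2 := by
    rcases hr.eq_two_or_odd' with e | ⟨j, hj⟩
    · exact e
    · exfalso
      have h2 : ∀ n : ℕ, (σ ^ (2 * n)) ρ = ρ := fun n => by
        induction n with
        | zero => rfl
        | succ n ih =>
          rw [show 2 * (n + 1) = 2 * n + 1 + 1 by ring, pow_succ, pow_succ, RingAut.mul_apply, RingAut.mul_apply,
            hσσ, ih]
      have h3 : (σ ^ r) ρ = ρ := by rw [← hord, pow_orderOf_eq_one]; rfl
      rw [hj, pow_succ', RingAut.mul_apply, h2] at h3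
      exact hne h3
  refine ⟨hr2, ?_, fun ζ hζ => ⟨hroot ζ hζ, htriv ζ hζ⟩⟩
  obtain ⟨T', c', hT', hc'⟩ := htriv ζ hζ
  have hf : IsSim (minusForm (m - 1) F 1 (e₀ ζ)) QP (RingEquiv.refl F) T' :=
    ⟨T'.map_add, fun a x => by simp, T'.bijective, ⟨c', fun v => hc' v⟩⟩
  have hmm : m - 1 + 1 = m := by omega
  have hρ1 : ρ ^ 2 + 1 * ρ + e₀ ζ = 0 := by linear_combination hρ
  have hρ1' : (σ ρ) ^ 2 + 1 * σ ρ + e₀ ζ = 0 := by linear_combination hρ'
  have hW : HypQuad.IsMax (minusForm (m - 1) F 1 (e₀ ζ)) m (LinearMap.range (lineSpace (m - 1) ρ)) :=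
    hmm ▸ lineSpace_isMax hρ1
  have hW' : HypQuad.IsMax (minusForm (m - 1) F 1 (e₀ ζ)) m (LinearMap.range (lineSpace (m - 1) (σ ρ))) :=
    hmm ▸ lineSpace_isMax hρ1'
  set U := simg hf (LinearMap.range (lineSpace (m - 1) ρ))
  set U' := simg hf (LinearMap.range (lineSpace (m - 1) (σ ρ)))
  have hU : HypQuad.IsMax QP m U := isMax_simg hf hW
  have hnot : ¬ Same m U U' := by
    rw [same_simg, Same, same_line (Ne.symm hne), Nat.sub_sub_self (show 1 ≤ m by omega)]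
    exact Nat.not_even_one
  set hs := isSim_field (fixes_plus (m := m) σ)
  have hσU : HypQuad.IsMax QP m (simg hs U) := isMax_simg hs hU
  have hline : ∀ x, (fun i => σ (lineSpace (m - 1) ρ x i)) =
      lineSpace (m - 1) (σ ρ) ((fun i => σ (x.1 i)), σ x.2) := fun x => funext fun i => by
    rcases i with (i | i) | i
    · rfl
    · exact map_zero σ
    · fin_cases i <;> simp [lineSpace]
  have himg : img w (simg hs U) = U' := by
    refine Submodule.eq_of_le_of_finrank_le ?_ ?_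
    · rintro _ ⟨_, ⟨_, ⟨_, ⟨x, rfl⟩, rfl⟩, rfl⟩, rfl⟩
      exact ⟨_, ⟨((fun i => σ (x.1 i)), σ x.2), (hline x).symm⟩, (hT' (lineSpace (m - 1) ρ x)).symm⟩
    · rw [(isMax_img w hσU).1, (isMax_simg hf hW').1]
  have hL : simg hs (plusHyp (F := F) hm).L = (plusHyp hm).L := by
    refine Submodule.eq_of_le_of_finrank_le ?_ (finrank_simg _ _).ge
    rintro _ ⟨_, ⟨x, rfl⟩, rfl⟩
    refine ⟨fun i => σ (x i), funext fun i => ?_⟩
    rcases i with i | i <;> simp [Sum.inl_injective.extend_apply]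
  have hsame : Same m U (simg hs U) := by
    rw [same_trans (plusHyp hm) hU (plusHyp hm).hL hσU]
    conv_rhs => rw [← hL, same_simg]
    exact same_comm _ _
  refine (Int.units_eq_one_or _).resolve_left fun he => hnot ?_
  rw [← himg, same_trans (plusHyp hm) hU hσU (isMax_img w hσU)]
  exact iff_of_true hsame ((eP_iff' (plusHyp hm) w hσU).1 he)

include hm

/-- A fixed reflection. -/
theorem exists_fixed_vec : ∃ v : ιP → F, QP v ≠ 0 ∧ ∀ (σ : F ≃+* F) i, σ (v i) = v i := by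
  let i0 : Fin m := ⟨0, by omega⟩
  refine ⟨Pi.single (Sum.inl i0) 1 + Pi.single (Sum.inr i0) 1, ?_, fun σ i => ?_⟩
  · rw [HypQuad.plusForm_apply]
    simp [Cfsg.quadFormPlus, Pi.single_apply]
  · by_cases h1 : i = Sum.inl i0 <;> by_cases h2 : i = Sum.inr i0 <;> simp [h1, h2]

/-- The standard representative of a class. -/
noncomputable def stdP : ℤˣ → GO QP := fun s =>
  if s = 1 then 1 else toGO QP (refl QP (exists_fixed_vec hm).choose (exists_fixed_vec (F := F) hm).choose_spec.1)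

theorem eP_stdP (s : ℤˣ) : eP (plusHyp hm) (stdP (F := F) hm s) = s := by
  rcases Int.units_eq_one_or s with rfl | rfl
  · simp [stdP]
  · rw [stdP, if_neg (by decide), eP_refl]

theorem stdP_commute (σ : F ≃+* F) (s : ℤˣ) (u : ιP → F) :
    (fun i => σ ((gm QP (stdP hm s) *ᵥ u) i)) = gm QP (stdP hm s) *ᵥ fun i => σ (u i) := by
  rcases Int.units_eq_one_or s with rfl | rfl
  · simp [stdP, gm]
  · rw [stdP, if_neg (by decide)]
    exact refl_commute σ _ ((exists_fixed_vec (F := F) hm).choose_spec.2 σ) u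

theorem stdP_sq : stdP (F := F) (m := m) hm (-1) * stdP hm (-1) = 1 := by
  rw [stdP, if_neg (by decide), ← map_mul, refl_mul_self, map_one]

/-- Semisimilarities of prime order are conjugate to the standard one of their class. -/
theorem plus_conj_std (h5 : 5 ≤ m) {σ : F ≃+* F} {r : ℕ} (hord : orderOf σ = r) (hr : r.Prime) {w : GO QP}
    (h : semiW (fixes_plus σ) w ^ r = 1) (hs : eP (plusHyp hm) w = 1 ∨ r = 2) :
    ∃ x ∈ MP hm, semiW (fixes_plus σ) w =
      conjPO QP x * semiW (fixes_plus σ) (stdP hm (eP (plusHyp hm) w)) * (conjPO QP x)⁻¹ := by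
  classical
  haveI : Nonempty ιP := ⟨Sum.inl ⟨0, by omega⟩⟩
  let L : Subfield F := σ.toRingHom.eqLocusField (RingHom.id F)
  have hfix : ∀ x, σ x = x ↔ x ∈ Set.range L.subtype := fun x =>
    ⟨fun hx => ⟨⟨x, hx⟩, rfl⟩, by rintro ⟨y, rfl⟩; exact y.2⟩
  obtain ⟨a, ha⟩ := exists_normal (fixes_plus σ) (good_plus hm) (narrow_plus h5) hord hr.pos h
  have hea : eP (plusHyp hm) (scal QP a * w) = eP (plusHyp hm) w := by rw [map_mul, eP_scal, one_mul]
  set g₀ := stdP (F := F) hm (eP (plusHyp hm) w)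
  have hR : ∀ x : GO QP, x ∈ MP hm ∨ ∃ R : GO QP, x * R ∈ MP hm ∧
      ∀ v, semiMap (g₀ : GL ιP F) σ (gm QP R *ᵥ v) = gm QP R *ᵥ semiMap (g₀ : GL ιP F) σ v := by
    intro x
    rcases Int.units_eq_one_or (eP (plusHyp hm) x) with e | e
    · exact Or.inl (MonoidHom.mem_ker.2 e)
    refine Or.inr ⟨stdP hm (-1), MonoidHom.mem_ker.2 (by rw [map_mul, e, eP_stdP, neg_mul_neg, one_mul]), fun v => ?_⟩
    show gm QP g₀ *ᵥ (fun i => σ ((gm QP (stdP hm (-1)) *ᵥ v) i)) = gm QP (stdP hm (-1)) *ᵥ (gm QP g₀ *ᵥ _)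
    rw [stdP_commute, mulVec_mulVec, mulVec_mulVec, ← OrthSim.gm_mul, ← OrthSim.gm_mul]
    congr 2
    rcases Int.units_eq_one_or (eP (plusHyp hm) w) with e' | e' <;> simp only [g₀, e']
    rw [show stdP (F := F) (m := m) hm 1 = 1 from if_pos rfl, one_mul, mul_one]
  rcases plus_shape hm hfix hord hr ha with ⟨ht, he⟩ | ⟨hr2, he, ht⟩
  · rw [hea] at he
    refine conj_std (fixes_plus σ) (MP hm) a ht ?_ hR
    simp only [g₀, he]
    rw [show stdP (F := F) (m := m) hm 1 = 1 from if_pos rfl]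
    exact triv_refl QP σ
  · rw [hea] at he
    obtain ⟨ζ, hζ⟩ := exists_zeta (F := L)
    refine conj_std (fixes_plus σ) (MP hm) a (ht ζ hζ).2 ?_ hR
    simp only [g₀, he]
    have h2 : ∀ v, (semiMap ((stdP hm (-1) : GO QP) : GL ιP F) σ)^[r] v = v := fun v => by
      rw [hr2]
      show gm QP (stdP hm (-1)) *ᵥ (fun i => σ ((gm QP (stdP hm (-1)) *ᵥ fun j => σ (v j)) i)) = v
      rw [stdP_commute, mulVec_mulVec, ← OrthSim.gm_mul, stdP_sq]
      have hσ2 : σ ^ 2 = 1 := by rw [← hr2, ← hord, pow_orderOf_eq_one]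
      rw [pow_two] at hσ2
      funext i
      simp only [gm, OneMemClass.coe_one, Units.val_one, one_mulVec]
      exact DFunLike.congr_fun hσ2 (v i)
    rcases plus_shape hm hfix hord hr h2 with ⟨-, he'⟩ | ⟨-, -, ht'⟩
    · rw [eP_stdP] at he'; exact absurd he' (by decide)
    · exact (ht' ζ hζ).2

theorem plus_field_form (h5 : 5 ≤ m) {φ : (ιP → F) → F} (hφ : φ = ⇑QP) {x : MulAut (Cfsg.POmega F φ)}
    (hx : Cfsg.IsFieldAutClassPOmega φ x) {r : ℕ} (hr : r.Prime) (hxr : orderOf x = r) :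
    ∃ (σ : F ≃+* F), orderOf σ = r ∧ ∃ w : GO QP, HEq x (semiW (fixes_plus σ) w) ∧ eP (plusHyp hm) w = 1 := by
  classical
  subst hφ
  obtain ⟨α, ψ, σ, hne, hψ, e⟩ := hx
  have G := good_plus (F := F) hm
  have hH := narrow_plus (F := F) h5
  rw [eq_semiW_one (fixes_plus σ) hψ] at e
  obtain ⟨hord, -⟩ := order_sigma (fixes_plus σ) G hH hne e hr hxr
  obtain ⟨y, τ, hy⟩ := normal_form (fixes_plus σ) G hH fixes_plus e
  exact ⟨σ, hord, _, heq_of_eq hy, by
    rw [map_one (mapGO _), mul_one, map_mul, map_inv, eP_field, mul_inv_cancel]⟩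

/-- The definition of a graph-field automorphism, for any way of writing the form. -/
def GraphField (φ : (ιP → F) → F) (x : MulAut (Cfsg.POmega F φ)) : Prop :=
  ∃ (α γ ψ : MulAut (Cfsg.POmega F φ)) (σ : F ≃+* F) (v : ιP → F) (r : GL ιP F),
    σ ≠ RingEquiv.refl F ∧ φ v ≠ 0 ∧ (∀ i, σ (v i) = v i) ∧
    (r : Matrix ιP ιP F) = Cfsg.reflectionMatrix φ v ∧
    Cfsg.IsInducedBySemilinearPOmega φ r (RingEquiv.refl F) γ ∧
    Cfsg.IsFieldAutPOmegaOf φ σ ψ ∧ α * x * α⁻¹ = γ * ψ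

theorem plus_graph_form (h5 : 5 ≤ m) {φ : (ιP → F) → F} (hφ : φ = ⇑QP) {x : MulAut (Cfsg.POmega F φ)}
    (hx : GraphField φ x) {r : ℕ} (hr : r.Prime) (hxr : orderOf x = r) :
    r = 2 ∧ ∃ (σ : F ≃+* F), orderOf σ = r ∧ ∃ w : GO QP, HEq x (semiW (fixes_plus σ) w) ∧
      eP (plusHyp hm) w = -1 := by
  classical
  subst hφ
  obtain ⟨α, γ, ψ, σ, v, g, hne, hv, hvf, hg, hγ, hψ, e⟩ := hx
  have G := good_plus (F := F) hm
  have hH := narrow_plus (F := F) h5
  obtain rfl : g = ((toGO QP (refl QP v hv) : GO QP) : GL ιP F) := Units.ext (hg.trans (coe_refl QP v hv).symm)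
  rw [eq_semiW_mul (fixes_plus σ) hγ hψ] at e
  obtain ⟨hord, hp⟩ := order_sigma (fixes_plus σ) G hH hne e hr hxr
  obtain ⟨y, τ, hy⟩ := normal_form (fixes_plus σ) G hH fixes_plus e
  have he : eP (plusHyp hm) (y * mapGO (ext_self (fixes_plus τ)) (toGO QP (refl QP v hv)) *
      (mapGO (ext_self (fixes_plus σ)) y)⁻¹) = -1 := by
    rw [map_mul, map_mul, map_inv, eP_field, eP_field, eP_refl, mul_neg, mul_one, neg_mul, mul_inv_cancel]
  refine ⟨?_, σ, hord, _, heq_of_eq hy, he⟩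
  let L : Subfield F := σ.toRingHom.eqLocusField (RingHom.id F)
  have hfix : ∀ x, σ x = x ↔ x ∈ Set.range L.subtype := fun x =>
    ⟨fun hx => ⟨⟨x, hx⟩, rfl⟩, by rintro ⟨y, rfl⟩; exact y.2⟩
  obtain ⟨a, ha⟩ := exists_normal (fixes_plus σ) G hH hord hr.pos hp
  rcases plus_shape hm hfix hord hr ha with ⟨-, he'⟩ | ⟨h2, -, -⟩
  · rw [map_mul, eP_scal, one_mul, eP_refl] at he'; exact absurd he' (by decide)
  · exact h2

theorem plus_coset (h5 : 5 ≤ m) (φ : (ιP → F) → F) (hφ : φ = ⇑QP) (x δ : MulAut (Cfsg.POmega F φ))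
    (hx : Cfsg.IsFieldAutClassPOmega φ x ∨ GraphField φ x)
    {r : ℕ} (hr : r.Prime) (hxr : orderOf x = r) (hδ : δ ∈ OrthSim.inndiagP φ) :
    orderOf (δ * x) = r ↔ Cfsg.IsConjUnder (OrthSim.inndiagP φ) x (δ * x) := by
  subst hφ
  obtain ⟨σ, hord, w, hw, hs⟩ : ∃ (σ : F ≃+* F), orderOf σ = r ∧ ∃ w : GO QP,
      HEq x (semiW (fixes_plus σ) w) ∧ (eP (plusHyp hm) w = 1 ∨ r = 2) := by
    rcases hx with hx | hx
    · obtain ⟨σ, h1, w, h2, h3⟩ := plus_field_form hm h5 rfl hx hr hxr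
      exact ⟨σ, h1, w, h2, Or.inl h3⟩
    · obtain ⟨h0, σ, h1, w, h2, -⟩ := plus_graph_form hm h5 rfl hx hr hxr
      exact ⟨σ, h1, w, h2, Or.inr h0⟩
  obtain rfl := eq_of_heq hw
  rw [inndiag_plus hm] at hδ ⊢
  obtain ⟨d, hd, rfl⟩ := hδ
  refine coset_iff (fixes_plus σ) (MP hm) hd hxr (g₀ := stdP hm (eP (plusHyp hm) w)) fun w' hw' h => ?_
  have he : eP (plusHyp hm) w' = eP (plusHyp hm) w := by
    rcases hw' with rfl | rfl
    · rfl
    · rw [map_mul, MonoidHom.mem_ker.1 hd, one_mul]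
  rw [← he]
  exact plus_conj_std hm h5 hord hr h (he ▸ hs)

end Cfsg.Lib.OrthField
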