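import Cfsg.Agent.Known.OrthField.Semi
import Cfsg.Agent.Known.Sympl.FieldData

/-!
Semisimilarities `w σ` for a form with coefficients fixed by `σ`: conjugacy, centralisers and splitting of classes.
-/

set_option autoImplicit false
set_option linter.unusedSectionVars false
set_option linter.style.haveILetI false

namespace Cfsg.Lib.OrthField

open Matrix Cfsg.Lib.Classical Cfsg.Lib.Classical.Refl Cfsg.Lib.OrthAut
open Cfsg.Lib.OrthSim (GO gm semiPO glS conjPO toGO scal semiPO_mul NN)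
open Cfsg.Lib.OrthOut (semiMap_comp semiPO_congr conjPO_eq_semi pair_refl)

universe u v w

/-! ### Groups -/

/-- Classes into which a class splits under a normal subgroup. -/
theorem split_count_sup {Γ X : Type*} [Group Γ] [Group X] (ψ : Γ →* X) (N : Subgroup Γ) [N.Normal] (x : X) :
    Cfsg.splitClassCount ψ.range (N.map ψ) x = ((Subgroup.centralizer {x}).comap ψ ⊔ N).index := by
  set C := (Subgroup.centralizer {x}).comap ψ with hC
  set D := C ⊔ N with hD
  set rel := fun y z : {y : X // Cfsg.IsConjUnder ψ.range x y} => Cfsg.IsConjUnder (N.map ψ) y.1 z.1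
  have hequiv : Equivalence rel := by
    refine ⟨fun y => ⟨1, one_mem _, by group⟩, ?_, ?_⟩
    · rintro y z ⟨h, hh, e⟩
      exact ⟨h⁻¹, inv_mem hh, by rw [e]; group⟩
    · rintro y z w ⟨h, hh, e⟩ ⟨k, hk, e'⟩
      exact ⟨k * h, mul_mem hk hh, by rw [e', e]; group⟩
  have hmem : ∀ h : Γ, Cfsg.IsConjUnder ψ.range x (ψ h * x * (ψ h)⁻¹) := fun h => ⟨ψ h, ⟨h, rfl⟩, rfl⟩
  have key : ∀ h k : Γ, rel ⟨_, hmem h⟩ ⟨_, hmem k⟩ ↔ h⁻¹ * k ∈ D := by
    intro h k
    constructor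
    · rintro ⟨t, ⟨s, hs, rfl⟩, e⟩
      change ψ k * x * (ψ k)⁻¹ = _ at e
      have hc : k⁻¹ * s * h ∈ C := by
        show ψ _ ∈ Subgroup.centralizer {x}
        rw [Subgroup.mem_centralizer_singleton_iff, map_mul, map_mul, map_inv]
        calc (ψ k)⁻¹ * ψ s * ψ h * x
            = (ψ k)⁻¹ * (ψ s * (ψ h * x * (ψ h)⁻¹) * (ψ s)⁻¹) * ψ s * ψ h := by group
          _ = _ := by rw [← e]; group
      have e' : h⁻¹ * k = (h⁻¹ * s * h⁻¹⁻¹) * (k⁻¹ * s * h)⁻¹ := by group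
      rw [e']
      exact mul_mem (Subgroup.mem_sup_right (Subgroup.Normal.conj_mem ‹N.Normal› s hs h⁻¹))
        (Subgroup.mem_sup_left (inv_mem hc))
    · intro hhk
      obtain ⟨c, hc, n, hn, e⟩ := Subgroup.mem_sup_of_normal_right.1 hhk
      refine ⟨ψ (h * c * n * (h * c)⁻¹), ⟨_, Subgroup.Normal.conj_mem ‹N.Normal› n hn _, rfl⟩, ?_⟩
      have hk : k = h * (c * n) := by rw [e]; group
      have hcx : ψ c * x = x * ψ c := Subgroup.mem_centralizer_singleton_iff.1 hc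
      show ψ k * x * (ψ k)⁻¹ = _
      rw [hk]
      simp only [map_mul, map_inv]
      calc ψ h * (ψ c * ψ n) * x * (ψ h * (ψ c * ψ n))⁻¹
          = ψ h * ψ c * ψ n * x * (ψ h * ψ c * ψ n)⁻¹ := by group
        _ = ψ h * ψ c * ψ n * (ψ h * ψ c)⁻¹ * (ψ h * (ψ c * x) * (ψ c)⁻¹ * (ψ h)⁻¹) *
            (ψ h * ψ c * ψ n * (ψ h * ψ c)⁻¹)⁻¹ := by group
        _ = _ := by rw [hcx]; group
  rw [Cfsg.splitClassCount, Subgroup.index_eq_card]
  refine (Nat.card_congr (Equiv.ofBijective (Quotient.lift (s := QuotientGroup.leftRel D)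
    (fun h => Quot.mk rel ⟨_, hmem h⟩) ?_) ⟨?_, ?_⟩)).symm
  · intro h k hhk
    exact Quot.sound ((key h k).2 (QuotientGroup.leftRel_apply.1 hhk))
  · intro q q'
    induction q using Quotient.ind with
    | _ h =>
      induction q' using Quotient.ind with
      | _ k =>
        intro e
        exact Quotient.sound (QuotientGroup.leftRel_apply.2
          ((key h k).1 ((hequiv.eqvGen_iff).1 (Quot.eqvGen_exact e))))
  · intro q
    induction q using Quot.ind with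
    | _ y =>
      obtain ⟨y, t, ⟨h, rfl⟩, rfl⟩ := y
      exact ⟨Quotient.mk _ h, rfl⟩

theorem range_equiv {Y A B : Type*} [Group Y] [Group A] [Group B] (f : Y →* A) (g : Y →* B) (h : f.ker = g.ker) :
    Nonempty (f.range ≃* g.range) :=
  ⟨((QuotientGroup.quotientKerEquivRange f).symm.trans (QuotientGroup.quotientMulEquivOfEq h)).trans
    (QuotientGroup.quotientKerEquivRange g)⟩

/-! ### Semisimilarities with fixed coefficients -/

variable {F : Type u} [Field F] [Fintype F] [DecidableEq F] {ι : Type} [Fintype ι] [DecidableEq ι]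
  {Q : QuadraticForm F (ι → F)} {σ : F ≃+* F}

/-- The coefficients of the form are fixed. -/
def Fixes (σ : F ≃+* F) (Q : QuadraticForm F (ι → F)) : Prop := ∀ v : ι → F, Q (fun i => σ (v i)) = σ (Q v)

variable (hσ : Fixes σ Q)

include hσ

theorem pair_go (w : GO Q) : Cfsg.IsSemisimilarityPair (⇑Q) (w : GL ι F) σ := by
  obtain ⟨c, hc⟩ := w.2
  exact ⟨c, fun v => by rw [hc, hσ]⟩

theorem go_of_pair {g : GL ι F} (hp : Cfsg.IsSemisimilarityPair (⇑Q) g σ) : g ∈ GO Q := by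
  obtain ⟨c, hc⟩ := hp
  refine ⟨c, fun u => ?_⟩
  have h1 := hc fun i => σ.symm (u i)
  have e : (fun i => σ (σ.symm (u i))) = u := funext fun i => σ.apply_symm_apply _
  rw [e, ← hσ, e] at h1
  exact h1

/-- The automorphism of `w σ`. -/
noncomputable abbrev semiW (w : GO Q) : MulAut (Cfsg.POmega F (⇑Q)) := semiPO (w : GL ι F) σ (pair_go hσ w)

theorem conj_mul_semiW (d w : GO Q) : conjPO Q d * semiW hσ w = semiW hσ (d * w) := by
  rw [conjPO_eq_semi, semiPO_mul (pair_refl d) (pair_go hσ w)]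
  refine semiPO_congr _ _ (RingEquiv.ext fun _ => rfl) fun v => ?_
  rw [semiMap_comp]
  simp [semiMap, mulVec_mulVec, gm]

omit [DecidableEq F] in
/-- The field automorphism on similitudes. -/
theorem ext_self : Ext σ.toRingHom Q Q := fun v => hσ v

/-- Moving a similitude past `w σ`. -/
noncomputable def tw (w x : GO Q) : GO Q := w * mapGO (ext_self hσ) x * w⁻¹

theorem semiW_mul_conj (w x : GO Q) : semiW hσ w * conjPO Q x = conjPO Q (tw hσ w x) * semiW hσ w := by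
  rw [conjPO_eq_semi, conjPO_eq_semi, semiPO_mul (pair_go hσ w) (pair_refl x),
    semiPO_mul (pair_refl (tw hσ w x)) (pair_go hσ w)]
  refine semiPO_congr _ _ (RingEquiv.ext fun _ => rfl) fun v => ?_
  rw [semiMap_comp, semiMap_comp]
  show gm Q w *ᵥ (fun i => σ ((gm Q x *ᵥ fun j => v j) i)) =
    gm Q (tw hσ w x) *ᵥ fun i => (gm Q w *ᵥ fun j => σ (v j)) i
  rw [mulVec_mulVec, tw, OrthSim.gm_mul, OrthSim.gm_mul, gm_mapGO, mul_assoc, mul_assoc,
    show gm Q w⁻¹ * gm Q w = 1 by rw [← OrthSim.gm_mul, inv_mul_cancel]; rfl, mul_one, ← mulVec_mulVec]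
  exact congrArg _ (funext fun i => RingHom.map_mulVec σ.toRingHom _ _ i)

theorem iterate_scal_go (a : Fˣ) (w : GO Q) (k : ℕ) (v : ι → F) :
    (semiMap ((scal Q a * w : GO Q) : GL ι F) σ)^[k] v =
      (∏ i ∈ Finset.range k, (σ ^ i) (a : F)) • (semiMap (w : GL ι F) σ)^[k] v :=
  iterate_scal a (w : GL ι F) σ k v

theorem semiW_scal (a : Fˣ) (w : GO Q) : semiW hσ (scal Q a * w) = semiW hσ w :=
  (semiPO_congr _ _ rfl fun _ => rfl).trans (semiPO_scal (pair_go hσ w) a)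

/-- The possible `w` with `w σ` of order `r`, up to scalars, have trivial power. -/
theorem exists_normal (G : Good Q) (hH : Narrow Q) {r : ℕ} (hord : orderOf σ = r) (hr : 0 < r) {w : GO Q}
    (h : semiW hσ w ^ r = 1) :
    ∃ a : Fˣ, ∀ v, (semiMap ((scal Q a * w : GO Q) : GL ι F) σ)^[r] v = v := by
  haveI : Nonempty ι := Fintype.card_pos_iff.1 (by have := G.big; omega)
  obtain ⟨-, c, hc⟩ := pow_semi G hH (pair_go hσ w) h
  exact normalise hord hr hc

/-- Conjugacy to the standard element under a subgroup. -/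
theorem conj_std (M : Subgroup (GO Q)) {ι₁ : Type} [Fintype ι₁] [DecidableEq ι₁]
    {Q₁ : QuadraticForm F (ι₁ → F)} {w g₀ : GO Q} (a : Fˣ)
    (hw : Triv Q₁ Q ((scal Q a * w : GO Q) : GL ι F) σ) (h0 : Triv Q₁ Q (g₀ : GL ι F) σ)
    (hR : ∀ x : GO Q, x ∈ M ∨ ∃ R : GO Q, x * R ∈ M ∧
      ∀ v, semiMap (g₀ : GL ι F) σ (gm Q R *ᵥ v) = gm Q R *ᵥ semiMap (g₀ : GL ι F) σ v) :
    ∃ x ∈ M, semiW hσ w = conjPO Q x * semiW hσ g₀ * (conjPO Q x)⁻¹ := by
  obtain ⟨x, hx⟩ := exists_intertwiner hw h0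
  rw [← semiW_scal hσ a w]
  rcases hR x with h | ⟨R, h, hRc⟩
  · exact ⟨x, h, conj_of_intertwiner _ _ hx⟩
  · refine ⟨x * R, h, conj_of_intertwiner _ _ fun v => ?_⟩
    rw [OrthSim.gm_mul, ← mulVec_mulVec, hx, hRc, ← mulVec_mulVec]

omit hσ in
/-- Similitudes of the model as similitudes. -/
theorem exists_tGO {ι₁ : Type} [Fintype ι₁] [DecidableEq ι₁] {Q₁ : QuadraticForm F (ι₁ → F)}
    (T : (ι₁ → F) ≃ₗ[F] (ι → F)) {c : Fˣ} (hc : ∀ v, Q (T v) = (c : F) * Q₁ v) :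
    ∃ t : GO Q₁ →* GO Q, ∀ x v, gm Q (t x) *ᵥ T v = T (gm Q₁ x *ᵥ v) := by
  let f : GO Q₁ →* Matrix ι ι F :=
    { toFun := fun x => LinearMap.toMatrix' (T.toLinearMap ∘ₗ Matrix.mulVecLin (gm Q₁ x) ∘ₗ T.symm.toLinearMap)
      map_one' := by
        rw [← LinearMap.toMatrix'_id]
        congr 1
        ext v
        simp [gm]
      map_mul' := fun x y => by
        rw [← LinearMap.toMatrix'_comp]
        congr 1
        ext v
        simp [OrthSim.gm_mul, mulVec_mulVec] }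
  have hf : ∀ x v, ((f.toHomUnits x : GL ι F) : Matrix ι ι F) *ᵥ T v = T (gm Q₁ x *ᵥ v) := fun x v => by
    show LinearMap.toMatrix' _ *ᵥ T v = _
    rw [LinearMap.toMatrix'_mulVec]
    simp
  refine ⟨f.toHomUnits.codRestrict _ fun x => ?_, fun x v => hf x v⟩
  obtain ⟨d, hd⟩ := x.2
  refine ⟨d, fun u => ?_⟩
  obtain ⟨v, rfl⟩ := T.surjective u
  rw [hf, hc, hd, hc]
  ring

section Cent

variable {K : Type v} [Field K] [Fintype K] [DecidableEq K] {e₀ : K →+* F} {ι₁ : Type} [Fintype ι₁]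
  [DecidableEq ι₁] {q : QuadraticForm K (ι₁ → K)} {Q₁ : QuadraticForm F (ι₁ → F)} (hq : Ext e₀ q Q₁)
  {g₀ : GO Q} {T : (ι₁ → F) ≃ₗ[F] (ι → F)} {c : Fˣ}
  (hT : ∀ v, semiMap (g₀ : GL ι F) σ (T v) = T fun i => σ (v i)) (hc : ∀ v, Q (T v) = (c : F) * Q₁ v)
  {t : GO Q₁ →* GO Q} (ht : ∀ x v, gm Q (t x) *ᵥ T v = T (gm Q₁ x *ᵥ v))

include hT ht in
theorem map_commute (hfix : ∀ x, σ (e₀ x) = e₀ x) (b : GO q) :
    conjPO Q (t (mapGO hq b)) * semiW hσ g₀ = semiW hσ g₀ * conjPO Q (t (mapGO hq b)) := by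
  set x := t (mapGO hq b)
  suffices h : ∀ v, semiMap (g₀ : GL ι F) σ (gm Q x *ᵥ v) = gm Q x *ᵥ semiMap (g₀ : GL ι F) σ v by
    have := conj_of_intertwiner (pair_go hσ g₀) (pair_go hσ g₀) h
    exact (eq_mul_inv_iff_mul_eq.1 this).symm
  intro u
  obtain ⟨v, rfl⟩ := T.surjective u
  rw [ht, hT, hT, ht]
  refine congrArg T (funext fun i => ?_)
  simp only [gm_mapGO, mulVec, dotProduct, map_sum, map_mul, Matrix.map_apply, hfix]

include hT hc ht in
/-- The centraliser comes from the fixed field. -/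
theorem descend (G : Good Q) (hfix : ∀ x, σ x = x ↔ x ∈ Set.range e₀) {b : GO Q}
    (h : conjPO Q b * semiW hσ g₀ = semiW hσ g₀ * conjPO Q b) :
    ∃ (e : Fˣ) (b₀ : GO q), b = scal Q e * t (mapGO hq b₀) := by
  have h1 : conjPO Q (tw hσ g₀ b) = conjPO Q b := by
    have := (semiW_mul_conj hσ g₀ b).symm.trans h.symm
    exact mul_right_cancel this
  have hk : b⁻¹ * tw hσ g₀ b ∈ (conjPO Q).ker := by
    rw [MonoidHom.mem_ker, map_mul, map_inv, h1, inv_mul_cancel]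
  rw [OrthSim.conjPO_ker Q G.nd G.big] at hk
  obtain ⟨u, hu⟩ := hk
  have hcomm : ∀ v, semiMap (g₀ : GL ι F) σ (gm Q b *ᵥ v) = (u : F) • (gm Q b *ᵥ semiMap (g₀ : GL ι F) σ v) := by
    intro v
    have e : tw hσ g₀ b * g₀ = g₀ * mapGO (ext_self hσ) b := by rw [tw, inv_mul_cancel_right]
    have e2 : tw hσ g₀ b = scal Q u * b := by rw [OrthSim.scal_comm, hu, mul_inv_cancel_left]
    rw [e2] at e
    have e3 := congrArg (fun z : GO Q => gm Q z *ᵥ fun i => σ (v i)) e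
    simp only [OrthSim.gm_mul, ← mulVec_mulVec, OrthSim.gm_scal, smul_mulVec, one_mulVec, gm_mapGO] at e3
    rw [semiMap, semiMap, e3]
    exact congrArg _ (funext fun i => RingHom.map_mulVec σ.toRingHom _ _ i)
  set B : Matrix ι₁ ι₁ F := LinearMap.toMatrix' (T.symm.toLinearMap ∘ₗ Matrix.mulVecLin (gm Q b) ∘ₗ T.toLinearMap)
  have hB : ∀ v, gm Q b *ᵥ T v = T (B *ᵥ v) := fun v => by
    rw [LinearMap.toMatrix'_mulVec]; simp
  have hBσ : ∀ i j, σ (B i j) = (u : F) * B i j := fun i j => by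
    have h2 := hcomm (T (Pi.single j 1))
    rw [hB, hT, hT] at h2
    have e1 : (fun k => σ ((Pi.single j (1 : F) : ι₁ → F) k)) = Pi.single j 1 := by
      funext k; by_cases hk : k = j <;> simp [hk]
    rw [e1, hB, ← map_smul] at h2
    simpa [Matrix.mulVec_single] using congrFun (T.injective h2) i
  haveI : Nonempty ι₁ := by
    by_contra hne
    rw [not_nonempty_iff] at hne
    obtain ⟨i0⟩ : Nonempty ι := Fintype.card_pos_iff.1 (by have := G.big; omega)
    obtain ⟨v, hv⟩ := T.surjective (Pi.single i0 1)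
    rw [show v = 0 from funext fun i => isEmptyElim i, map_zero] at hv
    simpa using congrFun hv.symm i0
  obtain ⟨i, j, hij⟩ : ∃ i j, B i j ≠ 0 := by
    by_contra hne
    push Not at hne
    obtain ⟨i0⟩ := ‹Nonempty ι₁›
    have h2 : gm Q b *ᵥ T (Pi.single i0 1) = 0 := by
      rw [hB, show B = 0 from Matrix.ext hne, zero_mulVec, map_zero]
    have h3 := (mulVec_injective_iff_isUnit.2 (Units.isUnit (b : GL ι F))) (h2.trans (mulVec_zero _).symm)
    simpa using congrFun (T.map_eq_zero_iff.1 h3) i0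
  set e := B i j
  have hrange : ∀ k l, B k l / e ∈ Set.range e₀ := fun k l => (hfix _).1 (by
    rw [map_div₀, hBσ, hBσ, mul_div_mul_left _ _ u.ne_zero])
  choose B₀ hB₀ using hrange
  have hBmap : B = e • (Matrix.of B₀).map e₀ := by
    ext k l
    rw [Matrix.smul_apply, Matrix.map_apply, Matrix.of_apply, hB₀, smul_eq_mul, mul_div_cancel₀ _ hij]
  have hdet : (Matrix.of B₀).det ≠ 0 := by
    intro h0
    obtain ⟨v, hv, hv0⟩ := (Matrix.exists_mulVec_eq_zero_iff).2 h0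
    refine hv (funext fun k => e₀.injective ?_)
    have h2 : gm Q b *ᵥ T (⇑e₀ ∘ v) = 0 := by
      rw [hB, hBmap, smul_mulVec, ← map_mulVec', hv0,
        show ⇑e₀ ∘ (0 : ι₁ → K) = 0 from funext fun _ => map_zero e₀, smul_zero, map_zero]
    have h3 := (mulVec_injective_iff_isUnit.2 (Units.isUnit (b : GL ι F))) (h2.trans (mulVec_zero _).symm)
    exact (congrFun (T.map_eq_zero_iff.1 h3) k).trans (map_zero e₀).symm
  obtain ⟨d, hd⟩ := b.2
  have hq1 : ∀ v, Q₁ (B *ᵥ v) = (d : F) * Q₁ v := fun v => by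
    refine mul_left_cancel₀ c.ne_zero ?_
    rw [← hc, ← hB, hd, hc]
    ring
  have hμ : ∀ v : ι₁ → K, e₀ (q (Matrix.of B₀ *ᵥ v)) = (d : F) / (e * e) * e₀ (q v) := fun v => by
    rw [← hq, map_mulVec', ← hq]
    have := hq1 (⇑e₀ ∘ v)
    rw [hBmap, smul_mulVec, QuadraticMap.map_smul, smul_eq_mul] at this
    rw [div_mul_eq_mul_div, eq_div_iff (mul_ne_zero hij hij), ← this, mul_comm]
  obtain ⟨v0, hv0⟩ : ∃ v0, q v0 ≠ 0 := by
    by_contra hne
    push Not at hne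
    have hz : Q₁ = 0 := ext_base e₀ Q₁ 0 fun v => by rw [hq, hne, map_zero]; rfl
    obtain ⟨x, hx⟩ := OrthSim.exists_anisotropic Q G.nd G.big
    obtain ⟨y, rfl⟩ := T.surjective x
    rw [hc, hz] at hx
    simp at hx
  set μ : K := q (Matrix.of B₀ *ᵥ v0) / q v0
  have hμe : e₀ μ = (d : F) / (e * e) := by
    rw [map_div₀, hμ, mul_div_cancel_right₀ _ ((map_ne_zero e₀).2 hv0)]
  have hμ0 : μ ≠ 0 := fun h0 => by
    rw [h0, map_zero, eq_comm, div_eq_zero_iff] at hμe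
    exact hμe.elim d.ne_zero (mul_ne_zero hij hij)
  refine ⟨Units.mk0 e hij, ⟨Matrix.GeneralLinearGroup.mkOfDetNeZero _ hdet, Units.mk0 μ hμ0, fun v => e₀.injective
    (by rw [map_mul, Units.val_mk0, hμe]; exact hμ v)⟩, OrthSim.go_ext Q ?_⟩
  refine Matrix.toLin'.injective (LinearMap.ext fun u' => ?_)
  obtain ⟨v, rfl⟩ := T.surjective u'
  rw [Matrix.toLin'_apply, Matrix.toLin'_apply, hB, OrthSim.gm_mul, ← mulVec_mulVec, ht, OrthSim.gm_scal,
    smul_mulVec, one_mulVec, Units.val_mk0, ← map_smul, gm_mapGO, hBmap, smul_mulVec]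
  rfl

include hT hc ht in
theorem cent_eq (G : Good Q) (hfix : ∀ x, σ x = x ↔ x ∈ Set.range e₀) (M : Subgroup (GO Q))
    (hscal : ∀ a, scal Q a ∈ M) (M₀ : Subgroup (GO q)) (hM : ∀ b, t (mapGO hq b) ∈ M ↔ b ∈ M₀) :
    M.map (conjPO Q) ⊓ Subgroup.centralizer {semiW hσ g₀} =
      M₀.map ((conjPO Q).comp (t.comp (mapGO hq))) := by
  ext y
  constructor
  · rintro ⟨⟨b, hb, rfl⟩, hcen⟩
    obtain ⟨e, b₀, rfl⟩ := descend hσ hq hT hc ht G hfix (Subgroup.mem_centralizer_singleton_iff.1 hcen)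
    refine ⟨b₀, (hM b₀).1 ?_, ?_⟩
    · have := mul_mem (inv_mem (hscal e)) hb
      rwa [inv_mul_cancel_left] at this
    · show conjPO Q (t (mapGO hq b₀)) = _
      rw [map_mul, OrthSim.conjPO_scal, one_mul]
  · rintro ⟨b, hb, rfl⟩
    exact ⟨⟨_, (hM b).2 hb, rfl⟩, Subgroup.mem_centralizer_singleton_iff.2
      (map_commute hσ hq hT ht (fun x => (hfix _).2 ⟨x, rfl⟩) b)⟩

omit hσ in
include hT hc ht in
/-- The kernel on the fixed field. -/
theorem map_ker (G : Good Q) (G₀ : Good q) (b : GO q) : conjPO Q (t (mapGO hq b)) = 1 ↔ conjPO q b = 1 := by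
  rw [← MonoidHom.mem_ker, ← MonoidHom.mem_ker, OrthSim.conjPO_ker Q G.nd G.big,
    OrthSim.conjPO_ker q G₀.nd G₀.big]
  constructor
  · rintro ⟨a, ha⟩
    have h2 : ∀ v, gm Q₁ (mapGO hq b) *ᵥ v = (a : F) • v := fun v => T.injective (by
      rw [← ht, ← ha, OrthSim.gm_scal, smul_mulVec, one_mulVec, map_smul])
    have hb : ∀ i j, (gm q b i j : K) = if i = j then gm q b j j else 0 := fun i j => by
      have := congrFun (h2 (Pi.single j 1)) i
      have hjj := congrFun (h2 (Pi.single j 1)) j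
      simp [gm_mapGO, Matrix.mulVec_single, Pi.single_apply] at this hjj
      by_cases hij : i = j
      · subst hij; simp
      · rw [if_neg hij]
        refine e₀.injective ?_
        rw [map_zero, this, if_neg hij]
    obtain ⟨i0⟩ : Nonempty ι₁ := Fintype.card_pos_iff.1 (by have := G₀.big; omega)
    have hd : ∀ j, gm q b j j = gm q b i0 i0 := fun j => e₀.injective (by
      have h3 := congrFun (h2 (Pi.single j 1)) j
      have h4 := congrFun (h2 (Pi.single i0 1)) i0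
      simp [gm_mapGO, Matrix.mulVec_single] at h3 h4
      rw [h3, h4])
    have hne : gm q b i0 i0 ≠ 0 := fun h0 => by
      have h4 := congrFun (h2 (Pi.single i0 1)) i0
      simp [gm_mapGO, Matrix.mulVec_single, h0] at h4
      exact a.ne_zero h4.symm
    refine ⟨Units.mk0 _ hne, OrthSim.go_ext q ?_⟩
    ext i j
    rw [OrthSim.gm_scal, Matrix.smul_apply, Matrix.one_apply, hb i j, hd j, Units.val_mk0]
    split_ifs <;> simp
  · rintro ⟨a, rfl⟩
    refine ⟨Units.map e₀.toMonoidHom a, OrthSim.go_ext Q (Matrix.toLin'.injective (LinearMap.ext fun u => ?_))⟩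
    obtain ⟨v, rfl⟩ := T.surjective u
    rw [Matrix.toLin'_apply, Matrix.toLin'_apply, ht, mapGO_scal, OrthSim.gm_scal, OrthSim.gm_scal, smul_mulVec,
      one_mulVec, smul_mulVec, one_mulVec, map_smul]

include hT hc ht in
/-- The centraliser in the inner-diagonal group. -/
theorem cent_equiv (G : Good Q) (G₀ : Good q) (hfix : ∀ x, σ x = x ↔ x ∈ Set.range e₀) (M : Subgroup (GO Q))
    (hscal : ∀ a, scal Q a ∈ M) (M₀ : Subgroup (GO q)) (hM : ∀ b, t (mapGO hq b) ∈ M ↔ b ∈ M₀) :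
    Nonempty (↥(M.map (conjPO Q) ⊓ Subgroup.centralizer {semiW hσ g₀}) ≃* ↥(M₀.map (conjPO q))) := by
  rw [cent_eq hσ hq hT hc ht G hfix M hscal M₀ hM]
  have key := map_ker hq hT hc ht G G₀
  obtain ⟨e⟩ := range_equiv (((conjPO Q).comp (t.comp (mapGO hq))).comp M₀.subtype) ((conjPO q).comp M₀.subtype)
    (Subgroup.ext fun b => key b)
  exact ⟨(MulEquiv.subgroupCongr (by rw [MonoidHom.range_comp, Subgroup.range_subtype])).trans
    (e.trans (MulEquiv.subgroupCongr (by rw [MonoidHom.range_comp, Subgroup.range_subtype])))⟩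

include hT hc ht in
/-- Splitting of the class of the standard element. -/
theorem split_std (G : Good Q) (hfix : ∀ x, σ x = x ↔ x ∈ Set.range e₀) (M : Subgroup (GO Q))
    (hscal : ∀ a, scal Q a ∈ M) (M₀ : Subgroup (GO q)) (hM : ∀ b, t (mapGO hq b) ∈ M ↔ b ∈ M₀)
    (hNN : NN Q ≤ M) :
    Cfsg.splitClassCount (M.map (conjPO Q)) (Cfsg.Inn (Cfsg.POmega F (⇑Q))) (semiW hσ g₀) =
      (M₀.map (t.comp (mapGO hq)) ⊔ NN Q).relIndex M := by
  haveI := OrthSim.nn_normal Q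
  haveI : ((NN Q).subgroupOf M).Normal := inferInstance
  have hInn : Cfsg.Inn (Cfsg.POmega F (⇑Q)) = ((NN Q).subgroupOf M).map ((conjPO Q).comp M.subtype) := by
    rw [← Subgroup.map_map, Subgroup.map_subgroupOf_eq_of_le hNN]
    ext y
    rw [OrthSim.inn_eq]
    constructor
    · rintro ⟨x, ⟨s, hs, rfl⟩, rfl⟩
      exact ⟨toGO Q s, (OrthSim.mem_NN Q).2 ⟨1, s, hs, by rw [map_one, one_mul]⟩, rfl⟩
    · rintro ⟨x, hx, rfl⟩
      obtain ⟨a, s, hs, rfl⟩ := (OrthSim.mem_NN Q).1 hx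
      exact ⟨toGO Q s, ⟨s, hs, rfl⟩, by rw [map_mul, OrthSim.conjPO_scal, one_mul]⟩
  have hR : M.map (conjPO Q) = ((conjPO Q).comp M.subtype).range := by
    rw [MonoidHom.range_comp, Subgroup.range_subtype]
  rw [hR, hInn, split_count_sup, Subgroup.relIndex]
  congr 1
  refine le_antisymm (sup_le ?_ ?_) ?_
  · rintro ⟨b, hb⟩ hcen
    obtain ⟨e, b₀, rfl⟩ := descend hσ hq hT hc ht G hfix (Subgroup.mem_centralizer_singleton_iff.1 hcen)
    rw [Subgroup.mem_subgroupOf]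
    refine mul_mem (Subgroup.mem_sup_right ((OrthSim.mem_NN Q).2 ⟨e, 1, one_mem _, by rw [map_one, mul_one]⟩))
      (Subgroup.mem_sup_left ⟨b₀, (hM b₀).1 ?_, rfl⟩)
    have := mul_mem (inv_mem (hscal e)) hb
    rwa [inv_mul_cancel_left] at this
  · exact fun b hb => Subgroup.mem_sup_right hb
  · rintro ⟨y, hy⟩ hy'
    rw [Subgroup.mem_subgroupOf] at hy'
    obtain ⟨_, ⟨b, hb, rfl⟩, n, hn, e⟩ := Subgroup.mem_sup_of_normal_right.1 hy'
    change t (mapGO hq b) * n = y at e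
    subst e
    have e : (⟨t (mapGO hq b) * n, hy⟩ : M) = ⟨t (mapGO hq b), (hM b).2 hb⟩ * ⟨n, hNN hn⟩ := rfl
    rw [e]
    exact mul_mem (Subgroup.mem_sup_left (Subgroup.mem_centralizer_singleton_iff.2
      (map_commute hσ hq hT ht (fun x => (hfix _).2 ⟨x, rfl⟩) b))) (Subgroup.mem_sup_right hn)

end Cent

end Cfsg.Lib.OrthField
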