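import Cfsg.Agent.Known.OrthField.Normal

/-!
Transport of `PΩ` along a linear similitude and of class data along isomorphisms.
-/

set_option autoImplicit false
set_option linter.unusedSectionVars false
set_option linter.style.haveILetI false

namespace Cfsg.Lib.OrthField

open Matrix Cfsg.Lib.Classical Cfsg.Lib.Classical.Refl
open Cfsg.Lib.OrthSim (GO gm conjPO toGO scal NN)

universe u

section Group

variable {P P' : Type*} [Group P] [Group P'] (ψ : P ≃* P')

/-- Transport of automorphisms. -/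
def autT : MulAut P ≃* MulAut P' where
  toFun β := (ψ.symm.trans β).trans ψ
  invFun β := (ψ.trans β).trans ψ.symm
  left_inv β := MulEquiv.ext fun x => by simp
  right_inv β := MulEquiv.ext fun x => by simp
  map_mul' α β := MulEquiv.ext fun x => by simp [MulAut.mul_apply]

theorem autT_inn : (Cfsg.Inn P).map (autT ψ).toMonoidHom = Cfsg.Inn P' := by
  have key : ∀ s, autT ψ (MulAut.conj s) = MulAut.conj (ψ s) := fun s => MulEquiv.ext fun x => by
    show ψ (s * ψ.symm x * s⁻¹) = ψ s * x * (ψ s)⁻¹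
    rw [map_mul, map_mul, map_inv, MulEquiv.apply_symm_apply]
  ext β
  constructor
  · rintro ⟨_, ⟨s, rfl⟩, rfl⟩
    exact ⟨ψ s, (key s).symm⟩
  · rintro ⟨t, rfl⟩
    exact ⟨_, ⟨ψ.symm t, rfl⟩, (key _).trans (by rw [MulEquiv.apply_symm_apply])⟩

variable {X X' : Type*} [Group X] [Group X'] (Θ : X ≃* X') {H K : Subgroup X} {H' K' : Subgroup X'}

theorem conjUnder_map (hH : H.map Θ.toMonoidHom = H') (x y : X) :
    Cfsg.IsConjUnder H' (Θ x) (Θ y) ↔ Cfsg.IsConjUnder H x y := by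
  subst hH
  constructor
  · rintro ⟨_, ⟨h, hh, rfl⟩, e⟩
    exact ⟨h, hh, Θ.injective (by simpa using e)⟩
  · rintro ⟨h, hh, rfl⟩
    exact ⟨Θ h, ⟨h, hh, rfl⟩, by simp⟩

theorem split_map (hH : H.map Θ.toMonoidHom = H') (hK : K.map Θ.toMonoidHom = K') (x : X) :
    Cfsg.splitClassCount H' K' (Θ x) = Cfsg.splitClassCount H K x :=
  (Nat.card_congr (Quot.congr (Θ.toEquiv.subtypeEquiv fun y => (conjUnder_map Θ hH x y).symm)
    fun y z => (conjUnder_map Θ hK y.1 z.1).symm)).symm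

theorem cent_map (hH : H.map Θ.toMonoidHom = H') (x : X) :
    Nonempty (↥(H ⊓ Subgroup.centralizer {x}) ≃* ↥(H' ⊓ Subgroup.centralizer {Θ x})) := by
  subst hH
  have key : (H ⊓ Subgroup.centralizer {x}).map Θ.toMonoidHom =
      H.map Θ.toMonoidHom ⊓ Subgroup.centralizer {Θ x} := by
    ext y
    constructor
    · rintro ⟨h, ⟨hh, hc⟩, rfl⟩
      refine ⟨⟨h, hh, rfl⟩, Subgroup.mem_centralizer_singleton_iff.2 ?_⟩
      show Θ h * Θ x = Θ x * Θ h
      rw [← map_mul, Subgroup.mem_centralizer_singleton_iff.1 hc, map_mul]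
    · rintro ⟨⟨h, hh, rfl⟩, hc⟩
      refine ⟨h, ⟨hh, Subgroup.mem_centralizer_singleton_iff.2 (Θ.injective ?_)⟩, rfl⟩
      rw [map_mul, map_mul]
      exact Subgroup.mem_centralizer_singleton_iff.1 hc
  exact ⟨(Subgroup.equivMapOfInjective _ _ Θ.injective).trans (MulEquiv.subgroupCongr key)⟩

theorem center_map {A B : Type*} [Group A] [Group B] (e : A ≃* B) :
    (Subgroup.center A).map e.toMonoidHom = Subgroup.center B := by
  ext y
  constructor
  · rintro ⟨x, hx, rfl⟩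
    refine Subgroup.mem_center_iff.2 fun z => e.symm.injective ?_
    simp [Subgroup.mem_center_iff.1 hx (e.symm z)]
  · intro hy
    refine ⟨e.symm y, Subgroup.mem_center_iff.2 fun z => e.injective ?_, e.apply_symm_apply y⟩
    simp [Subgroup.mem_center_iff.1 hy (e z)]

end Group

variable {F : Type u} [Field F] [Fintype F] [DecidableEq F]

/-- A homomorphism of similitude groups carrying isometries to isometries carries `NN` into `NN`. -/
theorem map_NN_le {ι ι₁ : Type} [Fintype ι] [DecidableEq ι] [Fintype ι₁] [DecidableEq ι₁]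
    {Q : QuadraticForm F (ι → F)} {Q₁ : QuadraticForm F (ι₁ → F)} {T : (ι₁ → F) ≃ₗ[F] (ι → F)} {c : Fˣ}
    (hc : ∀ v, Q (T v) = (c : F) * Q₁ v) {t : GO Q₁ →* GO Q}
    (ht : ∀ x v, gm Q (t x) *ᵥ T v = T (gm Q₁ x *ᵥ v)) : (NN Q₁).map t ≤ NN Q := by
  have hiso : ∀ s : Cfsg.isometryGroup F (⇑Q₁), (t (toGO Q₁ s) : GL ι F) ∈ Cfsg.isometryGroup F (⇑Q) := fun s => by
    refine (mem_iff Q).2 fun u => ?_
    obtain ⟨v, rfl⟩ := T.surjective u
    show Q (gm Q (t (toGO Q₁ s)) *ᵥ T v) = _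
    rw [ht, hc, hc, OrthSim.gm_toGO, (mem_iff Q₁).1 s.2]
  let h : Cfsg.isometryGroup F (⇑Q₁) →* Cfsg.isometryGroup F (⇑Q) :=
    (((GO Q).subtype.comp t).comp (toGO Q₁)).codRestrict _ hiso
  rintro _ ⟨x, hx, rfl⟩
  obtain ⟨a, s, hs, rfl⟩ := (OrthSim.mem_NN Q₁).1 hx
  refine (OrthSim.mem_NN Q).2 ⟨a, h s, ?_, ?_⟩
  · have : (commutator (Cfsg.isometryGroup F (⇑Q₁))).map h ≤ commutator (Cfsg.isometryGroup F (⇑Q)) := by
      rw [commutator_def, Subgroup.map_commutator, commutator_def]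
      exact Subgroup.commutator_mono le_top le_top
    exact this (Subgroup.mem_map_of_mem h hs)
  · rw [map_mul, show toGO Q (h s) = t (toGO Q₁ s) from Subtype.ext rfl]
    congr 1
    refine OrthSim.go_ext Q (Matrix.toLin'.injective (LinearMap.ext fun u => ?_))
    obtain ⟨v, rfl⟩ := T.surjective u
    rw [Matrix.toLin'_apply, Matrix.toLin'_apply, ht, OrthSim.gm_scal, OrthSim.gm_scal, smul_mulVec, one_mulVec,
      smul_mulVec, one_mulVec, map_smul]

variable {ι : Type} [Fintype ι] [DecidableEq ι] {Q Q' : QuadraticForm F (ι → F)} {g : GL ι F} {c : Fˣ}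
  (hg : ∀ v, Q ((g : Matrix ι ι F) *ᵥ v) = (c : F) * Q' v)

include hg

theorem iso_map : (Cfsg.isometryGroup F (⇑Q')).map (MulAut.conj g).toMonoidHom = Cfsg.isometryGroup F (⇑Q) := by
  have hginv : ∀ u, (c : F) * Q' (((g⁻¹ : GL ι F) : Matrix ι ι F) *ᵥ u) = Q u := fun u => by
    rw [← hg, mulVec_mulVec, ← Units.val_mul, mul_inv_cancel, Units.val_one, one_mulVec]
  ext y
  constructor
  · rintro ⟨x, hx, rfl⟩
    refine (mem_iff Q).2 fun u => ?_
    show Q ((((g * x * g⁻¹ : GL ι F)) : Matrix ι ι F) *ᵥ u) = Q u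
    rw [Units.val_mul, Units.val_mul, ← mulVec_mulVec, ← mulVec_mulVec, hg, (mem_iff Q').1 hx, hginv]
  · intro hy
    refine ⟨g⁻¹ * y * g, (mem_iff Q').2 fun v => mul_left_cancel₀ c.ne_zero ?_, ?_⟩
    · rw [Units.val_mul, Units.val_mul, ← mulVec_mulVec, ← mulVec_mulVec, hginv, (mem_iff Q).1 hy, hg]
    · show g * (g⁻¹ * y * g) * g⁻¹ = y
      group

/-- Similitudes along a similitude of forms. -/
def goT : GO Q' →* GO Q :=
  ((MulAut.conj g).toMonoidHom.comp (GO Q').subtype).codRestrict _ fun x => by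
    obtain ⟨d, hd⟩ := x.2
    refine ⟨d, fun u => ?_⟩
    show Q (((g * (x : GL ι F) * g⁻¹ : GL ι F) : Matrix ι ι F) *ᵥ u) = _
    rw [Units.val_mul, Units.val_mul, ← mulVec_mulVec, ← mulVec_mulVec, hg, hd]
    have h1 := hg (((g⁻¹ : GL ι F) : Matrix ι ι F) *ᵥ u)
    rw [mulVec_mulVec, ← Units.val_mul, mul_inv_cancel, Units.val_one, one_mulVec] at h1
    rw [h1]
    ring

theorem gm_goT (x : GO Q') (v : ι → F) : gm Q (goT hg x) *ᵥ ((g : Matrix ι ι F) *ᵥ v) =
    (g : Matrix ι ι F) *ᵥ (gm Q' x *ᵥ v) := by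
  show ((g * (x : GL ι F) * g⁻¹ : GL ι F) : Matrix ι ι F) *ᵥ _ = _
  rw [mulVec_mulVec, mulVec_mulVec, ← Units.val_mul, inv_mul_cancel_right, Units.val_mul]

/-- An isomorphism of `PΩ` along a similitude of forms, intertwining the actions of similitudes. -/
theorem exists_poT : ∃ ψ : Cfsg.POmega F (⇑Q') ≃* Cfsg.POmega F (⇑Q),
    ∀ x, autT ψ (conjPO Q' x) = conjPO Q (goT hg x) := by
  let e : Cfsg.isometryGroup F (⇑Q') ≃* Cfsg.isometryGroup F (⇑Q) :=
    ((Cfsg.isometryGroup F (⇑Q')).equivMapOfInjective _ (MulAut.conj g).injective).trans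
      (MulEquiv.subgroupCongr (iso_map hg))
  have he : (commutator (Cfsg.isometryGroup F (⇑Q'))).map e.toMonoidHom = commutator (Cfsg.isometryGroup F (⇑Q)) := by
    rw [commutator_def, Subgroup.map_commutator, Subgroup.map_top_of_surjective _ e.surjective, commutator_def]
  let eO : Cfsg.Omega F (⇑Q') ≃* Cfsg.Omega F (⇑Q) :=
    ((Cfsg.Omega F (⇑Q')).equivMapOfInjective _ e.injective).trans (MulEquiv.subgroupCongr he)
  let ψ : Cfsg.POmega F (⇑Q') ≃* Cfsg.POmega F (⇑Q) := QuotientGroup.congr _ _ eO (center_map eO)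
  refine ⟨ψ, fun x => (OrthSim.induced_iff Q (goT hg x) _).1 fun s s' h => ?_⟩
  show ψ (conjPO Q' x (ψ.symm (QuotientGroup.mk s))) = QuotientGroup.mk s'
  have h0 : ψ.symm (QuotientGroup.mk s) = QuotientGroup.mk (eO.symm s) :=
    ψ.symm_apply_eq.2 (congrArg QuotientGroup.mk (eO.apply_symm_apply s).symm)
  rw [h0, OrthSim.conjPO_apply]
  refine congrArg QuotientGroup.mk (Subtype.ext (Subtype.ext (Units.ext ?_)))
  rw [h]
  have h1 : g * ((eO.symm s).1 : GL ι F) * g⁻¹ = (s.1 : GL ι F) :=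
    congrArg (fun z : Cfsg.Omega F (⇑Q) => (z.1 : GL ι F)) (eO.apply_symm_apply s)
  show ((g * ((x : GL ι F) * ((eO.symm s).1 : GL ι F) * (x : GL ι F)⁻¹) * g⁻¹ : GL ι F) : Matrix ι ι F) = _
  rw [show (g * ((x : GL ι F) * ((eO.symm s).1 : GL ι F) * (x : GL ι F)⁻¹) * g⁻¹ : GL ι F) =
    (g * (x : GL ι F) * g⁻¹) * (g * ((eO.symm s).1 : GL ι F) * g⁻¹) * (g * (x : GL ι F) * g⁻¹)⁻¹ by group, h1,
    Units.val_mul, Units.val_mul]
  simp only [RingEquiv.coe_refl, Matrix.map_id]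
  rfl

end Cfsg.Lib.OrthField
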