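import Cfsg.Agent.Known.OrthField.Base
import Cfsg.Agent.Known.OrthSim.Semi

/-!
Spinor norms of isometries defined over a subfield.
-/

set_option autoImplicit false
set_option linter.unusedSectionVars false
set_option linter.style.haveILetI false

namespace Cfsg.Lib.OrthField

open Matrix Cfsg.Lib.Classical Cfsg.Lib.Classical.Refl
open Cfsg.Lib.OrthSim (GO gm toGO scal)

universe u v

variable {K : Type v} [Field K] [Fintype K] [DecidableEq K] {F : Type u} [Field F] [Fintype F] [DecidableEq F]
  {e₀ : K →+* F} {ι : Type} [Fintype ι] [DecidableEq ι] {q : QuadraticForm K (ι → K)} {Q : QuadraticForm F (ι → F)}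

theorem two_ne (e : K →+* F) (h2 : (2 : F) ≠ 0) : (2 : K) ≠ 0 := fun h => h2 (by rw [← map_ofNat e, h, map_zero])

/-- An element of the subfield that becomes a square is a square, for an odd-order automorphism. -/
theorem nonsquare_map (h2 : (2 : F) ≠ 0) {σ : F ≃+* F} {r : ℕ} (hfix : ∀ x, σ x = x ↔ x ∈ Set.range e₀)
    (hord : orderOf σ = r) (hr : Odd r) {ν : K} (hν : ¬ IsSquare ν) : ¬ IsSquare (e₀ ν) := by
  rintro ⟨x, hx⟩
  have h1 : σ x * σ x = x * x := by rw [← map_mul, ← hx, (hfix _).2 ⟨ν, rfl⟩]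
  rcases mul_self_eq_mul_self_iff.1 h1 with h | h
  · obtain ⟨y, rfl⟩ := (hfix x).1 h
    exact hν ⟨y, e₀.injective (by rw [hx, map_mul])⟩
  · have hpow : ∀ n : ℕ, (σ ^ n) x = (-1) ^ n * x := fun n => by
      induction n with
      | zero => simp
      | succ n ih => rw [pow_succ', RingAut.mul_apply, ih, map_mul, map_pow, map_neg, map_one, h]; ring
    have h3 := hpow r
    rw [← hord, pow_orderOf_eq_one, hord, hr.neg_one_pow, neg_one_mul] at h3
    have h4 : (2 : F) * x = 0 := by
      have : x = -x := h3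
      linear_combination this
    rw [(mul_eq_zero.1 h4).resolve_left h2, mul_zero] at hx
    exact hν ⟨0, e₀.injective (by rw [hx, mul_zero, map_zero])⟩

theorem square_map (h2 : (2 : F) ≠ 0) {σ : F ≃+* F} (hfix : ∀ x, σ x = x ↔ x ∈ Set.range e₀)
    (hord : orderOf σ = 2) (ν : K) : IsSquare (e₀ ν) := by
  refine OrthSim.isSquare_of_fixed h2 (fun x => ?_) ?_ ((hfix _).2 ⟨ν, rfl⟩)
  · have h := pow_orderOf_eq_one σ
    rw [hord, pow_two] at h
    exact DFunLike.congr_fun h x
  · by_contra hne
    push Not at hne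
    have h : σ = 1 := RingEquiv.ext hne
    rw [h, orderOf_one] at hord
    omega

variable (hq : Ext e₀ q Q) (h2 : (2 : F) ≠ 0) (hQ : (QuadraticMap.polarBilin Q).Nondegenerate)
  (hn : 2 ≤ Fintype.card ι)

include hq h2 hQ hn

/-- Some isometry of the subfield has nontrivial spinor norm. -/
theorem exists_spin_map (hqn : (QuadraticMap.polarBilin q).Nondegenerate) {ν : K} (hns : ¬ IsSquare (e₀ ν)) :
    ∃ s : Cfsg.isometryGroup K (⇑q), detHom Q (mapIso hq s) = 1 ∧ spin Q (mapIso hq s) = -1 := by
  classical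
  have hν : ν ≠ 0 := fun h => hns (by rw [h, map_zero]; exact IsSquare.zero)
  have hval : ∀ c : K, c ≠ 0 → ∃ x, q x = c := fun c hc => by
    obtain ⟨x, -, hx⟩ := FormNormal.exists_value q ⊤ (FormNormal.nd_top q hqn)
      (by rw [finrank_top, Module.finrank_fintype_fun_eq_card]; exact hn) c hc
    exact ⟨x, hx⟩
  obtain ⟨x, hx⟩ := hval 1 one_ne_zero
  obtain ⟨y, hy⟩ := hval ν hν
  refine ⟨refl q x (by rw [hx]; exact one_ne_zero) * refl q y (by rw [hy]; exact hν), ?_, ?_⟩
  · rw [map_mul, map_mul, mapIso_refl, mapIso_refl, detHom_refl, detHom_refl, neg_mul_neg, one_mul]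
  · rw [map_mul, mapIso_refl, mapIso_refl]
    refine OrthSim.spin_refl_mul h2 hQ hn _ _ ?_
    rw [hq, hq, hx, hy, map_one, one_mul]
    exact hns

/-- Rotations over a subfield of squares have trivial spinor norm. -/
theorem spin_map_trivial (hqn : (QuadraticMap.polarBilin q).Nondegenerate)
    (h : Fintype.card K ≠ 2 ∨ Fintype.card ι ≠ 4) (hsq : ∀ ν : K, IsSquare (e₀ ν))
    {s : Cfsg.isometryGroup K (⇑q)} (hs : detHom Q (mapIso hq s) = 1) : spin Q (mapIso hq s) = 1 := by
  classical
  obtain ⟨a, ha⟩ := OmegaCls.exists_ne_zero hqn (by omega)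
  set ε := spin Q (refl Q (⇑e₀ ∘ a) (ext_ne hq ha))
  have key : spin Q (mapIso hq s) = if ε = 1 then 1 else (if detHom Q (mapIso hq s) = 1 then 1 else -1) := by
    have hneg : (-1 : Fˣ) ≠ 1 := fun e => h2 (by
      have := congrArg Units.val e
      simp at this
      linear_combination -this)
    clear hs
    induction mem_closure_refl q hqn h s using Subgroup.closure_induction with
    | mem r hr =>
      obtain ⟨v, hv, rfl⟩ := hr
      rw [mapIso_refl hq hv, detHom_refl, if_neg hneg]
      have e : spin Q (refl Q (⇑e₀ ∘ v) (ext_ne hq hv)) = ε :=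
        (spin_eq_iff Q h2 hQ hn _ _).2 (by rw [hq, hq, ← map_mul]; exact hsq _)
      rw [e]
      rcases Int.units_eq_one_or ε with e' | e' <;> simp [e']
    | one => simp
    | mul x y _ _ hx hy =>
      rw [map_mul, map_mul, map_mul, hx, hy]
      have pm : ∀ z : Cfsg.isometryGroup F (⇑Q), detHom Q z = 1 ∨ detHom Q z = -1 := fun z => by
        have := det_dickson' h2 hQ z
        rcases Int.units_eq_one_or (dickson Q hQ z) with e | e <;> rw [e] at this
        · exact Or.inl (Units.ext (by simpa using this))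
        · exact Or.inr (Units.ext (by simpa using this))
      by_cases he : ε = 1
      · simp [he]
      rcases pm (mapIso hq x) with e | e <;> rcases pm (mapIso hq y) with e' | e' <;>
        simp [he, e, e', hneg]
    | inv x _ hx =>
      rw [map_inv, map_inv, map_inv, hx, Int.units_inv_eq_self]
      simp only [inv_eq_one]
  rw [key, hs]
  simp
where
  det_dickson' (h2 : (2 : F) ≠ 0) (hQ : (QuadraticMap.polarBilin Q).Nondegenerate)
      (z : Cfsg.isometryGroup F (⇑Q)) : ((detHom Q z : Fˣ) : F) = ((dickson Q hQ z : ℤ) : F) :=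
    OmegaCls.det_dickson h2 hQ z

end Cfsg.Lib.OrthField
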