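import Cfsg.Agent.Known.OrthField.MinusClasses
import Cfsg.Agent.Known.OrthField.Transport
import Cfsg.Agent.Known.OrthField.Spin
import Cfsg.Agent.Known.OrthField.Classify
import Cfsg.Agent.Known.OrthOut.Minus

/-!
Field automorphisms of prime order of `PΩ⁻_{2k+2}(q)`.
-/

set_option autoImplicit false
set_option linter.unusedSectionVars false
set_option linter.style.haveILetI false

namespace Cfsg.Lib.OrthField

open Matrix Cfsg.Lib.Classical Cfsg.Lib.Classical.Refl Cfsg.Lib.OrthAut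
open Cfsg.Lib.OrthSim (GO gm conjPO toGO scal NN minusD Aniso mu inndiagM)
open Cfsg.Lib.OrthOut (good_minus narrow_minus)

universe u v

variable {F : Type u} [Field F] [Fintype F] [DecidableEq F] {k : ℕ}

local notation "ιM" => (Fin k ⊕ Fin k) ⊕ Fin 2

theorem fixes_minus {σ : F ≃+* F} {a b : F} (ha : σ a = a) (hb : σ b = b) : Fixes σ (minusForm k F a b) := fun v => by
  simp [minusForm_coe, Cfsg.quadFormMinus, map_sum, ha, hb]

variable (hk : 3 ≤ k) {a b : F} (hab : Aniso a b)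

include hk hab

theorem exists_minus_similitude {a' b' : F} (hab' : Aniso a' b') :
    ∃ (g : GL ιM F) (c : Fˣ), ∀ v, minusForm k F a' b' ((g : Matrix ιM ιM F) *ᵥ v) = (c : F) * minusForm k F a b v := by
  obtain ⟨ζ, hζ⟩ := exists_zeta (F := F)
  have hV : Module.finrank F (ιM → F) = 2 * (k + 1) := by simp; omega
  obtain ⟨e₁, he₁⟩ := minus_case (minusForm_nondegenerate' k hab) hV (fun T hT => minus_ts_le hab hT) hζ
  obtain ⟨e₂, he₂⟩ := minus_case (minusForm_nondegenerate' k hab') hV (fun T hT => minus_ts_le hab' hT) hζ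
  let L := e₁.trans e₂.symm
  have hdet : (LinearMap.toMatrix' L.toLinearMap).det ≠ 0 := by
    rw [LinearMap.det_toMatrix']
    exact (LinearEquiv.isUnit_det' L).ne_zero
  refine ⟨Matrix.GeneralLinearGroup.mkOfDetNeZero _ hdet, 1, fun v => ?_⟩
  show minusForm k F a' b' (LinearMap.toMatrix' L.toLinearMap *ᵥ v) = _
  rw [LinearMap.toMatrix'_mulVec, he₁, he₂]
  simp [L]

/-- Isomorphisms carry the inner-diagonal group into the inner-diagonal group. -/
theorem inndiag_autT_le {a' b' : F} (hab' : Aniso a' b') {φ φ' : (ιM → F) → F} (hφ : φ = ⇑(minusForm k F a b))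
    (hφ' : φ' = ⇑(minusForm k F a' b')) (ψ : Cfsg.POmega F φ ≃* Cfsg.POmega F φ') :
    (inndiagM a b φ).map (autT ψ).toMonoidHom ≤ inndiagM a' b' φ' := by
  subst hφ hφ'
  rw [inndiag_minus hk hab, inndiag_minus hk hab']
  obtain ⟨g, c, hg⟩ := exists_minus_similitude hk hab hab'
  obtain ⟨ψ₀, hψ₀⟩ := exists_poT hg
  obtain ⟨h, τ, hp, e⟩ := OrthOut.exists_semi (good_minus hk hab') (narrow_minus hk hab') (ψ₀.symm.trans ψ)
  rintro _ ⟨_, ⟨x, hx, rfl⟩, rfl⟩
  obtain ⟨x'', ex, hx''⟩ := OrthOut.semi_conj hp (goT hg x)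
  refine ⟨x'', ?_, ?_⟩
  · obtain ⟨d, hd⟩ := id hp
    have hsplit : ∀ w, semiMap (h * OrthSim.glS τ g) τ w = semiMap h τ ((g : Matrix ιM ιM F) *ᵥ w) := fun w => by
      simp only [semiMap, Units.val_mul, ← mulVec_mulVec, OrthSim.coe_glS]
      exact congrArg _ (funext fun i => (RingHom.map_mulVec τ.toRingHom _ _ i).symm)
    refine MonoidHom.mem_ker.2 ((eM_conj hk hab' hab (σ := τ) (g := h * OrthSim.glS τ g)
      (c := d * Units.map τ.toRingHom.toMonoidHom c) (fun v => ?_) (x' := x) (x := x'') fun v => ?_).trans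
      (MonoidHom.mem_ker.1 hx))
    · rw [hsplit]
      rw [semiMap_q hd, hg, map_mul, Units.val_mul, mul_assoc]
      rfl
    · have hs := hsplit
      rw [hs, hs, ← gm_goT hg]
      simp only [semiMap, gm, ex, Units.val_mul, mulVec_mulVec, mul_assoc]
      rw [show ((h⁻¹ : GL ιM F) : Matrix ιM ιM F) * (h : Matrix ιM ιM F) = 1 from by
        rw [← Units.val_mul, inv_mul_cancel, Units.val_one], mul_one, ← mulVec_mulVec, OrthSim.coe_glS]
      simp only [← mulVec_mulVec]
      exact congrArg _ (funext fun i => RingHom.map_mulVec τ.toRingHom _ _ i)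
  · have key : autT ψ (conjPO _ x) = (ψ₀.symm.trans ψ : MulAut _) * autT ψ₀ (conjPO _ x) *
        (ψ₀.symm.trans ψ : MulAut _)⁻¹ :=
      MulEquiv.ext fun z => by simp [autT, MulAut.mul_apply, MulAut.inv_apply]
    show conjPO _ x'' = autT ψ (conjPO _ x)
    rw [key, hψ₀, e, eq_mul_inv_iff_mul_eq]
    exact hx''.symm

theorem inndiag_autT {a' b' : F} (hab' : Aniso a' b') {φ φ' : (ιM → F) → F} (hφ : φ = ⇑(minusForm k F a b))
    (hφ' : φ' = ⇑(minusForm k F a' b')) (ψ : Cfsg.POmega F φ ≃* Cfsg.POmega F φ') :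
    (inndiagM a b φ).map (autT ψ).toMonoidHom = inndiagM a' b' φ' := by
  refine le_antisymm (inndiag_autT_le hk hab hab' hφ hφ' ψ) fun β hβ => ?_
  have h := inndiag_autT_le hk hab' hab hφ' hφ ψ.symm (Subgroup.mem_map_of_mem (autT ψ.symm).toMonoidHom hβ)
  exact ⟨autT ψ.symm β, h, MulEquiv.ext fun z => by simp [autT]⟩

section Std

variable {σ : F ≃+* F} (ha : σ a = a) (hb : σ b = b)

include ha hb

local notation "QM" => minusForm k F a b

theorem eM_field (x : GO QM) : eM hk hab (mapGO (ext_self (fixes_minus ha hb)) x) = eM hk hab x :=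
  eM_conj hk hab hab (σ := σ) (g := 1) (c := 1)
    (fun v => by
      rw [semiMap, Units.val_one, one_mulVec, Units.val_one, one_mul]
      exact fixes_minus ha hb v)
    (x' := x) fun v => by
      simp only [semiMap, Units.val_one, one_mulVec]
      exact funext fun i => RingHom.map_mulVec σ.toRingHom _ _ i

theorem eM_refl {v : ιM → F} (hv : QM v ≠ 0) : eM hk hab (toGO QM (refl QM v hv)) = -1 := by
  rw [eM_toGO, dickson_refl]

theorem minus_triv {K : Type v} [Field K] [Fintype K] {e₀ : K →+* F}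
    (hfix : ∀ x, σ x = x ↔ x ∈ Set.range e₀) {r : ℕ} (hord : orderOf σ = r) (hr : 0 < r) {ζ : K}
    (hζ : ∀ t : K, t ^ 2 + t + ζ ≠ 0) {w : GO QM} (h : ∀ v, (semiMap (w : GL ιM F) σ)^[r] v = v) :
    Triv (minusForm k F 1 (e₀ ζ)) QM (w : GL ιM F) σ := by
  classical
  haveI : Nonempty ιM := ⟨Sum.inr 0⟩
  have hfix' : ∀ x, σ (e₀ x) = e₀ x := fun x => (hfix _).2 ⟨x, rfl⟩
  obtain ⟨q, T, c, hnd, hT, hc⟩ := exists_form (minusForm_nondegenerate' k hab) hfix hord hr
    (pair_go (fixes_minus ha hb) w) h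
  rcases even_cases hnd (m := k + 1) (by simp; omega) with ⟨g, hg⟩ | ⟨k', hk', hkk⟩
  · exfalso
    obtain ⟨T', c', -, hc'⟩ := triv_of_model hfix' hT hc (q₁ := HypQuad.plusForm (k + 1) K)
      (Q₁ := HypQuad.plusForm (k + 1) F)
      (fun v => by simp [HypQuad.plusForm_apply, Cfsg.quadFormPlus, map_sum]) g one_ne_zero
      fun v => by rw [hg, one_mul, HypQuad.plusForm_apply]
    have h1 := minus_ts_le hab (T := (HypQuad.leftSpace (k + 1) F).map T'.toLinearMap) (by
      rintro _ ⟨x, hx, rfl⟩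
      show QM (T' x) = 0
      rw [hc', (HypQuad.leftSpace_isMax (k + 1)).2 x hx, mul_zero])
    rw [LinearEquiv.finrank_map_eq, (HypQuad.leftSpace_isMax (k + 1)).1] at h1
    omega
  · cases (show k = k' by omega)
    obtain ⟨g, hg⟩ := hkk ζ hζ
    refine triv_of_model hfix' hT hc (q₁ := minusForm k K 1 ζ) ?_ g one_ne_zero
      fun v => by rw [hg, one_mul, minusForm_coe]
    intro v
    simp [minusForm_coe, Cfsg.quadFormMinus]

theorem minus_conj_std {r : ℕ} (hord : orderOf σ = r) (hr : 0 < r) {w : GO QM}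
    (h : semiW (fixes_minus ha hb) w ^ r = 1) :
    ∃ x ∈ MM hk hab, semiW (fixes_minus ha hb) w =
      conjPO QM x * semiW (fixes_minus ha hb) 1 * (conjPO QM x)⁻¹ := by
  classical
  let L : Subfield F := σ.toRingHom.eqLocusField (RingHom.id F)
  have hfix : ∀ x, σ x = x ↔ x ∈ Set.range L.subtype := fun x =>
    ⟨fun hx => ⟨⟨x, hx⟩, rfl⟩, by rintro ⟨y, rfl⟩; exact y.2⟩
  obtain ⟨ζ, hζ⟩ := exists_zeta (F := L)
  obtain ⟨s, hs⟩ := exists_normal (fixes_minus ha hb) (good_minus hk hab) (narrow_minus hk hab) hord hr h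
  have h1 : ∀ v, (semiMap ((1 : GO QM) : GL ιM F) σ)^[r] v = v := fun v => by
    have key : ∀ n, (semiMap ((1 : GO QM) : GL ιM F) σ)^[n] v = fun i => (σ ^ n) (v i) := fun n => by
      induction n with
      | zero => rfl
      | succ n ih =>
        rw [Function.iterate_succ_apply', ih, pow_succ']
        simp [semiMap, RingAut.mul_apply]
    rw [key, ← hord, pow_orderOf_eq_one]
    rfl
  refine conj_std (fixes_minus ha hb) (MM hk hab) s (minus_triv hk hab ha hb hfix hord hr hζ hs)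
    (minus_triv hk hab ha hb hfix hord hr hζ h1) fun x => ?_
  rcases Int.units_eq_one_or (eM hk hab x) with e | e
  · exact Or.inl (MonoidHom.mem_ker.2 e)
  have hv : QM (Pi.single (Sum.inr 0) 1) ≠ 0 := by
    rw [minusForm_coe]; simp [Cfsg.quadFormMinus]
  refine Or.inr ⟨toGO QM (refl QM _ hv),
    MonoidHom.mem_ker.2 (by rw [map_mul, e, eM_refl hk hab ha hb hv, neg_mul_neg, one_mul]), fun u => ?_⟩
  simp only [semiMap, OneMemClass.coe_one, Units.val_one, one_mulVec, OrthSim.gm_toGO]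
  have hrefl : mapIso (ext_self (fixes_minus ha hb)) (refl QM (Pi.single (Sum.inr 0) 1) hv) =
      refl QM (Pi.single (Sum.inr 0) 1) hv := by
    rw [mapIso_refl (ext_self (fixes_minus ha hb)) hv]
    have e : ⇑σ.toRingHom ∘ (Pi.single (Sum.inr 0) 1 : ιM → F) = Pi.single (Sum.inr 0) 1 := by
      rw [comp_single, map_one]
    exact Subtype.ext (Units.ext (by rw [coe_refl, coe_refl, e]))
  conv_rhs => rw [← hrefl, mat_mapIso]
  exact funext fun i => RingHom.map_mulVec σ.toRingHom _ _ i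

end Std

omit hab in
theorem minus_coset {a b : F} (hab : Aniso a b) (φ : (ιM → F) → F) (hφ : φ = ⇑(minusForm k F a b))
    (x δ : MulAut (Cfsg.POmega F φ))
    (hx : ∃ (a' b' : F) (ψ : Cfsg.POmega F φ ≃* Cfsg.POmega F (Cfsg.quadFormMinus k F a' b')) (σ : F ≃+* F),
      Aniso a' b' ∧ σ ≠ RingEquiv.refl F ∧ σ a' = a' ∧ σ b' = b' ∧
      Cfsg.IsFieldAutPOmegaOf (Cfsg.quadFormMinus k F a' b') σ ((ψ.symm.trans x).trans ψ))
    {r : ℕ} (hr : r.Prime) (hxr : orderOf x = r) (hδ : δ ∈ inndiagM a b φ) :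
    orderOf (δ * x) = r ↔ Cfsg.IsConjUnder (inndiagM a b φ) x (δ * x) := by
  obtain ⟨a', b', ψ, σ, hab', hne, ha, hb, hstd⟩ := hx
  revert ψ
  generalize hφ' : Cfsg.quadFormMinus k F a' b' = φ'
  intro ψ hstd
  have hφ'' : φ' = ⇑(minusForm k F a' b') := by rw [← hφ', minusForm_coe]
  subst hφ''
  have hmap := inndiag_autT hk hab hab' hφ rfl ψ
  obtain ⟨d, hd, hdΘ⟩ : ∃ d ∈ MM hk hab', autT ψ δ = conjPO _ d := by
    have := Subgroup.mem_map_of_mem (autT ψ).toMonoidHom hδ
    rw [hmap, inndiag_minus hk hab'] at this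
    obtain ⟨d, hd, e⟩ := this
    exact ⟨d, hd, e.symm⟩
  have hw : autT ψ x = semiW (fixes_minus ha hb) 1 := eq_semiW_one (fixes_minus ha hb) hstd
  have hxr' : orderOf (semiW (fixes_minus (k := k) ha hb) 1) = r := by rw [← hw, MulEquiv.orderOf_eq, hxr]
  rw [← conjUnder_map (autT ψ) hmap, ← MulEquiv.orderOf_eq (autT ψ) (δ * x), map_mul, hdΘ, hw,
    inndiag_minus hk hab']
  have hord : orderOf σ = r := by
    haveI := Fact.mk hr
    exact orderOf_eq_prime
      (pow_semi (good_minus hk hab') (narrow_minus hk hab') _ (hxr' ▸ pow_orderOf_eq_one _)).1 hne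
  exact coset_iff (fixes_minus ha hb) _ hd hxr' fun w' _ h => minus_conj_std hk hab' ha hb hord hr.pos h

omit hab in
theorem minus_full {a b : F} (hab : Aniso a b) {H : Subgroup (GO (minusForm k F a b))}
    (hH : NN (minusForm k F a b) ≤ H)
    (hD : (2 : F) ≠ 0 → ∃ x ∈ H, eM hk hab x = 1 ∧ ¬ IsSquare (mu (minusForm k F a b) x : F))
    (hS : (2 : F) ≠ 0 → ∃ s, dickson _ (minusForm_nondegenerate' k hab) s = 1 ∧ spin (minusForm k F a b) s = -1 ∧
      toGO _ s ∈ H) : MM hk hab ≤ H := by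
  classical
  have G := good_minus (F := F) hk hab
  have hn2 : 2 ≤ Fintype.card ιM := by simp
  have hne : Fintype.card F ≠ 2 ∨ Fintype.card ιM ≠ 4 := Or.inr (by simp; omega)
  -- elements with square multiplier
  have hsq : ∀ x : GO (minusForm k F a b), eM hk hab x = 1 → IsSquare (mu (minusForm k F a b) x : F) → x ∈ H := by
    rintro x hx ⟨t, ht⟩
    have ht0 : t ≠ 0 := fun e => (mu (minusForm k F a b) x).ne_zero (by rw [ht, e, mul_zero])
    obtain ⟨s, hs⟩ := OrthSim.exists_iso_of_mu _ G.nd G.big (g := scal _ (Units.mk0 t ht0)⁻¹ * x) (by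
      rw [OrthSim.mu_mul _ G.nd G.big, OrthSim.mu_scal _ G.nd G.big, ← mul_inv,
        show Units.mk0 t ht0 * Units.mk0 t ht0 = mu (minusForm k F a b) x from Units.ext ht.symm, inv_mul_cancel])
    have hds : dickson _ (minusForm_nondegenerate' k hab) s = 1 := by
      rw [← eM_toGO hk hab, ← hs, map_mul, eM_scal, one_mul, hx]
    have hmem : ∀ s', s' ∈ Cfsg.Omega F (⇑(minusForm k F a b)) →
        scal _ (Units.mk0 t ht0) * toGO _ s' ∈ H := fun s' hs' =>
      hH ((OrthSim.mem_NN _).2 ⟨_, s', hs', rfl⟩)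
    have e : x = scal _ (Units.mk0 t ht0) * toGO _ s := by
      rw [← hs, ← mul_assoc, ← map_mul, mul_inv_cancel, map_one, one_mul]
    rw [e]
    by_cases h2 : (2 : F) = 0
    · haveI : CharP F 2 := CharTwo.of_one_ne_zero_of_two_eq_zero one_ne_zero h2
      exact hmem s ((OmegaCls.dickson_iff G.nd (by omega) hne s).2 hds)
    have hdet : ∀ s', dickson _ G.nd s' = 1 → detHom (minusForm k F a b) s' = 1 := fun s' hs' => Units.ext (by
      show (mat _ s').det = _
      rw [OmegaCls.det_dickson h2 G.nd s', hs']; simp)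
    rcases Int.units_eq_one_or (spin _ s) with h | h
    · exact hmem s ((mem_omega_iff _ h2 G.nd hn2).2 ⟨hdet s hds, h⟩)
    · obtain ⟨s₁, hd1, hsp, hs1⟩ := hS h2
      have := H.mul_mem (hmem (s * s₁) ((mem_omega_iff _ h2 G.nd hn2).2
        ⟨hdet _ (by rw [map_mul, hds]; simpa using hd1), by rw [map_mul, h, hsp, neg_mul_neg, one_mul]⟩))
        (H.inv_mem hs1)
      rwa [map_mul, ← mul_assoc, mul_inv_cancel_right] at this
  intro x hx
  by_cases h : IsSquare (mu (minusForm k F a b) x : F)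
  · exact hsq x hx h
  have h2 : (2 : F) ≠ 0 := fun h2 => h (by
    obtain ⟨t, ht⟩ := exists_sqrt_two h2 (mu (minusForm k F a b) x : F)
    exact ⟨t, ht.symm⟩)
  obtain ⟨y, hy, hey, hyn⟩ := hD h2
  have : x * y ∈ H := hsq _ (by rw [map_mul, MonoidHom.mem_ker.1 hx, hey, one_mul]) (by
    rw [OrthSim.mu_mul _ G.nd G.big, Units.val_mul]
    have h1 : quadraticChar F ((mu (minusForm k F a b) x : F) * (mu (minusForm k F a b) y : F)) = 1 := by
      rw [map_mul, quadraticChar_neg_one_iff_not_isSquare.2 h, quadraticChar_neg_one_iff_not_isSquare.2 hyn]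
      norm_num
    exact (quadraticChar_one_iff_isSquare (mul_ne_zero (Units.ne_zero _) (Units.ne_zero _))).1 h1)
  simpa using H.mul_mem this (H.inv_mem hy)

omit hab in
theorem minus_data {a b : F} (hab : Aniso a b) (φ : (ιM → F) → F) (hφ : φ = ⇑(minusForm k F a b)) {p f : ℕ}
    [Fact p.Prime] (hF : Fintype.card F = p ^ f) (x : MulAut (Cfsg.POmega F φ))
    (hx : ∃ (a' b' : F) (ψ : Cfsg.POmega F φ ≃* Cfsg.POmega F (Cfsg.quadFormMinus k F a' b')) (σ : F ≃+* F),
      Aniso a' b' ∧ σ ≠ RingEquiv.refl F ∧ σ a' = a' ∧ σ b' = b' ∧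
      Cfsg.IsFieldAutPOmegaOf (Cfsg.quadFormMinus k F a' b') σ ((ψ.symm.trans x).trans ψ))
    {r : ℕ} (hr : r.Prime) (hxr : orderOf x = r) (F₀ : Type v) [Field F₀] [Fintype F₀]
    (hF₀ : Fintype.card F₀ = p ^ (f / r)) :
    Odd r ∧ r ∣ f ∧ (∃ a₀ b₀ : F₀, Aniso a₀ b₀ ∧
      Nonempty (↥(inndiagM a b φ ⊓ Subgroup.centralizer {x}) ≃*
        ↥(inndiagM a₀ b₀ (Cfsg.quadFormMinus k F₀ a₀ b₀)))) ∧
      Cfsg.splitClassCount (inndiagM a b φ) (Cfsg.Inn (Cfsg.POmega F φ)) x = 1 := by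
  classical
  obtain ⟨a', b', ψ, σ, hab', hne, ha, hb, hstd⟩ := hx
  revert ψ
  generalize hφ' : Cfsg.quadFormMinus k F a' b' = φ'
  intro ψ hstd
  have hφ'' : φ' = ⇑(minusForm k F a' b') := by rw [← hφ', minusForm_coe]
  subst hφ''
  have hmap := inndiag_autT hk hab hab' hφ rfl ψ
  have hw : autT ψ x = semiW (fixes_minus ha hb) 1 := eq_semiW_one (fixes_minus ha hb) hstd
  have hxr' : orderOf (semiW (fixes_minus (k := k) ha hb) 1) = r := by rw [← hw, MulEquiv.orderOf_eq, hxr]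
  have G := good_minus (F := F) hk hab'
  have hord : orderOf σ = r := by
    haveI := Fact.mk hr
    exact orderOf_eq_prime (pow_semi G (narrow_minus hk hab') _ (hxr' ▸ pow_orderOf_eq_one _)).1 hne
  have hrf : r ∣ f := hord ▸ Known.FieldLight.order_dvd hF σ
  obtain ⟨e₀, hfix⟩ := Known.FieldLight.exists_fixed_hom hF hord F₀ hF₀
  obtain ⟨a₀, rfl⟩ := (hfix a').1 ha
  obtain ⟨b₀, rfl⟩ := (hfix b').1 hb
  have hab₀ : Aniso a₀ b₀ := fun z₁ z₂ hz => by
    obtain ⟨h1, h2⟩ := hab' (e₀ z₁) (e₀ z₂) (by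
      rw [← map_pow, ← map_mul, ← map_mul, ← map_pow, ← map_mul, ← map_add, ← map_add, hz, map_zero])
    exact ⟨e₀.injective (h1.trans (map_zero _).symm), e₀.injective (h2.trans (map_zero _).symm)⟩
  have hodd : Odd r := by
    rcases hr.eq_two_or_odd' with e | e
    · exfalso
      letI := e₀.toAlgebra
      have hcard := Module.card_eq_pow_finrank (K := F₀) (V := F)
      rw [hF, hF₀, ← pow_mul] at hcard
      have h2 := Nat.pow_right_injective (Fact.out : p.Prime).two_le hcard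
      have hpos : 0 < f / r := Nat.div_pos (Nat.le_of_dvd (Nat.pos_of_ne_zero fun h0 => by
        have := Fintype.one_lt_card (α := F)
        rw [hF, h0, pow_zero] at this
        omega) hrf) hr.pos
      have hfin : Module.finrank F₀ F = 2 := by
        have h3 : f = (f / r) * r := (Nat.div_mul_cancel hrf).symm
        rw [e] at h3 hpos h2
        exact Nat.eq_of_mul_eq_mul_left hpos (h2.symm.trans h3)
      obtain ⟨ρ, hρ⟩ := MinusExtend.exists_root (K := F) hfin hab₀
      refine one_ne_zero (hab' ρ 1 ?_).2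
      linear_combination hρ
    · exact e
  refine ⟨hodd, hrf, ?_⟩
  have hq : Ext e₀ (minusForm k F₀ a₀ b₀) (minusForm k F (e₀ a₀) (e₀ b₀)) := ext_minusForm e₀
  have hT : ∀ v, semiMap ((1 : GO (minusForm k F (e₀ a₀) (e₀ b₀))) : GL ιM F) σ (LinearEquiv.refl F (ιM → F) v) =
      LinearEquiv.refl F _ fun i => σ (v i) := fun v => by simp [semiMap]
  have hc : ∀ v, minusForm k F (e₀ a₀) (e₀ b₀) (LinearEquiv.refl F (ιM → F) v) =
      ((1 : Fˣ) : F) * minusForm k F (e₀ a₀) (e₀ b₀) v := fun v => by simp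
  have ht : ∀ (y : GO (minusForm k F (e₀ a₀) (e₀ b₀))) v,
      gm _ (MonoidHom.id _ y) *ᵥ LinearEquiv.refl F (ιM → F) v = LinearEquiv.refl F _ (gm _ y *ᵥ v) :=
    fun y v => rfl
  have hM : ∀ z : GO (minusForm k F₀ a₀ b₀),
      MonoidHom.id _ (mapGO hq z) ∈ MM hk hab' ↔ z ∈ MM hk hab₀ := fun z => by
    obtain ⟨u, v, h, s, rfl⟩ := minus_split hk hab₀ z
    have hF' : (e₀ u) ^ 2 + e₀ a₀ * e₀ u * e₀ v + e₀ b₀ * (e₀ v) ^ 2 ≠ 0 := by
      rw [← map_pow, ← map_mul, ← map_mul, ← map_pow, ← map_mul, ← map_add, ← map_add]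
      exact (map_ne_zero e₀).2 h
    have e : mapGO hq (minusD u v h * toGO _ s) = minusD (e₀ u) (e₀ v) hF' * toGO _ (mapIso hq s) := by
      rw [map_mul, mapGO_toGO]
      congr 1
      refine OrthSim.go_ext _ ?_
      rw [gm_mapGO, OrthSim.gm_minusD, OrthSim.gm_minusD]
      exact eM_split.minusMat_map' e₀
    simp only [MonoidHom.id_apply, MonoidHom.mem_ker]
    rw [e, eM_minusD hk hab₀ h s, eM_minusD hk hab' hF', dickson_mapIso hq (minusForm_nondegenerate' k hab₀) _
      (Or.inr (by simp; omega))]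
  refine ⟨⟨a₀, b₀, hab₀, ?_⟩, ?_⟩
  · rw [show Cfsg.quadFormMinus k F₀ a₀ b₀ = ⇑(minusForm k F₀ a₀ b₀) from (minusForm_coe _ _ _).symm,
      inndiag_minus hk hab₀]
    obtain ⟨e1⟩ := cent_map (autT ψ) hmap x
    rw [hw, inndiag_minus hk hab'] at e1
    obtain ⟨e2⟩ := cent_equiv (fixes_minus ha hb) hq hT hc ht G (good_minus (F := F₀) hk hab₀) hfix
      (MM hk hab') (fun c => MonoidHom.mem_ker.2 (eM_scal hk hab' c)) (MM hk hab₀) hM
    exact ⟨e1.trans e2⟩
  · rw [← split_map (autT ψ) hmap (autT_inn ψ) x, hw, inndiag_minus hk hab']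
    have hNN : NN (minusForm k F (e₀ a₀) (e₀ b₀)) ≤ MM hk hab' := fun y hy => by
      obtain ⟨c, s, hs, rfl⟩ := (OrthSim.mem_NN _).1 hy
      rw [MonoidHom.mem_ker, map_mul, eM_scal, one_mul, eM_toGO]
      exact hom_eq_one_of_omega _ (dickson _ (minusForm_nondegenerate' k hab')) hs
    rw [split_std (fixes_minus ha hb) hq hT hc ht G hfix _ (fun c => MonoidHom.mem_ker.2 (eM_scal hk hab' c))
      (MM hk hab₀) hM hNN, Subgroup.relIndex_eq_one]
    refine minus_full hk hab' le_sup_right (fun h2 => ?_) fun h2 => ?_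
    · obtain ⟨ν, hν⟩ := OrthSim.exists_nonsq (two_ne e₀ h2)
      obtain ⟨u, v, huv⟩ := exists_binary hab₀ ν.ne_zero
      have h : u ^ 2 + a₀ * u * v + b₀ * v ^ 2 ≠ 0 := huv ▸ ν.ne_zero
      have hz : minusD u v h ∈ MM hk hab₀ := by
        rw [MonoidHom.mem_ker, ← mul_one (minusD u v h), ← map_one (toGO (minusForm k F₀ a₀ b₀)),
          eM_minusD, map_one]
      refine ⟨mapGO hq (minusD u v h), Subgroup.mem_sup_left (Subgroup.mem_map.2 ⟨_, hz, rfl⟩),
        MonoidHom.mem_ker.1 ((hM _).2 hz), ?_⟩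
      have hmu : mu _ (mapGO hq (minusD u v h)) = Units.map e₀.toMonoidHom ν :=
        OrthSim.mu_eq _ G.nd G.big fun y => by
          have hs := sim_base e₀ hq hq (OrthSim.minusMat k a₀ b₀ u v) ν.1 (fun z => by
            rw [OrthSim.minusMat_spec, huv]) y
          exact hs
      rw [hmu]
      exact nonsquare_map h2 hfix hord hodd hν
    · obtain ⟨ν, hν⟩ := OrthSim.exists_nonsq (two_ne e₀ h2)
      obtain ⟨s, h1, h3⟩ := exists_spin_map hq h2 G.nd (by simp) (minusForm_nondegenerate' k hab₀)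
        (nonsquare_map h2 hfix hord hodd hν)
      have hd : dickson _ (minusForm_nondegenerate' k hab') (mapIso hq s) = 1 := by
        refine (Int.units_eq_one_or _).resolve_right fun e => ?_
        have := OmegaCls.det_dickson h2 (minusForm_nondegenerate' k hab') (mapIso hq s)
        rw [e] at this
        have h1' : (mat _ (mapIso hq s)).det = 1 := congrArg Units.val h1
        rw [show ((mapIso hq s : GL ιM F) : Matrix ιM ιM F) = mat _ (mapIso hq s) from rfl, h1'] at this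
        refine h2 ?_
        push_cast at this
        linear_combination this
      refine ⟨mapIso hq s, hd, h3, Subgroup.mem_sup_left (Subgroup.mem_map.2 ⟨toGO _ s, ?_, ?_⟩)⟩
      · rw [MonoidHom.mem_ker, eM_toGO hk hab₀, ← dickson_mapIso hq (minusForm_nondegenerate' k hab₀)
          (minusForm_nondegenerate' k hab') (Or.inr (by simp; omega)), hd]
      · exact mapGO_toGO hq s

end Cfsg.Lib.OrthField
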