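import Cfsg.Agent.Known.OrthField.Normal
import Cfsg.Agent.Known.OrthField.Spin
import Cfsg.Agent.Known.OrthField.Classify
import Cfsg.Agent.Known.OrthOut.Odd

/-!
Field automorphisms of prime order of `Ω_{2m+1}(q)`.
-/

set_option autoImplicit false
set_option linter.unusedSectionVars false
set_option linter.style.haveILetI false

namespace Cfsg.Lib.OrthField

open Matrix Cfsg.Lib.Classical Cfsg.Lib.Classical.Refl Cfsg.Lib.OrthAut
open Cfsg.Lib.OrthSim (GO gm conjPO toGO scal NN)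
open Cfsg.Lib.OrthOut (good_odd narrow_odd odd_decomp)

universe u v

variable {F : Type u} [Field F] [Fintype F] [DecidableEq F] {m : ℕ}

local notation "ιO" => Unit ⊕ (Fin m ⊕ Fin m)
local notation "QO" => oddForm m F

theorem ext_odd {K : Type v} [Field K] [Fintype K] (e₀ : K →+* F) : Ext e₀ (oddForm m K) QO := fun v => by
  simp [oddForm_coe, Cfsg.quadFormOdd, map_sum]

theorem fixes_odd (σ : F ≃+* F) : Fixes σ QO := fun v => by
  simp [oddForm_coe, Cfsg.quadFormOdd, map_sum]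

theorem inndiag_odd : Cfsg.pgoAut F (⇑QO) = (⊤ : Subgroup (GO QO)).map (conjPO QO) := OrthSim.pgoAut_eq QO

variable (h2 : (2 : F) ≠ 0) (hm : 3 ≤ m)

include h2 hm

theorem odd_conj_std {p f r : ℕ} [Fact p.Prime] (hF : Fintype.card F = p ^ f) {σ : F ≃+* F}
    (hord : orderOf σ = r) (hr : 0 < r) {w : GO QO} (h : semiW (fixes_odd σ) w ^ r = 1) :
    ∃ x ∈ (⊤ : Subgroup (GO QO)),
      semiW (fixes_odd σ) w = conjPO QO x * semiW (fixes_odd σ) 1 * (conjPO QO x)⁻¹ := by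
  classical
  have G := good_odd (F := F) h2 hm
  have hH := narrow_odd (F := F) h2 hm
  haveI : Nonempty ιO := ⟨Sum.inl ()⟩
  let L : Subfield F := σ.toRingHom.eqLocusField (RingHom.id F)
  have hfix : ∀ x, σ x = x ↔ x ∈ Set.range L.subtype := fun x =>
    ⟨fun hx => ⟨⟨x, hx⟩, rfl⟩, by rintro ⟨y, rfl⟩; exact y.2⟩
  obtain ⟨a, ha⟩ := exists_normal (fixes_odd σ) G hH hord hr h
  obtain ⟨q, T, c, hnd, hT, hc⟩ := exists_form G.nd hfix hord hr (pair_go (fixes_odd σ) (scal QO a * w)) ha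
  obtain ⟨d, hd, g, hg⟩ := odd_case hnd (m := m) (by simp; omega)
  have htriv := triv_of_model (fun x => (hfix _).2 ⟨x, rfl⟩) hT hc (ext_odd L.subtype) g hd
    fun v => by rw [hg, oddForm_coe]
  exact conj_std (fixes_odd σ) ⊤ a htriv (triv_refl QO σ) fun x => Or.inl trivial

theorem odd_normal_form {φ : (ιO → F) → F} (hφ : φ = ⇑QO) {x : MulAut (Cfsg.POmega F φ)}
    (hx : Cfsg.IsFieldAutClassPOmega φ x) {r : ℕ} (hr : r.Prime) (hxr : orderOf x = r) :
    ∃ (σ : F ≃+* F), orderOf σ = r ∧ ∃ w : GO QO, HEq x (semiW (fixes_odd σ) w) := by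
  subst hφ
  obtain ⟨α, ψ, σ, hne, hψ, e⟩ := hx
  have G := good_odd (F := F) h2 hm
  have hH := narrow_odd (F := F) h2 hm
  rw [eq_semiW_one (fixes_odd σ) hψ] at e
  obtain ⟨hord, -⟩ := order_sigma (fixes_odd σ) G hH hne e hr hxr
  obtain ⟨g, τ, hg⟩ := normal_form (fixes_odd σ) G hH fixes_odd e
  exact ⟨σ, hord, _, heq_of_eq hg⟩

theorem odd_coset {p f : ℕ} [Fact p.Prime] (hF : Fintype.card F = p ^ f) (φ : (ιO → F) → F) (hφ : φ = ⇑QO)
    (x δ : MulAut (Cfsg.POmega F φ)) (hx : Cfsg.IsFieldAutClassPOmega φ x) {r : ℕ} (hr : r.Prime)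
    (hxr : orderOf x = r) (hδ : δ ∈ Cfsg.pgoAut F φ) :
    orderOf (δ * x) = r ↔ Cfsg.IsConjUnder (Cfsg.pgoAut F φ) x (δ * x) := by
  subst hφ
  obtain ⟨σ, hord, w, hw⟩ := odd_normal_form h2 hm rfl hx hr hxr
  obtain rfl := eq_of_heq hw
  rw [inndiag_odd] at hδ ⊢
  obtain ⟨d, hd, rfl⟩ := hδ
  exact coset_iff (fixes_odd σ) ⊤ trivial hxr fun w' _ h => odd_conj_std h2 hm hF hord hr.pos h

theorem odd_nn {c : Fˣ} {s : Cfsg.isometryGroup F (⇑QO)} (hs : detHom QO s = 1) :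
    scal QO c * toGO QO s ∈ NN QO ↔ spin QO s = 1 := by
  have G := good_odd (F := F) h2 hm
  have hn2 : 2 ≤ Fintype.card ιO := by have := G.big; omega
  have hodd : Fintype.card ιO = 2 * m + 1 := by simp; omega
  constructor
  · intro h
    obtain ⟨c', s', hs', e⟩ := (OrthSim.mem_NN QO).1 h
    have hs'' := (mem_omega_iff QO h2 G.nd hn2).1 hs'
    have hcs : ∀ x, (c : F) • (mat QO s *ᵥ x) = (c' : F) • (mat QO s' *ᵥ x) := fun x => by
      have := congrArg (fun z : GO QO => gm QO z *ᵥ x) e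
      simpa only [OrthSim.gm_mul, OrthSim.gm_scal, Matrix.smul_mul, Matrix.one_mul, smul_mulVec,
        OrthSim.gm_toGO] using this
    have hdet : (c : F) ^ (2 * m + 1) = (c' : F) ^ (2 * m + 1) := by
      have := congrArg (fun z : GO QO => (gm QO z).det) e
      simp only [OrthSim.gm_mul, OrthSim.gm_scal, Matrix.smul_mul, Matrix.one_mul, det_smul, hodd,
        OrthSim.gm_toGO] at this
      rwa [show (mat QO s).det = 1 from congrArg Units.val hs, show (mat QO s').det = 1 from congrArg Units.val hs''.1,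
        mul_one, mul_one] at this
    have hmu := congrArg (OrthSim.mu QO) e
    rw [OrthSim.mu_mul QO G.nd G.big, OrthSim.mu_mul QO G.nd G.big, OrthSim.mu_scal QO G.nd G.big,
      OrthSim.mu_scal QO G.nd G.big, OrthSim.mu_toGO QO G.nd G.big, OrthSim.mu_toGO QO G.nd G.big, mul_one,
      mul_one] at hmu
    have hcc : c = c' := by
      have h1 : (c : F) * c = (c' : F) * c' := by rw [← Units.val_mul, hmu, Units.val_mul]
      rw [pow_succ, pow_succ, pow_mul, pow_mul, pow_two, pow_two, h1] at hdet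
      exact Units.ext (mul_left_cancel₀ (pow_ne_zero _ (mul_ne_zero c'.ne_zero c'.ne_zero)) hdet)
    rw [← hcc] at hcs
    rw [show s = s' from ext_mulVec QO fun x => smul_right_injective _ c.ne_zero (hcs x)]
    exact hs''.2
  · exact fun h => (OrthSim.mem_NN QO).2 ⟨c, s, (mem_omega_iff QO h2 G.nd hn2).2 ⟨hs, h⟩, rfl⟩

theorem odd_index {H : Subgroup (GO QO)} (hH : NN QO ≤ H)
    (hs : ∀ s : Cfsg.isometryGroup F (⇑QO), detHom QO s = 1 → toGO QO s ∈ H → spin QO s = 1) :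
    H.index = 2 := by
  classical
  have G := good_odd (F := F) h2 hm
  have hn2 : 2 ≤ Fintype.card ιO := by have := G.big; omega
  obtain ⟨a, b, ha, hb, hne⟩ := exists_spin_ne QO h2 G.nd hn2
  set d : Cfsg.isometryGroup F (⇑QO) := refl QO a ha * refl QO b hb
  have hd1 : detHom QO d = 1 := by rw [map_mul, detHom_refl, detHom_refl, neg_mul_neg, one_mul]
  have hdspin : spin QO d = -1 := by
    rw [map_mul]
    rcases Int.units_eq_one_or (spin QO (refl QO a ha)) with h | h <;>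
      rcases Int.units_eq_one_or (spin QO (refl QO b hb)) with h' | h' <;> simp_all
  have hcrit : ∀ (c : Fˣ) (s : Cfsg.isometryGroup F (⇑QO)), detHom QO s = 1 →
      (scal QO c * toGO QO s ∈ H ↔ spin QO s = 1) := by
    intro c s h1
    refine ⟨fun h => hs s h1 ?_, fun h => hH ((odd_nn h2 hm h1).2 h)⟩
    have h3 := mul_mem (hH ((odd_nn h2 hm (map_one (detHom QO))).2 (map_one (spin QO)) :
      scal QO c⁻¹ * toGO QO 1 ∈ NN QO)) h
    rwa [map_one, mul_one, ← mul_assoc, ← map_mul, inv_mul_cancel, map_one, one_mul] at h3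
  rw [Subgroup.index_eq_two_iff]
  refine ⟨toGO QO d, fun x => ?_⟩
  obtain ⟨c, s, h1, rfl⟩ := odd_decomp h2 hm x
  rw [mul_assoc, ← map_mul, hcrit c (s * d) (by rw [map_mul, h1, hd1, mul_one]), hcrit c s h1, map_mul, hdspin]
  rcases Int.units_eq_one_or (spin QO s) with h | h <;> simp [h]

theorem odd_full {H : Subgroup (GO QO)} (hH : NN QO ≤ H) {s₀ : Cfsg.isometryGroup F (⇑QO)}
    (h1 : detHom QO s₀ = 1) (h2' : spin QO s₀ = -1) (h3 : toGO QO s₀ ∈ H) : H = ⊤ := by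
  refine eq_top_iff.2 fun x _ => ?_
  obtain ⟨c, s, hs, rfl⟩ := odd_decomp h2 hm x
  rcases Int.units_eq_one_or (spin QO s) with h | h
  · exact hH ((odd_nn h2 hm hs).2 h)
  · have := mul_mem (hH ((odd_nn h2 hm (c := c) (show detHom QO (s * s₀) = 1 by rw [map_mul, hs, h1, one_mul])).2
      (by rw [map_mul, h, h2', neg_mul_neg, one_mul]))) (inv_mem h3)
    rwa [map_mul, ← mul_assoc, mul_inv_cancel_right] at this

theorem odd_data {p f : ℕ} [Fact p.Prime] (hF : Fintype.card F = p ^ f) (φ : (ιO → F) → F) (hφ : φ = ⇑QO)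
    (x : MulAut (Cfsg.POmega F φ)) (hx : Cfsg.IsFieldAutClassPOmega φ x) {r : ℕ} (hr : r.Prime)
    (hxr : orderOf x = r) (F₀ : Type v) [Field F₀] [Fintype F₀] (hF₀ : Fintype.card F₀ = p ^ (f / r))
    (φ₀ : (ιO → F₀) → F₀) (hφ₀ : φ₀ = ⇑(oddForm m F₀)) :
    r ∣ f ∧ Nonempty (↥(Cfsg.pgoAut F φ ⊓ Subgroup.centralizer {x}) ≃* ↥(Cfsg.pgoAut F₀ φ₀)) ∧
      (Odd r → Cfsg.splitClassCount (Cfsg.pgoAut F φ) (Cfsg.Inn (Cfsg.POmega F φ)) x = 1) ∧
      (r = 2 → Cfsg.splitClassCount (Cfsg.pgoAut F φ) (Cfsg.Inn (Cfsg.POmega F φ)) x = 2) := by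
  classical
  subst hφ hφ₀
  obtain ⟨σ, hord, w, hw⟩ := odd_normal_form h2 hm rfl hx hr hxr
  obtain rfl := eq_of_heq hw
  have G := good_odd (F := F) h2 hm
  obtain ⟨e₀, hfix⟩ := Known.FieldLight.exists_fixed_hom hF hord F₀ hF₀
  have h20 : (2 : F₀) ≠ 0 := two_ne e₀ h2
  have G₀ := good_odd (F := F₀) h20 hm
  have hn2 : 2 ≤ Fintype.card ιO := by have := G.big; omega
  obtain ⟨y, -, hy⟩ := odd_conj_std h2 hm hF hord hr.pos (w := w) (hxr ▸ pow_orderOf_eq_one _)
  have hymem : conjPO QO y ∈ (⊤ : Subgroup (GO QO)).map (conjPO QO) := ⟨y, trivial, rfl⟩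
  have hT : ∀ v, semiMap ((1 : GO QO) : GL ιO F) σ (LinearEquiv.refl F (ιO → F) v) =
      LinearEquiv.refl F _ fun i => σ (v i) := fun v => by simp [semiMap]
  have hc : ∀ v, QO (LinearEquiv.refl F (ιO → F) v) = ((1 : Fˣ) : F) * QO v := fun v => by simp
  have ht : ∀ (x : GO QO) v, gm QO (MonoidHom.id _ x) *ᵥ LinearEquiv.refl F (ιO → F) v =
      LinearEquiv.refl F _ (gm QO x *ᵥ v) := fun x v => rfl
  refine ⟨hord ▸ Known.FieldLight.order_dvd hF σ, ?_, ?_⟩
  · rw [inndiag_odd, inndiag_odd, hy]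
    obtain ⟨e1⟩ := cent_conj_mem (x := semiW (fixes_odd σ) 1) hymem
    obtain ⟨e2⟩ := cent_equiv (fixes_odd σ) (ext_odd e₀) hT hc ht G G₀ hfix ⊤ (fun _ => trivial) ⊤
      fun _ => Iff.rfl
    exact ⟨e1.trans e2⟩
  · rw [inndiag_odd, hy, split_conj_mem hymem,
      split_std (fixes_odd σ) (ext_odd e₀) hT hc ht G hfix ⊤ (fun _ => trivial) ⊤ (fun _ => Iff.rfl) le_top,
      Subgroup.relIndex_top_right, MonoidHom.id_comp]
    haveI := OrthSim.nn_normal QO
    refine ⟨fun hodd => ?_, fun h2r => ?_⟩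
    · obtain ⟨ν, hν⟩ := OrthSim.exists_nonsq h20
      obtain ⟨s, h1, h3⟩ := exists_spin_map (ext_odd (m := m) e₀) h2 G.nd hn2 G₀.nd
        (nonsquare_map h2 hfix hord hodd hν)
      exact Subgroup.index_eq_one.2 (odd_full h2 hm le_sup_right h1 h3
        (Subgroup.mem_sup_left (Subgroup.mem_map.2 ⟨toGO _ s, trivial, rfl⟩)))
    · refine odd_index h2 hm le_sup_right fun s hs h => ?_
      obtain ⟨_, ⟨b, -, rfl⟩, n, hn, e⟩ := Subgroup.mem_sup_of_normal_right.1 h
      obtain ⟨c₀, s₀, hs₀, rfl⟩ := odd_decomp h20 hm b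
      have hd : detHom QO (mapIso (ext_odd e₀) s₀) = 1 := Units.ext (by
        show ((mat (oddForm m F₀) s₀).map e₀).det = _
        rw [← RingHom.mapMatrix_apply, ← RingHom.map_det,
          show (mat (oddForm m F₀) s₀).det = 1 from congrArg Units.val hs₀, map_one, Units.val_one])
      have hsp := spin_map_trivial (ext_odd (m := m) e₀) h2 G.nd hn2 G₀.nd
        (Or.inr (by simp; omega)) (square_map h2 hfix (hord.trans h2r)) hd
      have h0 : toGO QO s ∈ NN QO := by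
        rw [← e]
        refine mul_mem ?_ hn
        rw [map_mul, mapGO_scal, mapGO_toGO]
        exact (odd_nn h2 hm hd).2 hsp
      rw [← one_mul (toGO QO s), ← map_one (scal QO)] at h0
      exact (odd_nn h2 hm hs).1 h0

end Cfsg.Lib.OrthField
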