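import Cfsg.Agent.Known.OrthSim.Main
import Cfsg.Agent.Known.OrthOut.Chi

/-!
Change of the field of coefficients: forms, similitudes, reflections and the Dickson invariant.
-/

set_option autoImplicit false
set_option linter.unusedSectionVars false
set_option linter.style.haveILetI false

namespace Cfsg.Lib.OrthField

open Matrix Cfsg.Lib.Classical Cfsg.Lib.Classical.Refl Cfsg.Lib.OrthAut
open Cfsg.Lib.OrthSim (GO gm mu mu_spec toGO scal)

universe u v

variable {K : Type u} [Field K] [Fintype K] {L : Type v} [Field L] [Fintype L] (e₀ : K →+* L)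

/-- A form over `L` extending a form over `K`. -/
def Ext {ι : Type} (q : QuadraticForm K (ι → K)) (Q : QuadraticForm L (ι → L)) : Prop :=
  ∀ v : ι → K, Q (⇑e₀ ∘ v) = e₀ (q v)

section Gen

variable {ι ι₁ : Type} [Fintype ι] [DecidableEq ι] [Fintype ι₁] [DecidableEq ι₁]

theorem comp_single (i : ι) (c : K) : (⇑e₀ ∘ (Pi.single i c : ι → K)) = Pi.single i (e₀ c) := by
  funext j; by_cases h : j = i <;> simp [h]

theorem ext_base (A B : QuadraticForm L (ι → L)) (h : ∀ v : ι → K, A (⇑e₀ ∘ v) = B (⇑e₀ ∘ v)) : A = B := by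
  refine QuadraticMap.ext fun v => FormNormal.eq_of_basis A B (Pi.basisFun L ι) (fun i => ?_) (fun i j => ?_) v
  · have := h (Pi.single i 1)
    rwa [comp_single, map_one, ← Pi.basisFun_apply] at this
  · have hc : ⇑e₀ ∘ (Pi.single i (1 : K) + Pi.single j 1 : ι → K) = Pi.basisFun L ι i + Pi.basisFun L ι j := by
      funext k
      simp only [Pi.basisFun_apply, Function.comp_apply, Pi.add_apply, map_add, Pi.single_apply]
      split_ifs <;> simp
    have h1 := h (Pi.single i 1 + Pi.single j 1)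
    rw [hc] at h1
    have h2 := h (Pi.single i 1)
    have h3 := h (Pi.single j 1)
    rw [comp_single, map_one, ← Pi.basisFun_apply] at h2 h3
    simp only [QuadraticMap.polar, h1, h2, h3]

theorem map_mulVec' (M : Matrix ι₁ ι K) (v : ι → K) : ⇑e₀ ∘ (M *ᵥ v) = M.map e₀ *ᵥ (⇑e₀ ∘ v) :=
  funext fun i => RingHom.map_mulVec e₀ M v i

/-- Similitude identities extend. -/
theorem sim_base {q : QuadraticForm K (ι → K)} {Q : QuadraticForm L (ι → L)} (hq : Ext e₀ q Q)
    {q' : QuadraticForm K (ι₁ → K)} {Q' : QuadraticForm L (ι₁ → L)} (hq' : Ext e₀ q' Q') (M : Matrix ι₁ ι K) (μ : K)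
    (h : ∀ v, q' (M *ᵥ v) = μ * q v) (v : ι → L) : Q' (M.map e₀ *ᵥ v) = e₀ μ * Q v := by
  have := ext_base e₀ (Q'.comp (Matrix.mulVecLin (M.map e₀))) (e₀ μ • Q) fun w => by
    rw [QuadraticMap.comp_apply, Matrix.mulVecLin_apply, ← map_mulVec', hq', h, _root_.smul_apply, smul_eq_mul, hq,
      map_mul]
  exact congrFun (congrArg DFunLike.coe this) v

theorem ext_polar {q : QuadraticForm K (ι → K)} {Q : QuadraticForm L (ι → L)} (hq : Ext e₀ q Q) (x y : ι → K) :
    QuadraticMap.polar (⇑Q) (⇑e₀ ∘ x) (⇑e₀ ∘ y) = e₀ (QuadraticMap.polar (⇑q) x y) := by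
  have e : ⇑e₀ ∘ (x + y) = ⇑e₀ ∘ x + ⇑e₀ ∘ y := funext fun i => map_add e₀ _ _
  simp only [QuadraticMap.polar, ← e, hq _, map_sub]

/-- The extension of a linear equivalence. -/
noncomputable def extend (g : (ι → K) ≃ₗ[K] (ι₁ → K)) : (ι → L) ≃ₗ[L] (ι₁ → L) :=
  LinearEquiv.ofLinearMap (Matrix.mulVecLin ((LinearMap.toMatrix' g.toLinearMap).map e₀))
    (Matrix.mulVecLin ((LinearMap.toMatrix' g.symm.toLinearMap).map e₀))
    (by rw [← Matrix.mulVecLin_mul, ← Matrix.map_mul, ← LinearMap.toMatrix'_comp, LinearEquiv.comp_coe,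
      LinearEquiv.symm_trans_self, LinearEquiv.refl_toLinearMap, LinearMap.toMatrix'_id,
      Matrix.map_one e₀ (map_zero _) (map_one _), Matrix.mulVecLin_one])
    (by rw [← Matrix.mulVecLin_mul, ← Matrix.map_mul, ← LinearMap.toMatrix'_comp, LinearEquiv.comp_coe,
      LinearEquiv.self_trans_symm, LinearEquiv.refl_toLinearMap, LinearMap.toMatrix'_id,
      Matrix.map_one e₀ (map_zero _) (map_one _), Matrix.mulVecLin_one])

theorem extend_apply (g : (ι → K) ≃ₗ[K] (ι₁ → K)) (v : ι → L) :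
    extend e₀ g v = (LinearMap.toMatrix' g.toLinearMap).map e₀ *ᵥ v := rfl

theorem extend_base (g : (ι → K) ≃ₗ[K] (ι₁ → K)) (v : ι → K) : extend e₀ g (⇑e₀ ∘ v) = ⇑e₀ ∘ g v := by
  rw [extend_apply, ← map_mulVec', LinearMap.toMatrix'_mulVec]; rfl

theorem extend_comm (g : (ι → K) ≃ₗ[K] (ι₁ → K)) {σ : L ≃+* L} (hσ : ∀ x, σ (e₀ x) = e₀ x) (v : ι → L) :
    (fun i => σ (extend e₀ g v i)) = extend e₀ g fun i => σ (v i) := by
  funext i
  simp only [extend_apply, mulVec, dotProduct, map_sum, map_mul, Matrix.map_apply, hσ]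

end Gen

section GO

variable {ι : Type} [Fintype ι] [DecidableEq ι] {q : QuadraticForm K (ι → K)} {Q : QuadraticForm L (ι → L)}
  {e₀} (hq : Ext e₀ q Q)

include hq

/-- Similitudes over the larger field. -/
noncomputable def mapGO : GO q →* GO Q :=
  ((Matrix.GeneralLinearGroup.map e₀).comp (GO q).subtype).codRestrict _ fun x => by
    obtain ⟨c, hc⟩ := x.2
    exact ⟨Units.map e₀.toMonoidHom c, fun v => sim_base e₀ hq hq _ _ hc v⟩

theorem gm_mapGO (x : GO q) : gm Q (mapGO hq x) = (gm q x).map e₀ := rfl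

/-- Isometries over the larger field. -/
noncomputable def mapIso : Cfsg.isometryGroup K (⇑q) →* Cfsg.isometryGroup L (⇑Q) :=
  ((Matrix.GeneralLinearGroup.map e₀).comp (Cfsg.isometryGroup K (⇑q)).subtype).codRestrict _ fun x =>
    (mem_iff Q).2 fun v => by
      have := sim_base e₀ hq hq ((x : GL ι K) : Matrix ι ι K) 1 (fun w => by rw [(mem_iff q).1 x.2, one_mul]) v
      rwa [map_one, one_mul] at this

theorem mat_mapIso (x : Cfsg.isometryGroup K (⇑q)) : mat Q (mapIso hq x) = (mat q x).map e₀ := rfl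

theorem mapGO_toGO (s : Cfsg.isometryGroup K (⇑q)) : mapGO hq (toGO q s) = toGO Q (mapIso hq s) := Subtype.ext rfl

theorem mapGO_scal (c : Kˣ) : mapGO hq (scal q c) = scal Q (Units.map e₀.toMonoidHom c) := by
  refine OrthSim.go_ext Q ?_
  rw [gm_mapGO, OrthSim.gm_scal, OrthSim.gm_scal]
  ext i j
  by_cases h : i = j <;> simp [Matrix.one_apply, h]

theorem mapGO_injective : Function.Injective (mapGO hq) := fun x y h => OrthSim.go_ext q
  (Matrix.map_injective e₀.injective (congrArg (gm Q) h))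

theorem ext_ne {v : ι → K} (hv : q v ≠ 0) : Q (⇑e₀ ∘ v) ≠ 0 := by rw [hq]; exact (map_ne_zero e₀).2 hv

theorem mapIso_refl {v : ι → K} (hv : q v ≠ 0) : mapIso hq (refl q v hv) = refl Q (⇑e₀ ∘ v) (ext_ne hq hv) := by
  refine ext_mulVec Q fun w => ?_
  have : (Matrix.mulVecLin (mat Q (mapIso hq (refl q v hv)))) =
      Matrix.mulVecLin (mat Q (refl Q (⇑e₀ ∘ v) (ext_ne hq hv))) := by
    refine LinearMap.pi_ext fun i c => ?_
    have e : (Pi.single i c : ι → L) = c • (⇑e₀ ∘ (Pi.single i (1 : K) : ι → K)) := by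
      rw [comp_single, map_one, ← Pi.single_smul, smul_eq_mul, mul_one]
    rw [e, map_smul, map_smul]
    congr 1
    rw [Matrix.mulVecLin_apply, Matrix.mulVecLin_apply, mat_mapIso, ← map_mulVec', show mat q (refl q v hv) = Cfsg.reflectionMatrix (⇑q) v from coe_refl q v hv,
      show mat Q (refl Q (⇑e₀ ∘ v) (ext_ne hq hv)) = Cfsg.reflectionMatrix (⇑Q) (⇑e₀ ∘ v) from coe_refl Q _ _, mulVec_eq,
      mulVec_eq, ext_polar e₀ hq, hq]
    funext j
    simp
  exact congrFun (congrArg DFunLike.coe this) w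

theorem dickson_mapIso (hqn : (QuadraticMap.polarBilin q).Nondegenerate)
    (hQn : (QuadraticMap.polarBilin Q).Nondegenerate) (h : Fintype.card K ≠ 2 ∨ Fintype.card ι ≠ 4)
    (s : Cfsg.isometryGroup K (⇑q)) : dickson Q hQn (mapIso hq s) = dickson q hqn s := by
  classical
  induction mem_closure_refl q hqn h s using Subgroup.closure_induction with
  | mem r hr =>
    obtain ⟨v, hv, rfl⟩ := hr
    rw [mapIso_refl hq hv, dickson_refl, dickson_refl]
  | one => rw [map_one, map_one, map_one]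
  | mul a b _ _ ha hb => rw [map_mul, map_mul, map_mul, ha, hb]
  | inv a _ ha => rw [map_inv, map_inv, map_inv, ha]

end GO

end Cfsg.Lib.OrthField
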