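import Cfsg.Agent.Known.OrthSim.Parity
import Cfsg.Agent.Known.OrthField.Base

/-!
The two classes of maximal totally singular subspaces as a homomorphism on similitudes, in any characteristic.
-/

set_option autoImplicit false
set_option linter.unusedSectionVars false
set_option linter.style.haveILetI false

namespace Cfsg.Lib.OrthField

open Matrix Cfsg.Lib.Classical Cfsg.Lib.Classical.Refl Cfsg.Lib.OrthAut
open Cfsg.Lib.OrthSim (GO gm mu mu_spec toGO scal)

universe u

variable {F : Type u} [Field F] [Fintype F]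

/-- A semilinear bijective similitude between two forms. -/
structure IsSim {ι₁ ι : Type} (Q' : QuadraticForm F (ι₁ → F)) (Q : QuadraticForm F (ι → F)) (σ : F ≃+* F)
    (f : (ι₁ → F) → ι → F) : Prop where
  add : ∀ x y, f (x + y) = f x + f y
  smul : ∀ (c : F) x, f (c • x) = σ c • f x
  bij : Function.Bijective f
  sim : ∃ c : Fˣ, ∀ v, Q (f v) = c * σ (Q' v)

variable {ι₁ ι : Type} {Q' : QuadraticForm F (ι₁ → F)} {Q : QuadraticForm F (ι → F)} {σ : F ≃+* F}
  {f : (ι₁ → F) → ι → F}

theorem IsSim.zero (hf : IsSim Q' Q σ f) : f 0 = 0 := by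
  have := hf.smul 0 0
  rwa [zero_smul, map_zero, zero_smul] at this

/-- The image of a subspace. -/
def simg (hf : IsSim Q' Q σ f) (U : Submodule F (ι₁ → F)) : Submodule F (ι → F) where
  carrier := f '' U
  add_mem' := by
    rintro _ _ ⟨x, hx, rfl⟩ ⟨y, hy, rfl⟩
    exact ⟨x + y, U.add_mem hx hy, hf.add x y⟩
  zero_mem' := ⟨0, U.zero_mem, hf.zero⟩
  smul_mem' := by
    rintro c _ ⟨x, hx, rfl⟩
    exact ⟨σ.symm c • x, U.smul_mem _ hx, by rw [hf.smul, σ.apply_symm_apply]⟩

theorem mem_simg (hf : IsSim Q' Q σ f) {U : Submodule F (ι₁ → F)} {x : ι → F} :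
    x ∈ simg hf U ↔ ∃ u ∈ U, f u = x := Iff.rfl

theorem simg_inf (hf : IsSim Q' Q σ f) (U W : Submodule F (ι₁ → F)) : simg hf (U ⊓ W) = simg hf U ⊓ simg hf W :=
  SetLike.coe_injective (Set.image_inter hf.bij.1)

variable [Fintype ι₁] [Fintype ι]

theorem finrank_simg (hf : IsSim Q' Q σ f) (U : Submodule F (ι₁ → F)) :
    Module.finrank F (simg hf U) = Module.finrank F U := by
  have h := Nat.card_congr (Equiv.Set.image f (U : Set (ι₁ → F)) hf.bij.1)
  have h1 := Module.natCard_eq_pow_finrank (K := F) (V := U)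
  have h2 := Module.natCard_eq_pow_finrank (K := F) (V := simg hf U)
  rw [Nat.card_eq_fintype_card (α := F)] at h1 h2
  exact Nat.pow_right_injective Fintype.one_lt_card (h2.symm.trans (h.symm.trans h1))

theorem isMax_simg (hf : IsSim Q' Q σ f) {m : ℕ} {U : Submodule F (ι₁ → F)} (hU : HypQuad.IsMax Q' m U) :
    HypQuad.IsMax Q m (simg hf U) := by
  refine ⟨(finrank_simg hf U).trans hU.1, ?_⟩
  rintro _ ⟨x, hx, rfl⟩
  obtain ⟨c, hc⟩ := hf.sim
  rw [hc, hU.2 x hx, map_zero, mul_zero]

/-- Same class. -/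
def Same (m : ℕ) (U W : Submodule F (ι → F)) : Prop := Even (m - Module.finrank F ↥(U ⊓ W))

theorem same_simg (hf : IsSim Q' Q σ f) {m : ℕ} (U W : Submodule F (ι₁ → F)) :
    Same m (simg hf U) (simg hf W) ↔ Same m U W := by
  rw [Same, Same, ← simg_inf, finrank_simg]

variable [DecidableEq ι] [DecidableEq ι₁]

/-- A hyperbolic form with a maximal totally singular subspace. -/
structure Hyp (Q : QuadraticForm F (ι → F)) (m : ℕ) where
  nd : (QuadraticMap.polarBilin Q).Nondegenerate
  card : Fintype.card ι = 2 * m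
  three : 4 ≤ m
  L : Submodule F (ι → F)
  hL : HypQuad.IsMax Q m L

theorem same_trans {m : ℕ} (H : Hyp Q m) {U W X : Submodule F (ι → F)} (hU : HypQuad.IsMax Q m U)
    (hW : HypQuad.IsMax Q m W) (hX : HypQuad.IsMax Q m X) : Same m U X ↔ (Same m U W ↔ Same m W X) :=
  OrthSim.parity_sum H.nd H.card hU hW hX

theorem same_refl {m : ℕ} {U : Submodule F (ι → F)} (hU : HypQuad.IsMax Q m U) : Same m U U := by
  rw [Same, inf_idem, hU.1, Nat.sub_self]; exact Even.zero

theorem same_comm {m : ℕ} (U W : Submodule F (ι → F)) : Same m U W ↔ Same m W U := by rw [Same, Same, inf_comm]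

theorem isSim_go (x : GO Q) : IsSim Q Q (RingEquiv.refl F) (fun v => gm Q x *ᵥ v) where
  add := mulVec_add _
  smul c v := mulVec_smul _ c v
  bij := ⟨mulVec_injective_iff_isUnit.2 (Units.isUnit _), fun v =>
    ⟨(((x : GL ι F)⁻¹ : GL ι F) : Matrix ι ι F) *ᵥ v, by
      simp [gm, mulVec_mulVec, ← Units.val_mul]⟩⟩
  sim := ⟨x.2.choose, x.2.choose_spec⟩

/-- The image of a subspace under a similitude. -/
def img (x : GO Q) (U : Submodule F (ι → F)) : Submodule F (ι → F) := simg (isSim_go x) U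

theorem isMax_img (x : GO Q) {m : ℕ} {U : Submodule F (ι → F)} (hU : HypQuad.IsMax Q m U) :
    HypQuad.IsMax Q m (img x U) := isMax_simg (isSim_go x) hU

theorem img_one (U : Submodule F (ι → F)) : img (1 : GO Q) U = U := by
  ext v
  simp [img, mem_simg, gm]

theorem img_mul (x y : GO Q) (U : Submodule F (ι → F)) : img (x * y) U = img x (img y U) := by
  ext v
  simp only [img, mem_simg, OrthSim.gm_mul, ← mulVec_mulVec]
  constructor
  · rintro ⟨u, hu, rfl⟩; exact ⟨_, ⟨u, hu, rfl⟩, rfl⟩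
  · rintro ⟨_, ⟨u, hu, rfl⟩, rfl⟩; exact ⟨u, hu, rfl⟩

variable {m : ℕ} (H : Hyp Q m)

theorem img_invariant (x : GO Q) {U : Submodule F (ι → F)} (hU : HypQuad.IsMax Q m U) :
    Same m U (img x U) ↔ Same m H.L (img x H.L) := by
  have hxU := isMax_img x hU
  have hxL := isMax_img x H.hL
  have h0 : Same m (img x H.L) (img x U) ↔ Same m H.L U := same_simg _ _ _
  rw [same_trans H hU H.hL hxU, same_trans H H.hL hxL hxU, same_comm U H.L]
  tauto

open scoped _root_.Classical in
/-- The class homomorphism. -/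
noncomputable def eP : GO Q →* ℤˣ where
  toFun x := if Same m H.L (img x H.L) then 1 else -1
  map_one' := by rw [img_one, if_pos (same_refl H.hL)]
  map_mul' x y := by
    have hy := isMax_img y H.hL
    have hxy := isMax_img x hy
    have key : Same m H.L (img (x * y) H.L) ↔ (Same m H.L (img x H.L) ↔ Same m H.L (img y H.L)) := by
      rw [img_mul, same_trans H H.hL hy hxy, img_invariant H x hy]
      exact Iff.comm
    by_cases h1 : Same m H.L (img x H.L) <;> by_cases h2 : Same m H.L (img y H.L) <;> simp [h1, h2, key]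

theorem eP_iff (x : GO Q) : eP H x = 1 ↔ Same m H.L (img x H.L) := by
  by_cases h : Same m H.L (img x H.L) <;> simp [eP, h]

theorem eP_iff' (x : GO Q) {U : Submodule F (ι → F)} (hU : HypQuad.IsMax Q m U) :
    eP H x = 1 ↔ Same m U (img x U) := (eP_iff H x).trans (img_invariant H x hU).symm

theorem eP_toGO (s : Cfsg.isometryGroup F (⇑Q)) : eP H (toGO Q s) = dickson Q H.nd s := by
  have h1 : eP H (toGO Q s) = 1 ↔ dickson Q H.nd s = 1 := by
    refine (eP_iff H _).trans ?_
    have h := OmegaCls.parity_dickson H.nd H.card (Or.inr (by have := H.three; have := H.card; omega)) H.hL s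
    refine Iff.trans (iff_of_eq ?_) h
    rw [Same]
    congr
  rcases Int.units_eq_one_or (eP H (toGO Q s)) with e | e <;>
    rcases Int.units_eq_one_or (dickson Q H.nd s) with e' | e' <;> simp_all

theorem preserves_iff (x : GO Q) : Cfsg.PreservesSingularClasses (⇑Q) (gm Q x) ↔ eP H x = 1 := by
  have e : ∀ U, Cfsg.imageSubmodule (gm Q x) U = img x U := fun U => SetLike.ext fun v => by
    simp [Cfsg.imageSubmodule, img, mem_simg, Submodule.mem_map]
  constructor
  · intro h
    have := h H.L ((OrthSim.isMaxTS_iff H.nd H.card H.hL H.L).2 H.hL)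
    rw [Cfsg.SameParityClass, e, H.hL.1] at this
    exact (eP_iff H x).2 this
  · intro h U hU
    have hU' := (OrthSim.isMaxTS_iff H.nd H.card H.hL U).1 hU
    rw [Cfsg.SameParityClass, e, hU'.1]
    exact (eP_iff' H x hU').1 h

theorem img_eq_self {x : GO Q} {U : Submodule F (ι → F)} (hfix : ∀ v ∈ U, gm Q x *ᵥ v ∈ U) : img x U = U :=
  Submodule.eq_of_le_of_finrank_le (by rintro _ ⟨v, hv, rfl⟩; exact hfix v hv) (finrank_simg _ U).ge

theorem eP_fix {x : GO Q} {U : Submodule F (ι → F)} (hU : HypQuad.IsMax Q m U) (hfix : ∀ v ∈ U, gm Q x *ᵥ v ∈ U) :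
    eP H x = 1 := (eP_iff' H x hU).2 (by rw [img_eq_self hfix]; exact same_refl hU)

/-- Transport along a semilinear similitude. -/
theorem eP_conj {m' : ℕ} (H' : Hyp Q' m') (hm : m' = m) (hf : IsSim Q' Q σ f) (x' : GO Q') (x : GO Q)
    (e : ∀ v, f (gm Q' x' *ᵥ v) = gm Q x *ᵥ f v) : eP H x = eP H' x' := by
  subst hm
  have hU := isMax_simg hf H'.hL
  have himg : img x (simg hf H'.L) = simg hf (img x' H'.L) := SetLike.ext fun v => by
    simp only [img, mem_simg]
    constructor
    · rintro ⟨_, ⟨u, hu, rfl⟩, rfl⟩; exact ⟨_, ⟨u, hu, rfl⟩, e u⟩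
    · rintro ⟨_, ⟨u, hu, rfl⟩, rfl⟩; exact ⟨_, ⟨u, hu, rfl⟩, (e u).symm⟩
  have h1 : eP H x = 1 ↔ eP H' x' = 1 := by
    rw [eP_iff' H x hU, himg, same_simg, eP_iff]
  rcases Int.units_eq_one_or (eP H x) with e1 | e1 <;>
    rcases Int.units_eq_one_or (eP H' x') with e2 | e2 <;> simp_all

theorem eP_scal (c : Fˣ) : eP H (scal Q c) = 1 := eP_fix H H.hL fun v hv => by
  rw [OrthSim.gm_scal, smul_mulVec, one_mulVec]; exact H.L.smul_mem _ hv

end Cfsg.Lib.OrthField
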