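import Cfsg.Agent.Known.OrthField.PlusCase
import Cfsg.Agent.Known.OrthField.MinusCase

/-!
Involutory graph-field automorphisms of `PΩ⁺_{2m}(q)`.
-/

set_option autoImplicit false
set_option linter.unusedSectionVars false
set_option linter.style.haveILetI false

namespace Cfsg.Lib.OrthField

open Matrix Cfsg.Lib.Classical Cfsg.Lib.Classical.Refl Cfsg.Lib.OrthAut
open Cfsg.Lib.OrthSim (GO gm conjPO toGO scal NN minusD Aniso mu inndiagP inndiagM torusP)

universe u v

variable {F : Type u} [Field F] [Fintype F] [DecidableEq F]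

theorem unique_involution {σ τ : F ≃+* F} (hσ : orderOf σ = 2) (hτ : orderOf τ = 2) : σ = τ := by
  classical
  obtain ⟨p, hc⟩ := CharP.exists F
  haveI := Fact.mk (CharP.char_is_prime F p)
  obtain ⟨n, -, hn⟩ := FiniteField.card F p
  haveI := (Known.FieldLight.ringAut_facts (F := F) p n hn).1
  haveI : Finite (F ≃+* F) := Finite.of_injective (fun e => (e : F → F)) DFunLike.coe_injective
  letI := Fintype.ofFinite (F ≃+* F)
  by_contra hne
  have h := IsCyclic.card_pow_eq_one_le (α := F ≃+* F) (n := 2) (by norm_num)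
  have hsub : ({1, σ, τ} : Finset (F ≃+* F)) ⊆ (Finset.univ.filter fun a => a ^ 2 = 1) := by
    intro a ha
    simp only [Finset.mem_insert, Finset.mem_singleton] at ha
    refine Finset.mem_filter.2 ⟨Finset.mem_univ _, ?_⟩
    rcases ha with rfl | rfl | rfl
    · exact one_pow 2
    · rw [← hσ]; exact pow_orderOf_eq_one _
    · rw [← hτ]; exact pow_orderOf_eq_one _
  have h1 : σ ≠ 1 := fun e => by rw [e, orderOf_one] at hσ; omega
  have h2 : τ ≠ 1 := fun e => by rw [e, orderOf_one] at hτ; omega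
  have h3 := (Finset.card_le_card hsub).trans h
  rw [Finset.card_insert_of_notMem (by simp [Ne.symm h1, Ne.symm h2]), Finset.card_pair hne] at h3
  omega

theorem mem_relIndex_two {G : Type*} [Group G] {H M : Subgroup G} {a : G} (ha : a ∈ M) (haH : a ∉ H)
    (hcov : ∀ b ∈ M, b ∉ H → b * a ∈ H) : H.relIndex M = 2 := by
  rw [Subgroup.relIndex, Subgroup.index_eq_two_iff]
  refine ⟨⟨a, ha⟩, fun b => ?_⟩
  simp only [Subgroup.mem_subgroupOf, Subgroup.coe_mul]
  by_cases hb : (b : G) ∈ H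
  · exact Or.inr ⟨hb, fun h => haH (by simpa using H.mul_mem (H.inv_mem hb) h)⟩
  · exact Or.inl ⟨hcov b b.2 hb, hb⟩

theorem spin_torusP_eq {m : ℕ} (h2 : (2 : F) ≠ 0) (hm : 1 ≤ m) (f : Fin m → Fˣ) :
    spin (HypQuad.plusForm m F) (torusP f) = if IsSquare (∏ i, (f i : F)) then 1 else -1 := by
  classical
  have hsingle : ∀ i (c : Fˣ), spin (HypQuad.plusForm m F) (torusP (Pi.mulSingle i c)) = if IsSquare (c : F) then 1 else -1 := by
    intro i c
    split_ifs with hc
    · obtain ⟨r, hr⟩ := hc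
      have hr0 : r ≠ 0 := fun h => c.ne_zero (by rw [hr, h, mul_zero])
      rw [show c = Units.mk0 r hr0 * Units.mk0 r hr0 from Units.ext hr, Pi.mulSingle_mul, map_mul, map_mul,
        Int.units_mul_self]
    refine OrthSim.spin_pair_torus h2 (HypQuad.plusForm_nondegenerate m) (by simp; omega)
      (e := Pi.single (Sum.inl i) 1) (f := Pi.single (Sum.inr i) 1) (c := (c : F)) ?_ ?_ ?_ hc _ fun x => ?_
    · simp [HypQuad.plusForm_apply, Cfsg.quadFormPlus]
    · simp [HypQuad.plusForm_apply, Cfsg.quadFormPlus]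
    · simp [QuadraticMap.polar, HypQuad.plusForm_apply, Cfsg.quadFormPlus, Pi.single_apply]
    · have pe : QuadraticMap.polar (⇑(HypQuad.plusForm m F)) (Pi.single (Sum.inl i) 1) x = x (Sum.inr i) := by
        simp [QuadraticMap.polar, HypQuad.plusForm_apply, Cfsg.quadFormPlus, Pi.single_apply, add_mul,
          Finset.sum_add_distrib]
      have pf : QuadraticMap.polar (⇑(HypQuad.plusForm m F)) (Pi.single (Sum.inr i) 1) x = x (Sum.inl i) := by
        simp [QuadraticMap.polar, HypQuad.plusForm_apply, Cfsg.quadFormPlus, Pi.single_apply, mul_add,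
          Finset.sum_add_distrib]
      rw [pe, pf]
      funext j
      rw [OrthSim.torusP_mulVec]
      rcases j with j | j <;> rcases eq_or_ne j i with rfl | hj <;> simp [*] <;> ring
  have key : ∀ a b : Fˣ, (if IsSquare ((a * b : Fˣ) : F) then (1 : ℤˣ) else -1) =
      (if IsSquare (a : F) then 1 else -1) * (if IsSquare (b : F) then 1 else -1) := fun a b => by
    rw [Units.val_mul]
    have h1 := fun x : Fˣ => quadraticChar_one_iff_isSquare (F := F) (a := (x : F)) x.ne_zero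
    by_cases ha : IsSquare (a : F) <;> by_cases hb : IsSquare (b : F)
    · rw [if_pos (ha.mul hb), if_pos ha, if_pos hb, one_mul]
    · rw [if_neg, if_pos ha, if_neg hb, one_mul]
      intro h
      refine hb ((h1 b).1 ?_)
      have := (quadraticChar_one_iff_isSquare (mul_ne_zero a.ne_zero b.ne_zero)).2 h
      rwa [map_mul, (h1 a).2 ha, one_mul] at this
    · rw [if_neg, if_neg ha, if_pos hb, mul_one]
      intro h
      refine ha ((h1 a).1 ?_)
      have := (quadraticChar_one_iff_isSquare (mul_ne_zero a.ne_zero b.ne_zero)).2 h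
      rwa [map_mul, (h1 b).2 hb, mul_one] at this
    · rw [if_pos, if_neg ha, if_neg hb, neg_mul_neg, one_mul]
      refine (quadraticChar_one_iff_isSquare (mul_ne_zero a.ne_zero b.ne_zero)).1 ?_
      rw [map_mul, quadraticChar_neg_one_iff_not_isSquare.2 ha, quadraticChar_neg_one_iff_not_isSquare.2 hb]
      norm_num
  let χ : Fˣ →* ℤˣ := MonoidHom.mk' (fun a => if IsSquare (a : F) then 1 else -1) key
  have h := map_prod ((spin (HypQuad.plusForm m F)).comp torusP) (fun i : Fin m => Pi.mulSingle i (f i)) Finset.univ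
  rw [Finset.univ_prod_mulSingle] at h
  refine h.trans ((Finset.prod_congr rfl fun i _ => hsingle i (f i)).trans ((map_prod χ f Finset.univ).symm.trans ?_))
  show (if IsSquare ((∏ i, f i : Fˣ) : F) then (1 : ℤˣ) else -1) = _
  rw [Units.coe_prod]

/-- The criterion of squareness of a square root of a non-square of the subfield. -/
theorem isSquare_sqrt_iff {K : Type v} [Field K] [Fintype K] {e₀ : K →+* F} (h2 : (2 : F) ≠ 0)
    (hcard : Fintype.card F = Fintype.card K ^ 2) {ν : K} (hν : ¬ IsSquare ν) {c : F} (hc : c * c = e₀ ν) :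
    IsSquare c ↔ Fintype.card K % 4 = 3 := by
  classical
  have hν0 : ν ≠ 0 := fun h => hν (by rw [h]; exact IsSquare.zero)
  have hc0 : c ≠ 0 := fun h => hν0 (e₀.injective (by rw [← hc, h, mul_zero, map_zero]))
  have h2K : (2 : K) ≠ 0 := two_ne e₀ h2
  have hF' : ringChar F ≠ 2 := fun h => h2 (by haveI := ringChar.of_eq h; exact CharTwo.two_eq_zero)
  have hK' : ringChar K ≠ 2 := fun h => h2K (by haveI := ringChar.of_eq h; exact CharTwo.two_eq_zero)
  have hodd := FiniteField.odd_card_of_char_ne_two hK'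
  obtain ⟨j, hj⟩ : ∃ j, Fintype.card K = 2 * j + 1 := ⟨Fintype.card K / 2, by omega⟩
  have hνj : ν ^ j = -1 := by
    have h1 := (FiniteField.pow_dichotomy hK' hν0).resolve_left fun h => hν ((FiniteField.isSquare_iff hK' hν0).2 h)
    rwa [show Fintype.card K / 2 = j by omega] at h1
  have hexp : Fintype.card F / 2 = 2 * (j * (j + 1)) := by
    rw [hcard, hj, show (2 * j + 1) ^ 2 = 2 * (2 * (j * (j + 1))) + 1 by ring]
    omega
  rw [FiniteField.isSquare_iff hF' hc0, hexp, pow_mul, pow_two, hc, pow_mul, ← map_pow, hνj, map_neg, map_one]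
  constructor
  · intro h
    rcases Nat.even_or_odd (j + 1) with ⟨i, hi⟩ | he
    · omega
    · rw [he.neg_one_pow] at h
      exact absurd (by linear_combination -h : (2 : F) = 0) h2
  · intro h
    exact Even.neg_one_pow ⟨(j + 1) / 2, by omega⟩

section Model

variable {k : ℕ} {F₀ : Type v} [Field F₀] [Fintype F₀] [DecidableEq F₀]

local notation "ιM" => (Fin k ⊕ Fin k) ⊕ Fin 2
local notation "ιP" => Fin (k + 1) ⊕ Fin (k + 1)
local notation "QP" => HypQuad.plusForm (k + 1) F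

/-- The split model of a minus form with a root. -/
theorem exists_split_model {z : F} {ρ ρ' : F} (hs : ρ + ρ' = -1) (hp : ρ * ρ' = z) (hne : ρ ≠ ρ') :
    ∃ T : (ιM → F) ≃ₗ[F] (ιP → F), (∀ v, QP (T v) = ((1 : Fˣ) : F) * minusForm k F 1 z v) ∧
      ∀ v, T v = Sum.elim (Fin.snoc (fun i => v (Sum.inl (Sum.inl i))) (v (Sum.inr 0) - ρ' * v (Sum.inr 1)))
        (Fin.snoc (fun i => v (Sum.inl (Sum.inr i))) (v (Sum.inr 0) - ρ * v (Sum.inr 1))) := by
  let L : (ιM → F) →ₗ[F] (ιP → F) :=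
    { toFun := fun v => Sum.elim (Fin.snoc (fun i => v (Sum.inl (Sum.inl i))) (v (Sum.inr 0) - ρ' * v (Sum.inr 1)))
        (Fin.snoc (fun i => v (Sum.inl (Sum.inr i))) (v (Sum.inr 0) - ρ * v (Sum.inr 1)))
      map_add' := fun x y => funext fun i => by
        rcases i with i | i <;> induction i using Fin.lastCases <;> simp <;> ring
      map_smul' := fun c x => funext fun i => by
        rcases i with i | i <;> induction i using Fin.lastCases <;> simp <;> ring }
  have hinj : Function.Injective L := (injective_iff_map_eq_zero L).2 fun v hv => by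
    have h1 : v (Sum.inr 0) - ρ' * v (Sum.inr 1) = 0 := by simpa [L] using congrFun hv (Sum.inl (Fin.last k))
    have h2 : v (Sum.inr 0) - ρ * v (Sum.inr 1) = 0 := by simpa [L] using congrFun hv (Sum.inr (Fin.last k))
    have h3 : v (Sum.inr 1) = 0 :=
      (mul_eq_zero.1 (by linear_combination h1 - h2 : (ρ - ρ') * v (Sum.inr 1) = 0)).resolve_left (sub_ne_zero.2 hne)
    funext i
    rcases i with (i | i) | i
    · simpa [L] using congrFun hv (Sum.inl i.castSucc)
    · simpa [L] using congrFun hv (Sum.inr i.castSucc)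
    · fin_cases i
      · simpa [h3] using h1
      · exact h3
  have hbij : Function.Bijective L :=
    ⟨hinj, (LinearMap.injective_iff_surjective_of_finrank_eq_finrank (by simp; omega)).1 hinj⟩
  refine ⟨LinearEquiv.ofBijective L hbij, fun v => ?_, fun v => rfl⟩
  rw [LinearEquiv.ofBijective_apply, HypQuad.plusForm_apply, minusForm_coe, Units.val_one, one_mul]
  simp [L, Cfsg.quadFormPlus, Cfsg.quadFormMinus, Fin.sum_univ_castSucc]
  linear_combination (v (Sum.inr 1)) ^ 2 * hp - v (Sum.inr 0) * v (Sum.inr 1) * hs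

set_option maxHeartbeats 2000000 in
theorem graph_data (h5 : 5 ≤ k + 1) (φ : (ιP → F) → F) (hφ : φ = ⇑QP) {p f : ℕ} [Fact p.Prime]
    (hF : Fintype.card F = p ^ f) (x : MulAut (Cfsg.POmega F φ)) (hx : GraphField φ x) (hx2 : orderOf x = 2)
    (hF₀ : Fintype.card F₀ = p ^ (f / 2)) :
    Even f ∧ (∀ y : MulAut (Cfsg.POmega F φ), GraphField φ y → orderOf y = 2 →
      Cfsg.IsConjUnder (inndiagP φ) x y) ∧
    (∃ a₀ b₀ : F₀, Aniso a₀ b₀ ∧ Nonempty (↥(inndiagP φ ⊓ Subgroup.centralizer {x}) ≃*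
      ↥(inndiagM a₀ b₀ (Cfsg.quadFormMinus k F₀ a₀ b₀)))) ∧
    ((2 : F) = 0 → Cfsg.splitClassCount (inndiagP φ) (Cfsg.Inn (Cfsg.POmega F φ)) x = 1) ∧
    (((2 : F) ≠ 0 ∧ Odd (k + 1) ∧ Fintype.card F₀ % 4 = 1) →
      Cfsg.splitClassCount (inndiagP φ) (Cfsg.Inn (Cfsg.POmega F φ)) x = 4) ∧
    (((2 : F) ≠ 0 ∧ ¬ (Odd (k + 1) ∧ Fintype.card F₀ % 4 = 1)) →
      Cfsg.splitClassCount (inndiagP φ) (Cfsg.Inn (Cfsg.POmega F φ)) x = 2) := by
  subst hφ
  have hm : 4 ≤ k + 1 := by omega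
  have hk : 3 ≤ k := by omega
  obtain ⟨-, σ, hord, w, hw, he⟩ := plus_graph_form hm h5 rfl hx Nat.prime_two hx2
  obtain rfl := eq_of_heq hw
  have hrf : 2 ∣ f := hord ▸ Known.FieldLight.order_dvd hF σ
  obtain ⟨e₀, hfix⟩ := Known.FieldLight.exists_fixed_hom hF hord F₀ hF₀
  have hcard : Fintype.card F = Fintype.card F₀ ^ 2 := by
    rw [hF, hF₀, ← pow_mul, Nat.div_mul_cancel hrf]
  set g₀ := stdP (F := F) hm (-1)
  obtain ⟨y₀, hy₀, hxy⟩ := plus_conj_std hm h5 hord Nat.prime_two (w := w)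
    (hx2 ▸ pow_orderOf_eq_one _) (Or.inr rfl)
  rw [he] at hxy
  have hg2 : ∀ v, (semiMap (g₀ : GL ιP F) σ)^[2] v = v := fun v => by
    show gm QP g₀ *ᵥ (fun i => σ ((gm QP g₀ *ᵥ fun j => σ (v j)) i)) = v
    rw [stdP_commute, mulVec_mulVec, ← OrthSim.gm_mul, stdP_sq]
    have hσ2 : σ ^ 2 = 1 := by rw [← hord, pow_orderOf_eq_one]
    rw [pow_two] at hσ2
    funext i
    simp only [gm, OneMemClass.coe_one, Units.val_one, one_mulVec]
    exact DFunLike.congr_fun hσ2 (v i)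
  obtain ⟨ζ, hζ⟩ := exists_zeta (F := F₀)
  obtain ⟨ρ, hρ, T, c, hT, hc⟩ : ∃ (ρ : F), ρ ^ 2 + ρ + e₀ ζ = 0 ∧
      ∃ (T : (ιM → F) ≃ₗ[F] (ιP → F)) (c : Fˣ),
        (∀ v, semiMap (g₀ : GL ιP F) σ (T v) = T fun i => σ (v i)) ∧
          ∀ v, QP (T v) = (c : F) * minusForm k F (e₀ 1) (e₀ ζ) v := by
    rcases plus_shape hm hfix hord Nat.prime_two hg2 with ⟨-, h⟩ | ⟨-, -, h⟩
    · rw [eP_stdP] at h; exact absurd h (by decide)
    · obtain ⟨⟨ρ, hρ⟩, ht⟩ := h ζ hζ
      rw [← map_one e₀] at ht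
      exact ⟨ρ, hρ, ht⟩
  have hab₀ : Aniso (1 : F₀) ζ := aniso_zeta hζ
  have G := good_plus (F := F) hm
  have hq : Ext e₀ (minusForm k F₀ 1 ζ) (minusForm k F (e₀ 1) (e₀ ζ)) := ext_minusForm e₀
  obtain ⟨t, ht⟩ := exists_tGO (Q := QP) T hc
  have hρ1 : ρ ^ 2 + e₀ 1 * ρ + e₀ ζ = 0 := by rw [map_one]; linear_combination hρ
  have hM : ∀ b, t (mapGO hq b) ∈ MP hm ↔ b ∈ MM hk hab₀ := fun b => by
    rw [MonoidHom.mem_ker, MonoidHom.mem_ker, eM_eq hk hab₀ e₀ hρ1,
      eP_conj (plusHyp hm) (lineHyp hk hab₀ e₀ hρ1) rfl (σ := RingEquiv.refl F) (f := T)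
        ⟨T.map_add, fun a z => by simp, T.bijective, ⟨c, fun v => hc v⟩⟩ (mapGO hq b) _ fun v => (ht _ v).symm]
  have hNN : NN QP ≤ MP hm := fun z hz => by
    obtain ⟨d, s, hs, rfl⟩ := (OrthSim.mem_NN _).1 hz
    rw [MonoidHom.mem_ker, map_mul, eP_scal, one_mul, eP_toGO]
    exact hom_eq_one_of_omega _ (dickson _ (plusHyp hm).nd) hs
  have hscal := scal_mem_MP (F := F) hm
  refine ⟨even_iff_two_dvd.2 hrf, fun y hy hy2 => ?_, ?_, ?_⟩
  · obtain ⟨-, σ', hord', w', hw', he'⟩ := plus_graph_form hm h5 rfl hy Nat.prime_two hy2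
    obtain rfl := unique_involution hord hord'
    obtain rfl := eq_of_heq hw'
    obtain ⟨y₁, hy₁, hyy⟩ := plus_conj_std hm h5 hord Nat.prime_two (w := w')
      (hy2 ▸ pow_orderOf_eq_one _) (Or.inr rfl)
    rw [he'] at hyy
    rw [inndiag_plus hm]
    refine ⟨conjPO QP (y₁ * y₀⁻¹), ⟨_, mul_mem hy₁ (inv_mem hy₀), rfl⟩, ?_⟩
    rw [hyy, hxy, map_mul, map_inv]
    group
  · refine ⟨1, ζ, hab₀, ?_⟩
    rw [show Cfsg.quadFormMinus k F₀ 1 ζ = ⇑(minusForm k F₀ 1 ζ) from (minusForm_coe _ _ _).symm,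
      inndiag_minus hk hab₀, inndiag_plus hm, hxy]
    obtain ⟨e1⟩ := cent_conj_mem (H := (MP hm).map (conjPO QP)) (x := semiW (fixes_plus σ) g₀) ⟨y₀, hy₀, rfl⟩
    obtain ⟨e2⟩ := cent_equiv (fixes_plus σ) hq hT hc ht G (OrthOut.good_minus hk hab₀) hfix (MP hm) hscal
      (MM hk hab₀) hM
    exact ⟨e1.trans e2⟩
  set H := (MM hk hab₀).map (t.comp (mapGO hq)) ⊔ NN QP
  have hcount : Cfsg.splitClassCount (inndiagP ⇑QP) (Cfsg.Inn (Cfsg.POmega F ⇑QP)) (semiW (fixes_plus σ) w) =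
      H.relIndex (MP hm) := by
    rw [inndiag_plus hm, hxy, split_conj_mem (Subgroup.mem_map_of_mem (conjPO QP) hy₀),
      split_std (fixes_plus σ) hq hT hc ht G hfix _ hscal (MM hk hab₀) hM hNN]
  rw [hcount]
  have hn2 : 2 ≤ Fintype.card ιP := by simp; omega
  refine ⟨fun h2 => ?_, ?_⟩
  · haveI : CharP F 2 := CharTwo.of_one_ne_zero_of_two_eq_zero one_ne_zero h2
    refine Subgroup.relIndex_eq_one.2 fun z hz => Subgroup.mem_sup_right ?_
    obtain ⟨d, hd⟩ := exists_sqrt_two h2 (mu QP z : F)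
    have hd0 : d ≠ 0 := fun e => (mu QP z).ne_zero (by rw [← hd, e, mul_zero])
    obtain ⟨s, hs⟩ := OrthSim.exists_iso_of_mu QP G.nd G.big (g := scal QP (Units.mk0 d hd0)⁻¹ * z) (by
      rw [OrthSim.mu_mul _ G.nd G.big, OrthSim.mu_scal _ G.nd G.big, ← mul_inv,
        show Units.mk0 d hd0 * Units.mk0 d hd0 = mu QP z from Units.ext hd, inv_mul_cancel])
    refine (OrthSim.mem_NN _).2 ⟨Units.mk0 d hd0, s, ?_, by rw [← hs, ← mul_assoc, ← map_mul, mul_inv_cancel,
      map_one, one_mul]⟩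
    refine (OmegaCls.dickson_iff G.nd (by omega) (Or.inr (by simp; omega)) s).2 ?_
    rw [← eP_toGO (plusHyp hm), ← hs, map_mul, eP_scal, one_mul]
    exact MonoidHom.mem_ker.1 hz
  suffices hodd : (2 : F) ≠ 0 →
      H.relIndex (MP hm) = if Odd (k + 1) ∧ Fintype.card F₀ % 4 = 1 then 4 else 2 by
    exact ⟨fun h => by rw [hodd h.1, if_pos h.2], fun h => by rw [hodd h.1, if_neg h.2]⟩
  intro h2
  set S := OrthSim.setupP (F := F) h2 hm
  have hMS : MP hm = S.M := SetLike.ext fun z =>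
    (MonoidHom.mem_ker.trans (preserves_iff (plusHyp hm) z).symm).trans (OrthSim.preservesPlus_iff h2 hm z)
  have hF2 : ringChar F ≠ 2 := fun h => h2 (by haveI := ringChar.of_eq h; exact CharTwo.two_eq_zero)
  have hFodd : Odd (Fintype.card F) := Nat.odd_iff.2 (FiniteField.odd_card_of_char_ne_two hF2)
  have hneg : OrthSim.Setup.NegMem QP := by
    refine (OrthSim.negMem_plus h2 hm hFodd).2 fun h => ?_
    have hq0 : Fintype.card F₀ % 2 = 1 := by
      by_contra hne
      rw [hcard, Nat.odd_iff, Nat.pow_mod] at hFodd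
      rw [show Fintype.card F₀ % 2 = 0 by omega] at hFodd
      simp at hFodd
    rw [hcard, Nat.pow_mod] at h
    rcases (show Fintype.card F₀ % 4 = 1 ∨ Fintype.card F₀ % 4 = 3 by omega) with e | e <;> rw [e] at h <;>
      exact absurd h.2 (by decide)
  have hq1 : (QuadraticMap.polarBilin (minusForm k F (e₀ 1) (e₀ ζ))).Nondegenerate := (lineHyp hk hab₀ e₀ hρ1).nd
  have hnd0 := minusForm_nondegenerate' k hab₀
  have hmu : ∀ b : GO (minusForm k F₀ 1 ζ),
      mu QP (t (mapGO hq b)) = Units.map e₀.toMonoidHom (mu _ b) := fun b => OrthSim.mu_eq _ G.nd G.big fun u => by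
    obtain ⟨v, rfl⟩ := T.surjective u
    rw [ht, hc, hc, gm_mapGO, sim_base e₀ hq hq _ _ (OrthSim.mu_spec _ b)]
    show (c : F) * (e₀ (mu _ b : F₀) * _) = e₀ (mu _ b : F₀) * ((c : F) * _)
    ring
  have hHK : H ≤ S.K := sup_le (by
    rintro _ ⟨b, hb, rfl⟩
    refine S.mem_K.2 ⟨MonoidHom.mem_ker.1 (hMS ▸ (hM b).2 hb : t (mapGO hq b) ∈ S.M), (S.t_eq_one_iff _).2 ?_⟩
    obtain ⟨r, hr⟩ := square_map h2 hfix hord (mu _ b : F₀)
    have hr0 : r ≠ 0 := fun e => (mu _ b).ne_zero (e₀.injective (by rw [hr, e, mul_zero, map_zero]))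
    exact ⟨Units.mk0 r hr0, Units.ext (by
      show ((mu QP (t (mapGO hq b)) : Fˣ) : F) = _
      rw [hmu]; exact hr)⟩) S.nn_le
  have hKM : S.K.relIndex (MP hm) = 2 := by
    refine mem_relIndex_two (a := S.D) (hMS ▸ MonoidHom.mem_ker.2 S.hD1) S.D_notMem fun b hb hbK => ?_
    rw [hMS] at hb
    have he1 : S.e b = 1 := hb
    have ht1 : S.t b = -1 := (S.t_pm b).resolve_left fun e => hbK (S.mem_K.2 ⟨he1, e⟩)
    exact S.mem_K.2 ⟨by rw [map_mul, he1, show S.e S.D = 1 from S.hD1, one_mul],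
      by rw [map_mul, ht1, S.t_D, neg_mul_neg, one_mul]⟩
  have hNK : (NN QP).relIndex S.K = 2 :=
    mem_relIndex_two S.s0_mem (S.s0_notMem hneg) fun b hb hbN =>
      S.mul_mem_of_out hb S.s0_mem hbN (S.s0_notMem hneg)
  have hKle : S.K ≤ MP hm := fun z hz => hMS ▸ MonoidHom.mem_ker.2 (S.mem_K.1 hz).1
  -- the torus element
  obtain ⟨ν, hν⟩ := OrthSim.exists_nonsq (two_ne e₀ h2)
  obtain ⟨u, v, huv⟩ := exists_binary hab₀ ν.ne_zero
  have huv0 : u ^ 2 + 1 * u * v + ζ * v ^ 2 ≠ 0 := huv ▸ ν.ne_zero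
  set D₀ := minusD (m := k) u v huv0
  have hD₀ : D₀ ∈ MM hk hab₀ := by
    rw [MonoidHom.mem_ker, ← mul_one D₀, ← map_one (toGO (minusForm k F₀ 1 ζ)), eM_minusD, map_one]
  have hσe : ∀ z, σ (e₀ z) = e₀ z := fun z => (hfix _).2 ⟨z, rfl⟩
  have hσρ : σ ρ = -1 - ρ := by
    have h' : (σ ρ) ^ 2 + σ ρ + e₀ ζ = 0 := by
      have := congrArg σ hρ
      rwa [map_add, map_add, map_pow, hσe, map_zero] at this
    rcases mul_eq_zero.1 (show (σ ρ - ρ) * (σ ρ - (-1 - ρ)) = 0 by linear_combination h' - hρ) with e | e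
    · exfalso
      obtain ⟨z, rfl⟩ := (hfix ρ).1 (sub_eq_zero.1 e)
      exact hζ z (e₀.injective (by rw [map_zero, map_add, map_add, map_pow]; exact hρ))
    · exact sub_eq_zero.1 e
  have hρne : ρ ≠ -1 - ρ := fun e => by
    rw [← hσρ] at e
    obtain ⟨z, rfl⟩ := (hfix ρ).1 e.symm
    exact hζ z (e₀.injective (by rw [map_zero, map_add, map_add, map_pow]; exact hρ))
  obtain ⟨T₁, hT₁, hT₁v⟩ := exists_split_model (k := k) (z := e₀ ζ) (ρ := ρ) (ρ' := -1 - ρ) (by ring)
    (by linear_combination -hρ) hρne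
  rw [← map_one e₀] at hT₁
  obtain ⟨t₁, ht₁⟩ := exists_tGO (Q := QP) T₁ hT₁
  let w₀L := T₁.symm.trans T
  have hw₀det : (LinearMap.toMatrix' w₀L.toLinearMap).det ≠ 0 := by
    rw [LinearMap.det_toMatrix']
    exact (LinearEquiv.isUnit_det' w₀L).ne_zero
  let w₀g : GL ιP F := Matrix.GeneralLinearGroup.mkOfDetNeZero _ hw₀det
  have hw₀ : ∀ z, (w₀g : Matrix ιP ιP F) *ᵥ z = T (T₁.symm z) := fun z => LinearMap.toMatrix'_mulVec _ z
  let w₀ : GO QP := ⟨w₀g, c, fun z => by
    rw [hw₀, hc]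
    have h1 := hT₁ (T₁.symm z)
    rw [T₁.apply_symm_apply, Units.val_one, one_mul] at h1
    rw [← h1]⟩
  have hconj : ∀ b, t (mapGO hq b) = w₀ * t₁ (mapGO hq b) * w₀⁻¹ := fun b => by
    rw [eq_mul_inv_iff_mul_eq]
    refine OrthSim.go_ext QP (Matrix.toLin'.injective (LinearMap.ext fun z => ?_))
    obtain ⟨z', rfl⟩ := T₁.surjective z
    rw [Matrix.toLin'_apply, Matrix.toLin'_apply, OrthSim.gm_mul, OrthSim.gm_mul, ← mulVec_mulVec,
      ← mulVec_mulVec, ht₁]
    show gm QP (t (mapGO hq b)) *ᵥ ((w₀g : Matrix ιP ιP F) *ᵥ T₁ z') = (w₀g : Matrix ιP ιP F) *ᵥ _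
    rw [hw₀, hw₀, T₁.symm_apply_apply, T₁.symm_apply_apply, ht]
  haveI := OrthSim.nn_normal QP
  have hnorm : ∀ b, t (mapGO hq b) ∈ NN QP ↔ t₁ (mapGO hq b) ∈ NN QP := fun b => by
    rw [hconj]
    refine ⟨fun h => ?_, fun h => Subgroup.Normal.conj_mem ‹(NN QP).Normal› _ h _⟩
    simpa [mul_assoc] using Subgroup.Normal.conj_mem ‹(NN QP).Normal› _ h w₀⁻¹
  obtain ⟨cc, hcc⟩ := square_map (e₀ := e₀) h2 hfix hord (ν : F₀)
  have hcc0 : cc ≠ 0 := fun e => ν.ne_zero (e₀.injective (by rw [hcc, e, mul_zero, map_zero]))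
  set lam' := e₀ u - (-1 - ρ) * e₀ v
  set lam := e₀ u - ρ * e₀ v
  have hlam : lam * lam' = e₀ (ν : F₀) := by
    rw [← huv, map_add, map_add, map_pow, map_mul, map_mul, map_mul, map_one, map_pow]
    simp only [lam, lam']
    linear_combination -(e₀ v) ^ 2 * hρ
  have hlam0 : lam' ≠ 0 := fun e => (Units.ne_zero ν) (e₀.injective (by rw [← hlam, e, mul_zero, map_zero]))
  have hlamns : ¬ IsSquare lam' := by
    rintro ⟨y, hy⟩
    have hσlam : σ lam' = lam := by
      simp only [lam, lam', map_sub, map_mul, map_neg, map_one, hσe, hσρ]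
      ring
    obtain ⟨z, hz⟩ : y * σ y ∈ Set.range e₀ := (hfix _).1 (by
      have hσ2 : σ ^ 2 = 1 := by rw [← hord, pow_orderOf_eq_one]
      rw [pow_two] at hσ2
      rw [map_mul, show σ (σ y) = y from DFunLike.congr_fun hσ2 y, mul_comm])
    refine hν ⟨z, e₀.injective ?_⟩
    rw [map_mul, hz, ← hlam, ← hσlam, hy, map_mul]
    ring
  let fT : Fin (k + 1) → Fˣ := Fin.snoc (fun _ => Units.mk0 cc hcc0) (Units.mk0 (lam' / cc) (div_ne_zero hlam0 hcc0))
  have himage : t₁ (mapGO hq D₀) = scal QP (Units.mk0 cc hcc0) * toGO QP (torusP fT) := by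
    refine OrthSim.go_ext QP (Matrix.toLin'.injective (LinearMap.ext fun z => ?_))
    obtain ⟨z', rfl⟩ := T₁.surjective z
    rw [Matrix.toLin'_apply, Matrix.toLin'_apply, ht₁, OrthSim.gm_mul, ← mulVec_mulVec, OrthSim.gm_scal,
      smul_mulVec, one_mulVec, OrthSim.gm_toGO, hT₁v, hT₁v, gm_mapGO, OrthSim.gm_minusD]
    have hN : e₀ u ^ 2 + e₀ u * e₀ v + e₀ ζ * e₀ v ^ 2 = cc * cc := by
      rw [← hcc, ← huv, map_add, map_add, map_pow, map_mul, map_mul, map_mul, map_one, map_pow]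
      ring
    funext i
    rw [Pi.smul_apply, OrthSim.torusP_mulVec, smul_eq_mul]
    rcases i with i | i <;> induction i using Fin.lastCases with
    | last =>
      simp [fT, OrthSim.minusMat, lam', Matrix.mulVec, dotProduct, Fin.sum_univ_two]
      field_simp
      first
      | linear_combination -(e₀ v * z' (Sum.inr 1)) * hρ
      | (rw [eq_div_iff (by intro h; exact hlam0 (by simp only [lam']; linear_combination h))]
         linear_combination (z' (Sum.inr 0) - z' (Sum.inr 1) * ρ) * hN +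
           (-(e₀ v) ^ 2 * (z' (Sum.inr 0) - z' (Sum.inr 1) * ρ) -
             e₀ v * z' (Sum.inr 1) * (e₀ u - e₀ v * (-1 - ρ))) * hρ)
    | cast i =>
      simp [fT, OrthSim.minusMat, Matrix.mulVec, dotProduct, fromBlocks, diagonal_apply]
      all_goals (first | field_simp | skip)
      all_goals first
      | ring1
      | (simp [apply_ite e₀, ite_mul, map_add, map_mul, map_pow] <;> exact Or.inl (by linear_combination hN))
  have hDNN : t (mapGO hq D₀) ∈ NN QP ↔ Odd (k + 1) ∧ Fintype.card F₀ % 4 = 1 := by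
    rw [hnorm, himage, OrthSim.scal_mul_mem_NN S hneg _ _ (OrthSim.detHom_torusP _),
      spin_torusP_eq h2 (by omega)]
    have hprod : (∏ i, (fT i : F)) = cc ^ k * (lam' / cc) := by
      simp [fT, Fin.prod_univ_castSucc]
    rw [hprod]
    have hc4 := isSquare_sqrt_iff (e₀ := e₀) h2 hcard hν hcc.symm
    have hq0 : Fintype.card F₀ % 2 = 1 := FiniteField.odd_card_of_char_ne_two
      (fun h => two_ne e₀ h2 (by haveI := ringChar.of_eq h; exact CharTwo.two_eq_zero))
    have hχ : quadraticChar F (cc ^ k * (lam' / cc)) = -(quadraticChar F cc) ^ (k + 1) := by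
      rw [show cc ^ k * (lam' / cc) = cc ^ k * lam' * cc * (cc⁻¹ * cc⁻¹) by field_simp,
        map_mul, show quadraticChar F (cc⁻¹ * cc⁻¹) = 1 from
          (quadraticChar_one_iff_isSquare (mul_ne_zero (inv_ne_zero hcc0) (inv_ne_zero hcc0))).2 ⟨_, rfl⟩,
        mul_one, map_mul, map_mul, map_pow, quadraticChar_neg_one_iff_not_isSquare.2 hlamns]
      ring
    have hne : cc ^ k * (lam' / cc) ≠ 0 := mul_ne_zero (pow_ne_zero _ hcc0) (div_ne_zero hlam0 hcc0)
    rw [show ((if IsSquare (cc ^ k * (lam' / cc)) then (1 : ℤˣ) else -1) = 1) ↔ IsSquare (cc ^ k * (lam' / cc)) from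
      ⟨fun h => by by_contra hc'; rw [if_neg hc'] at h; exact absurd h (by decide), fun h => if_pos h⟩,
      ← quadraticChar_one_iff_isSquare hne, hχ]
    by_cases hs : IsSquare cc
    · rw [(quadraticChar_one_iff_isSquare hcc0).2 hs, one_pow]
      have := hc4.1 hs
      exact iff_of_false (by norm_num) (fun h => by omega)
    · rw [quadraticChar_neg_one_iff_not_isSquare.2 hs]
      have : Fintype.card F₀ % 4 = 1 := by
        have h3 : Fintype.card F₀ % 4 ≠ 3 := fun h => hs (hc4.2 h)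
        omega
      rcases Nat.even_or_odd (k + 1) with e | e
      · rw [e.neg_one_pow]
        exact iff_of_false (by norm_num) fun h => Nat.not_even_iff_odd.2 h.1 e
      · rw [e.neg_one_pow]
        exact iff_of_true (by norm_num) ⟨e, this⟩
  -- rotations of the subfield go into `NN`
  have hrot : ∀ b ∈ MM hk hab₀, IsSquare (mu _ b : F₀) → t (mapGO hq b) ∈ NN QP := by
    rintro b hb ⟨d, hd⟩
    have G₀ := OrthOut.good_minus (F := F₀) hk hab₀
    have hd0 : d ≠ 0 := fun e => (mu _ b).ne_zero (by rw [hd, e, mul_zero])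
    obtain ⟨s, hs⟩ := OrthSim.exists_iso_of_mu _ G₀.nd G₀.big (g := scal _ (Units.mk0 d hd0)⁻¹ * b) (by
      rw [OrthSim.mu_mul _ G₀.nd G₀.big, OrthSim.mu_scal _ G₀.nd G₀.big, ← mul_inv,
        show Units.mk0 d hd0 * Units.mk0 d hd0 = mu _ b from Units.ext hd.symm, inv_mul_cancel])
    have hds : dickson _ hnd0 s = 1 := by
      rw [← eM_toGO hk hab₀, ← hs, map_mul, eM_scal, one_mul, MonoidHom.mem_ker.1 hb]
    have hdet : detHom _ (mapIso hq s) = 1 := Units.ext (by
      show (mat _ (mapIso hq s)).det = _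
      rw [OmegaCls.det_dickson h2 hq1, dickson_mapIso hq hnd0 hq1 (Or.inr (by simp; omega)), hds]
      simp)
    have hN : mapGO hq b ∈ NN (minusForm k F (e₀ 1) (e₀ ζ)) := by
      rw [show b = scal _ (Units.mk0 d hd0) * toGO _ s by
        rw [← hs, ← mul_assoc, ← map_mul, mul_inv_cancel, map_one, one_mul], map_mul, mapGO_scal, mapGO_toGO]
      exact (OrthSim.mem_NN _).2 ⟨_, _, (mem_omega_iff _ h2 hq1 (by simp)).2 ⟨hdet,
        spin_map_trivial hq h2 hq1 (by simp) hnd0 (Or.inr (by simp; omega)) (square_map h2 hfix hord) hdet⟩, rfl⟩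
    exact map_NN_le hc ht (Subgroup.mem_map_of_mem t hN)
  split_ifs with hcase
  · have hH : H = NN QP := by
      refine le_antisymm (sup_le ?_ le_rfl) le_sup_right
      rintro _ ⟨b, hb, rfl⟩
      show t (mapGO hq b) ∈ NN QP
      by_cases hsq : IsSquare (mu _ b : F₀)
      · exact hrot b hb hsq
      have G₀ := OrthOut.good_minus (F := F₀) hk hab₀
      have h1 := hrot (b * D₀) (mul_mem hb hD₀) (by
        rw [OrthSim.mu_mul _ G₀.nd G₀.big, Units.val_mul, show mu _ D₀ = ν from OrthSim.mu_eq _ G₀.nd G₀.big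
          fun z => by rw [OrthSim.gm_minusD, OrthSim.minusMat_spec, huv]]
        refine (quadraticChar_one_iff_isSquare (mul_ne_zero (Units.ne_zero _) ν.ne_zero)).1 ?_
        rw [map_mul, quadraticChar_neg_one_iff_not_isSquare.2 hsq, quadraticChar_neg_one_iff_not_isSquare.2 hν]
        norm_num)
      rw [map_mul, map_mul] at h1
      simpa using mul_mem h1 (inv_mem (hDNN.2 hcase))
    rw [hH, ← Subgroup.relIndex_mul_relIndex _ _ _ S.nn_le hKle, hNK, hKM]
  · have hH : H = S.K := by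
      refine le_antisymm hHK fun z hz => ?_
      by_cases hzN : z ∈ NN QP
      · exact Subgroup.mem_sup_right hzN
      have hmem : t (mapGO hq D₀) ∈ H := Subgroup.mem_sup_left (Subgroup.mem_map.2 ⟨D₀, hD₀, rfl⟩)
      have h1 := S.mul_mem_of_out hz (hHK hmem) hzN (fun h => hcase (hDNN.1 h))
      simpa using H.mul_mem (Subgroup.mem_sup_right h1 : z * t (mapGO hq D₀) ∈ H) (H.inv_mem hmem)
    rw [hH, hKM]

end Model

end Cfsg.Lib.OrthField
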