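import Cfsg.Agent.Known.OrthField.Classes
import Cfsg.Agent.Known.OrthSim.Minus
import Cfsg.Agent.Known.OrthAut.Main
import Cfsg.Agent.Known.MinusExtend

/-!
The two classes of the minus form over a splitting extension, intrinsically on similitudes.
-/

set_option autoImplicit false
set_option linter.unusedSectionVars false
set_option linter.style.haveILetI false

namespace Cfsg.Lib.OrthField

open Matrix Cfsg.Lib.Classical Cfsg.Lib.Classical.Refl Cfsg.Lib.OrthAut
open Cfsg.Lib.OrthSim (GO gm conjPO toGO scal lineSpace lineSpace_isMax minusMat minusMat_line minusD Aniso mu mu_spec)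

universe u v w

variable {K : Type u} [Field K] [Fintype K] [DecidableEq K] {k : ℕ} {a b : K}

local notation "ιM" => (Fin k ⊕ Fin k) ⊕ Fin 2
local notation "qM" => minusForm k K a b

theorem ext_minusForm {L : Type v} [Field L] [Fintype L] (e₀ : K →+* L) :
    Ext e₀ qM (minusForm k L (e₀ a) (e₀ b)) := fun v => by
  simp [minusForm_coe, Cfsg.quadFormMinus]

/-- The classes over an extension containing a root. -/
noncomputable def lineHyp (hk : 3 ≤ k) (hab : Aniso a b) {L : Type v} [Field L] [Fintype L] [DecidableEq L]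
    (e₀ : K →+* L) {ρ : L} (hρ : ρ ^ 2 + e₀ a * ρ + e₀ b = 0) : Hyp (minusForm k L (e₀ a) (e₀ b)) (k + 1) where
  nd := MinusExtend.minus_nondeg k (by
    rw [← map_ofNat e₀, ← map_mul, ← map_pow, ← map_sub]
    exact (map_ne_zero _).2 (disc_ne_zero hab))
  card := by simp; omega
  three := by omega
  L := LinearMap.range (lineSpace k ρ)
  hL := lineSpace_isMax hρ

theorem exists_binary (hab : Aniso a b) {μ : K} (hμ : μ ≠ 0) : ∃ u v : K, u ^ 2 + a * u * v + b * v ^ 2 = μ := by
  obtain ⟨x, -, hx⟩ := FormNormal.exists_value (minusForm 0 K a b) ⊤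
    (FormNormal.nd_top _ (minusForm_nondegenerate' 0 hab))
    (by rw [finrank_top, Module.finrank_fintype_fun_eq_card]; simp) μ hμ
  refine ⟨x (Sum.inr 0), x (Sum.inr 1), ?_⟩
  rw [← hx, minusForm_coe]
  simp [Cfsg.quadFormMinus]

theorem minus_split (hk : 3 ≤ k) (hab : Aniso a b) (x : GO qM) :
    ∃ (u v : K) (h : u ^ 2 + a * u * v + b * v ^ 2 ≠ 0) (s : Cfsg.isometryGroup K (⇑qM)),
      x = minusD u v h * toGO qM s := by
  have hnd := minusForm_nondegenerate' k hab
  have hn : 7 ≤ Fintype.card ιM := by simp; omega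
  obtain ⟨u, v, huv⟩ := exists_binary hab (Units.ne_zero (mu qM x))
  have h : u ^ 2 + a * u * v + b * v ^ 2 ≠ 0 := by rw [huv]; exact Units.ne_zero _
  have hmu : mu qM (minusD u v h) = mu qM x := OrthSim.mu_eq qM hnd hn fun y => by
    rw [OrthSim.gm_minusD, OrthSim.minusMat_spec, huv]
  obtain ⟨s, hs⟩ := OrthSim.exists_iso_of_mu qM hnd hn (g := (minusD u v h)⁻¹ * x) (by
    have h1 := map_mul (OrthSim.muHom qM hnd hn) (minusD u v h)⁻¹ x
    rw [map_inv] at h1
    exact h1.trans (by show (mu qM _)⁻¹ * mu qM x = 1; rw [hmu, inv_mul_cancel]))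
  exact ⟨u, v, h, s, by rw [← hs, mul_inv_cancel_left]⟩

theorem eM_split (hk : 3 ≤ k) (hab : Aniso a b) {L : Type v} [Field L] [Fintype L] [DecidableEq L] (e₀ : K →+* L)
    {ρ : L} (hρ : ρ ^ 2 + e₀ a * ρ + e₀ b = 0) {u v : K} (h : u ^ 2 + a * u * v + b * v ^ 2 ≠ 0)
    (s : Cfsg.isometryGroup K (⇑qM)) :
    eP (lineHyp hk hab e₀ hρ) (mapGO (ext_minusForm e₀) (minusD u v h * toGO qM s)) =
      dickson qM (minusForm_nondegenerate' k hab) s := by
  rw [map_mul, map_mul, mapGO_toGO, eP_toGO, dickson_mapIso (ext_minusForm e₀) (minusForm_nondegenerate' k hab) _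
    (Or.inr (by simp; omega)), eP_fix (lineHyp hk hab e₀ hρ) (lineHyp hk hab e₀ hρ).hL, one_mul]
  intro x hx
  rw [gm_mapGO, OrthSim.gm_minusD, minusMat_map' e₀]
  exact minusMat_line hρ _ _ x hx
where
  minusMat_map' {L : Type v} [Field L] (f : K →+* L) {a b u v : K} :
      (minusMat k a b u v).map f = minusMat k (f a) (f b) (f u) (f v) := by
    rw [minusMat, minusMat, fromBlocks_map, diagonal_map (map_zero f), Matrix.map_zero _ (map_zero f),
      Matrix.map_zero _ (map_zero f)]
    congr 1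
    · congr 1; funext i; rcases i with i | i <;> simp
    · ext i j; fin_cases i <;> fin_cases j <;> simp

theorem eM_indep (hk : 3 ≤ k) (hab : Aniso a b) {L : Type v} [Field L] [Fintype L] [DecidableEq L] (e₀ : K →+* L)
    {ρ : L} (hρ : ρ ^ 2 + e₀ a * ρ + e₀ b = 0) {L' : Type w} [Field L'] [Fintype L'] [DecidableEq L']
    (e₁ : K →+* L') {ρ' : L'} (hρ' : ρ' ^ 2 + e₁ a * ρ' + e₁ b = 0) (x : GO qM) :
    eP (lineHyp hk hab e₀ hρ) (mapGO (ext_minusForm e₀) x) =
      eP (lineHyp hk hab e₁ hρ') (mapGO (ext_minusForm e₁) x) := by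
  obtain ⟨u, v, h, s, rfl⟩ := minus_split hk hab x
  rw [eM_split, eM_split]

/-- The splitting extension. -/
abbrev L0 (a b : K) := QuadraticAlgebra K (-b) (-a)

theorem fact_aniso' (hab : Aniso a b) : Fact (∀ r : K, r ^ 2 ≠ -b + -a * r) :=
  ⟨fun r hr => one_ne_zero (hab r 1 (by linear_combination hr)).2⟩

theorem exists_split (hab : Aniso a b) :
    ∃ (L : Type u) (_ : Field L) (_ : Fintype L) (_ : Algebra K L),
      Module.finrank K L = 2 ∧ ∃ ρ : L, ρ ^ 2 + algebraMap K L a * ρ + algebraMap K L b = 0 := by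
  haveI := fact_aniso' hab
  haveI : Finite (L0 a b) := Module.finite_of_finite K
  exact ⟨L0 a b, inferInstance, Fintype.ofFinite _, inferInstance, QuadraticAlgebra.finrank_eq_two _ _,
    MinusExtend.exists_root (QuadraticAlgebra.finrank_eq_two _ _) hab⟩

/-- The sign of a similitude of the minus form. -/
noncomputable def eM (hk : 3 ≤ k) (hab : Aniso a b) : GO qM →* ℤˣ :=
  letI := (exists_split hab).choose_spec.choose
  letI := (exists_split hab).choose_spec.choose_spec.choose
  letI := (exists_split hab).choose_spec.choose_spec.choose_spec.choose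
  haveI : DecidableEq (exists_split hab).choose := Classical.decEq _
  (eP (lineHyp hk hab (algebraMap K (exists_split hab).choose)
    (exists_split hab).choose_spec.choose_spec.choose_spec.choose_spec.2.choose_spec)).comp
    (mapGO (ext_minusForm _))

theorem eM_eq (hk : 3 ≤ k) (hab : Aniso a b) {L : Type v} [Field L] [Fintype L] [DecidableEq L] (e₀ : K →+* L)
    {ρ : L} (hρ : ρ ^ 2 + e₀ a * ρ + e₀ b = 0) (x : GO qM) :
    eM hk hab x = eP (lineHyp hk hab e₀ hρ) (mapGO (ext_minusForm e₀) x) := by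
  letI := (exists_split hab).choose_spec.choose
  letI := (exists_split hab).choose_spec.choose_spec.choose
  letI := (exists_split hab).choose_spec.choose_spec.choose_spec.choose
  haveI : DecidableEq (exists_split hab).choose := Classical.decEq _
  exact eM_indep hk hab (algebraMap K (exists_split hab).choose)
    (exists_split hab).choose_spec.choose_spec.choose_spec.choose_spec.2.choose_spec e₀ hρ x

theorem eM_minusD (hk : 3 ≤ k) (hab : Aniso a b) {u v : K} (h : u ^ 2 + a * u * v + b * v ^ 2 ≠ 0)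
    (s : Cfsg.isometryGroup K (⇑qM)) :
    eM hk hab (minusD u v h * toGO qM s) = dickson qM (minusForm_nondegenerate' k hab) s := by
  obtain ⟨L, iL, iF, iA, -, ρ, hρ⟩ := exists_split hab
  classical
  rw [eM_eq hk hab _ hρ]
  exact eM_split hk hab _ hρ h s

theorem eM_toGO (hk : 3 ≤ k) (hab : Aniso a b) (s : Cfsg.isometryGroup K (⇑qM)) :
    eM hk hab (toGO qM s) = dickson qM (minusForm_nondegenerate' k hab) s := by
  have h : (1 : K) ^ 2 + a * 1 * 0 + b * 0 ^ 2 ≠ 0 := by simp
  have e : minusD (m := k) 1 0 h = (1 : GO qM) := OrthSim.go_ext qM (by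
    rw [OrthSim.gm_minusD]
    show _ = (1 : Matrix ιM ιM K)
    rw [minusMat]
    ext i j
    rcases i with (i | i) | i <;> rcases j with (j | j) | j
    all_goals try fin_cases i
    all_goals try fin_cases j
    all_goals simp [Matrix.one_apply, diagonal_apply, Sum.inl.injEq, Sum.inr.injEq])
  have := eM_minusD hk hab h s
  rwa [e, one_mul] at this

theorem eM_scal (hk : 3 ≤ k) (hab : Aniso a b) (c : Kˣ) : eM hk hab (scal qM c) = 1 := by
  obtain ⟨L, iL, iF, iA, -, ρ, hρ⟩ := exists_split hab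
  classical
  rw [eM_eq hk hab _ hρ, mapGO_scal, eP_scal]

/-- Semilinear similitudes between minus forms preserve the sign. -/
theorem eM_conj (hk : 3 ≤ k) (hab : Aniso a b) {a' b' : K} (hab' : Aniso a' b') {σ : K ≃+* K} {g : GL ιM K} {c : Kˣ}
    (hg : ∀ v, qM (semiMap g σ v) = (c : K) * σ (minusForm k K a' b' v)) {x' : GO (minusForm k K a' b')} {x : GO qM}
    (e : ∀ v, semiMap g σ (gm (minusForm k K a' b') x' *ᵥ v) = gm qM x *ᵥ semiMap g σ v) :
    eM hk hab x = eM hk hab' x' := by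
  classical
  obtain ⟨L, iL, iF, iA, hd, ρ, hρ⟩ := exists_split hab
  set e₀ := algebraMap K L
  set e₁ : K →+* L := e₀.comp σ.toRingHom
  have hσab : Aniso (σ a') (σ b') := fun z₁ z₂ hz => by
    obtain ⟨h1, h2⟩ := hab' (σ.symm z₁) (σ.symm z₂) (σ.injective (by simp [map_add, hz]))
    exact ⟨by simpa using congrArg σ h1, by simpa using congrArg σ h2⟩
  obtain ⟨ρ', hρ'⟩ := MinusExtend.exists_root (K := L) hd hσab
  rw [eM_eq hk hab e₀ hρ, eM_eq hk hab' e₁ (ρ := ρ') hρ']
  set M := (g : Matrix ιM ιM K).map e₀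
  have hbase : ∀ u : ιM → K, M *ᵥ (⇑e₁ ∘ u) = ⇑e₀ ∘ semiMap g σ u := fun u => (map_mulVec' e₀ _ _).symm
  have hext := ext_base e₁ ((minusForm k L (e₀ a) (e₀ b)).comp (Matrix.mulVecLin M))
    (e₀ (c : K) • minusForm k L (e₁ a') (e₁ b')) fun u => by
      rw [QuadraticMap.comp_apply, Matrix.mulVecLin_apply, hbase, ext_minusForm e₀, hg, _root_.smul_apply, smul_eq_mul,
        ext_minusForm e₁, map_mul]
      rfl
  have hMu : IsUnit M := (Matrix.GeneralLinearGroup.map e₀ g).isUnit
  refine eP_conj _ _ rfl (f := fun v => M *ᵥ v) (σ := RingEquiv.refl L) ⟨mulVec_add _, fun t y => mulVec_smul _ t y,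
    Finite.injective_iff_bijective.1 (mulVec_injective_iff_isUnit.2 hMu), Units.map e₀.toMonoidHom c,
    fun v => congrFun (congrArg DFunLike.coe hext) v⟩ _ _ fun v => ?_
  have key : (Matrix.mulVecLin M).comp (Matrix.mulVecLin (gm _ (mapGO (ext_minusForm e₁) x'))) =
      (Matrix.mulVecLin (gm _ (mapGO (ext_minusForm e₀) x))).comp (Matrix.mulVecLin M) := by
    refine (Pi.basisFun L ιM).ext fun i => ?_
    have h1 : (Pi.single i 1 : ιM → L) = ⇑e₁ ∘ (Pi.single i 1 : ιM → K) := by rw [comp_single, map_one]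
    simp only [LinearMap.comp_apply, Pi.basisFun_apply, Matrix.mulVecLin_apply, h1, gm_mapGO, ← map_mulVec', hbase, e]
  exact congrFun (congrArg DFunLike.coe key) v

theorem preserves_minus_iff (hk : 3 ≤ k) (hab : Aniso a b) (x : GO qM) :
    Cfsg.PreservesSingularClassesMinus k a b (gm qM x) ↔ eM hk hab x = 1 := by
  classical
  constructor
  · rintro ⟨L, iL, iA, hd, hp⟩
    haveI : FiniteDimensional K L := Module.finite_of_finrank_eq_succ hd
    haveI : Finite L := Module.finite_of_finite K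
    letI : Fintype L := Fintype.ofFinite L
    obtain ⟨ρ, hρ⟩ := MinusExtend.exists_root (K := L) hd hab
    rw [eM_eq hk hab _ hρ, ← preserves_iff (lineHyp hk hab _ hρ), minusForm_coe]
    exact hp
  · intro h
    obtain ⟨L, iL, iF, iA, hd, ρ, hρ⟩ := exists_split hab
    rw [eM_eq hk hab _ hρ, ← preserves_iff (lineHyp hk hab _ hρ), minusForm_coe] at h
    exact ⟨L, iL, iA, hd, h⟩

/-- The class-preserving similitudes. -/
noncomputable abbrev MM (hk : 3 ≤ k) (hab : Aniso a b) : Subgroup (GO qM) := (eM hk hab).ker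

theorem inndiag_minus (hk : 3 ≤ k) (hab : Aniso a b) :
    OrthSim.inndiagM a b (⇑qM) = (MM hk hab).map (conjPO qM) :=
  OrthSim.closure_eq_map qM _ _ fun β =>
    ⟨fun ⟨g, hg, hp, h⟩ =>
      ⟨⟨g, hg⟩, (preserves_minus_iff hk hab ⟨g, hg⟩).1 hp, (OrthSim.induced_iff qM ⟨g, hg⟩ β).1 h⟩,
      fun ⟨g, hg, h⟩ => ⟨g.1, g.2, (preserves_minus_iff hk hab g).2 hg, (OrthSim.induced_iff qM g β).2 h⟩⟩

end Cfsg.Lib.OrthField
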