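import Cfsg.Agent.Classical.AutOrders.D4RootIso
import Cfsg.Agent.Classical.AutOrders.TorusD4
import Cfsg.Agent.Known.ChevAut.Tables
import Cfsg.Agent.Known.ChevAut.OutStruct
import Cfsg.Agent.Known.OrthField.GraphData
import Cfsg.Agent.Known.OrthField.Transport

/-!
`Inndiag(PΩ⁺₈(q))` is normal in the automorphism group, for odd `q`.
-/

set_option autoImplicit false
set_option maxRecDepth 100000
set_option linter.unusedSectionVars false
set_option linter.style.haveILetI false
set_option linter.unusedSimpArgs false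

namespace Cfsg.Lib.OrthField.Eight

open Matrix Cfsg.Lie Cfsg.Lib.Classical Cfsg.Lib.Classical.Refl Cfsg.Lib.Known.ChevAut
open Cfsg.Lib.Classical.RootWords Cfsg.Lib.Classical.AutOrders
open Cfsg.Lib.OrthSim (GO gm conjPO toGO scal NN torusP plusD mu)

universe u

local notation "ι8" => Fin 4 ⊕ Fin 4

/-- The partner of an index. -/
abbrev bar (i : ι8) : ι8 := i.swap

/-- The first position of a root element. -/
def ent (r : ℕ) : ι8 × ι8 := ((orthRoots r).map fun e => (e.2.1, e.2.2.1)).headD (Sum.inl 0, Sum.inl 0)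

theorem orthRoots_shape : ∀ r < 24, ∀ e ∈ orthRoots r, e.1 = 1 ∧
    ((e.2.1, e.2.2.1) = ent r ∨ (e.2.1, e.2.2.1) = (bar (ent r).2, bar (ent r).1)) := by decide +kernel

theorem ent_neg : ∀ r < 24, ent (23 - r) = ((ent r).2, (ent r).1) ∨
    ent (23 - r) = (bar (ent r).1, bar (ent r).2) := by decide +kernel

theorem simple_neg : ∀ i : Fin chevD4.rank, chevD4.simple i.val < 24 ∧
    chevD4.neg (chevD4.simple i.val) = 23 - chevD4.simple i.val := by decide +kernel

variable {F : Type u} [Field F]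

/-- The factor by which a diagonal similitude scales a root element. -/
def rchar (w : ι8 → Fˣ) (r : ℕ) : Fˣ := w (ent r).1 / w (ent r).2

theorem rchar_neg {w : ι8 → Fˣ} {μ : Fˣ} (hw : ∀ i, w i * w (bar i) = μ) {r : ℕ} (hr : r < 24) :
    rchar w (23 - r) = (rchar w r)⁻¹ := by
  have hb : ∀ i, w (bar i) = μ / w i := fun i => by rw [← hw i, mul_div_cancel_left]
  rcases ent_neg r hr with e | e <;> simp only [rchar, e]
  · rw [inv_div]
  · rw [hb, hb, inv_div, div_div_div_cancel_left]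

theorem diag_gen {w : ι8 → Fˣ} {μ : Fˣ} (hw : ∀ i, w i * w (bar i) = μ) {r : ℕ} (hr : r < 24) (z : F) :
    diagonal (fun i => (w i : F)) * gen (Int.castRingHom F) orthRoots r z =
      gen (Int.castRingHom F) orthRoots r ((rchar w r : F) * z) * diagonal fun i => (w i : F) := by
  have hb : ∀ i, w (bar i) = μ / w i := fun i => by rw [← hw i, mul_div_cancel_left]
  have hsh := orthRoots_shape r hr
  unfold gen
  rw [mul_add, add_mul, mul_one, one_mul]
  congr 1
  generalize orthRoots r = l at hsh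
  induction l with
  | nil => simp
  | cons e l ih =>
    rw [List.map_cons, List.map_cons, List.sum_cons, List.sum_cons, mul_add, add_mul,
      ih fun e' h => hsh e' (List.mem_cons_of_mem _ h)]
    congr 1
    obtain ⟨h1, h2⟩ := hsh e List.mem_cons_self
    have key : w e.2.1 = rchar w r * w e.2.2.1 := by
      rcases h2 with h | h <;> obtain ⟨ha, hb'⟩ := Prod.ext_iff.1 h
      · rw [show e.2.1 = (ent r).1 from ha, show e.2.2.1 = (ent r).2 from hb', rchar, div_mul_cancel]
      · rw [show e.2.1 = bar (ent r).2 from ha, show e.2.2.1 = bar (ent r).1 from hb', rchar, hb, hb]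
        rw [mul_comm, div_mul_div_cancel]
    rw [h1, pow_one, pow_one]
    ext i j
    rw [Matrix.diagonal_mul, Matrix.mul_diagonal, Matrix.single_apply, Matrix.single_apply]
    split_ifs with h
    · rw [← h.1, ← h.2, key, Units.val_mul]; ring
    · simp

variable [Fintype F] [DecidableEq F]

local notation "QP" => HypQuad.plusForm 4 F

theorem exists_root_iso : ∃ e : ↥(chevD4.group F) ≃* Cfsg.POmega F (⇑QP),
    ∀ r < 24, ∀ (z : F) (y : ↥(chevD4.group F)),
      ((y : GL chevD4.Idx F) : Matrix chevD4.Idx chevD4.Idx F) = chevD4.x F r z →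
        ∃ s : Cfsg.Omega F (⇑QP), mat QP s.1 = gen (Int.castRingHom F) orthRoots r z ∧
          e y = QuotientGroup.mk s := by
  suffices h : ∀ φ, φ = Cfsg.quadFormPlus 4 F → ∃ e : ↥(chevD4.group F) ≃* Cfsg.POmega F φ,
      ∀ r < 24, ∀ (z : F) (y : ↥(chevD4.group F)),
      ((y : GL chevD4.Idx F) : Matrix chevD4.Idx chevD4.Idx F) = chevD4.x F r z →
        ∃ s : Cfsg.Omega F φ, ((s.1.1 : GL ι8 F) : Matrix ι8 ι8 F) = gen (Int.castRingHom F) orthRoots r z ∧
          e y = QuotientGroup.mk s from h _ OrthSim.plus_coe.symm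
  rintro φ rfl
  exact exists_root_iso_D4

/-- Diagonal similitudes induce diagonal automorphisms. -/
theorem pull_diag {C : Lib.Chev.Cert} {L : List ℕ} {T : List (List ℤ)} (hT : Tabs chevD4 C L T)
    (e : ↥(chevD4.group F) ≃* Cfsg.POmega F (⇑QP))
    (he : ∀ r < 24, ∀ (z : F) (y : ↥(chevD4.group F)),
      ((y : GL chevD4.Idx F) : Matrix chevD4.Idx chevD4.Idx F) = chevD4.x F r z →
        ∃ s : Cfsg.Omega F (⇑QP), mat QP s.1 = gen (Int.castRingHom F) orthRoots r z ∧ e y = QuotientGroup.mk s)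
    {g : GO QP} {w : ι8 → Fˣ} {μ : Fˣ} (hw : ∀ i, w i * w (bar i) = μ)
    (hg : gm QP g = diagonal fun i => (w i : F)) :
    conjPO QP g = autT e (diagOf hT fun i => rchar w (chevD4.simple i.val)) := by
  set c : Fin chevD4.rank → Fˣ := fun i => rchar w (chevD4.simple i.val)
  have key : ∀ r < 24, ∀ (z : F) (y y' : ↥(chevD4.group F)),
      ((y : GL chevD4.Idx F) : Matrix chevD4.Idx chevD4.Idx F) = chevD4.x F r z →
      ((y' : GL chevD4.Idx F) : Matrix chevD4.Idx chevD4.Idx F) = chevD4.x F r ((rchar w r : F) * z) →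
      conjPO QP g (e y) = e y' := by
    intro r hr z y y' hy hy'
    obtain ⟨s, hs, es⟩ := he r hr z y hy
    obtain ⟨s', hs', es'⟩ := he r hr _ y' hy'
    rw [es, es', OrthSim.conjPO_apply]
    refine congrArg QuotientGroup.mk (Subtype.ext (OrthSim.toGO_injective QP ?_))
    show toGO QP (OrthSim.conjIso QP g s.1) = toGO QP s'.1
    rw [OrthSim.toGO_conjIso, mul_inv_eq_iff_eq_mul]
    refine OrthSim.go_ext QP ?_
    rw [OrthSim.gm_mul, OrthSim.gm_mul, OrthSim.gm_toGO, OrthSim.gm_toGO, hs, hs', hg, diag_gen hw hr]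
  apply (autT e).symm.injective
  rw [MulEquiv.symm_apply_apply]
  have S := hT.str
  refine mulAut_ext S (fun i t => ?_) fun i t => ?_
  · rw [diagOf_gp]
    show e.symm (conjPO QP g (e (gp S i t))) = _
    rw [MulEquiv.symm_apply_eq]
    exact key _ (simple_neg i).1 t _ _ (S.ok.val_xG _ _) (S.ok.val_xG _ _)
  · rw [diagOf_gm]
    show e.symm (conjPO QP g (e (gm S i t))) = _
    rw [MulEquiv.symm_apply_eq]
    refine key (23 - chevD4.simple i.val) (by omega) t _ _ ?_ ?_
    · rw [← (simple_neg i).2]; exact S.ok.val_xG _ _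
    · rw [rchar_neg hw (simple_neg i).1, ← (simple_neg i).2]; exact S.ok.val_xG _ _

theorem normal_eight (h2 : (2 : F) ≠ 0) (hm : 4 ≤ 4) : ((MP (F := F) hm).map (conjPO QP)).Normal := by
  classical
  obtain ⟨C, L, T, hT⟩ := tabs_of_mem (D := chevD4) (by simp)
  obtain ⟨e, he⟩ := exists_root_iso (F := F)
  set S := OrthSim.setupP (F := F) h2 hm
  haveI := OrthSim.nn_normal QP
  have hFodd : Odd (Fintype.card F) := Nat.odd_iff.2 (FiniteField.odd_card_of_char_ne_two
    (fun h => h2 (by haveI := ringChar.of_eq h; exact CharTwo.two_eq_zero)))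
  have hneg : OrthSim.Setup.NegMem QP :=
    (OrthSim.negMem_plus h2 hm hFodd).2 fun h => absurd h.1 (by decide)
  have hMS : MP hm = S.M := SetLike.ext fun z =>
    (MonoidHom.mem_ker.trans (preserves_iff (plusHyp hm) z).symm).trans (OrthSim.preservesPlus_iff h2 hm z)
  set q := QuotientGroup.mk' (Cfsg.Inn ↥(chevD4.group F))
  set DG := (diagGrp chevD4 F).map q
  haveI hDGn : DG.Normal := diag_normal hT
  haveI := Subgroup.Normal.comap hDGn q
  set Y := (DG.comap q).map (autT e).toMonoidHom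
  have hYn : Y.Normal := Subgroup.Normal.map inferInstance _ (autT e).surjective
  set X := (MP (F := F) hm).map (conjPO QP)
  suffices hXY : X = Y by rw [hXY]; exact hYn
  have hInn : Cfsg.Inn (Cfsg.POmega F (⇑QP)) ≤ Y := by
    rw [← autT_inn e]
    refine Subgroup.map_mono fun x hx => ?_
    rw [Subgroup.mem_comap, show q x = 1 from (QuotientGroup.eq_one_iff x).2 hx]
    exact one_mem _
  have hdiag : ∀ (g : GO QP) (w : ι8 → Fˣ) (μ : Fˣ), (∀ i, w i * w (bar i) = μ) →
      gm QP g = diagonal (fun i => (w i : F)) → conjPO QP g ∈ Y := fun g w μ hw hg => by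
    rw [pull_diag hT e he hw hg]
    refine Subgroup.mem_map_of_mem _ (Subgroup.mem_comap.2 ?_)
    exact Subgroup.mem_map_of_mem q (Subgroup.subset_closure (diagOf_isDiag hT _))
  -- the generators
  obtain ⟨ν, hν⟩ := OrthSim.exists_nonsq h2
  set fT : Fin 4 → Fˣ := Pi.mulSingle 0 ν
  set τ : GO QP := toGO QP (torusP fT)
  have hτspin : spin QP (torusP fT) = -1 := by
    rw [spin_torusP_eq h2 (by omega), ← Units.coe_prod, Finset.prod_pi_mulSingle', if_pos (Finset.mem_univ _),
      if_neg hν]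
  have hτK : τ ∈ S.K := (OrthSim.mem_KK QP S.hQ S.hn S.hk S.h2).2
    ⟨1, _, OrthSim.detHom_torusP fT, by rw [map_one, one_mul]⟩
  have hτN : τ ∉ NN QP := S.not_mem_of_spin hneg hτspin
  have hDM : S.D ∈ MP hm := hMS ▸ MonoidHom.mem_ker.2 S.hD1
  have hNY : ∀ z ∈ NN QP, conjPO QP z ∈ Y := fun z hz =>
    hInn (OrthSim.Setup.inn_eq' (Q := QP) ▸ Subgroup.mem_map_of_mem _ hz)
  have hτY : conjPO QP τ ∈ Y := by
    refine hdiag τ (Sum.elim fT fT⁻¹) 1 (fun i => ?_) ?_
    · rcases i with i | i <;> simp [bar]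
    · rw [OrthSim.gm_toGO]
      refine Matrix.toLin'.injective (LinearMap.ext fun x => funext fun j => ?_)
      rw [Matrix.toLin'_apply, Matrix.toLin'_apply, OrthSim.torusP_mulVec, Matrix.mulVec_diagonal]
  have hDY : conjPO QP S.D ∈ Y := by
    refine hdiag S.D (Sum.elim (fun _ => (OrthSim.exists_nonsq h2).choose) 1) (OrthSim.exists_nonsq h2).choose
      (fun i => ?_) ?_
    · rcases i with i | i <;> simp [bar]
    · refine Matrix.toLin'.injective (LinearMap.ext fun x => funext fun j => ?_)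
      rw [Matrix.toLin'_apply, Matrix.toLin'_apply, Matrix.mulVec_diagonal]
      exact (OrthSim.plusD_mulVec _ x j).trans (by rcases j with j | j <;> simp)
  have hKY : ∀ z ∈ S.K, conjPO QP z ∈ Y := fun z hz => by
    by_cases hzN : z ∈ NN QP
    · exact hNY z hzN
    · have h1 := hNY _ (S.mul_mem_of_out hz hτK hzN hτN)
      rw [map_mul] at h1
      simpa using mul_mem h1 (inv_mem hτY)
  have hMY : X ≤ Y := by
    rintro _ ⟨z, hz, rfl⟩
    have hz1 : S.e z = 1 := MonoidHom.mem_ker.1 (hMS ▸ hz : z ∈ S.M)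
    rcases S.t_pm z with ht | ht
    · exact hKY z (S.mem_K.2 ⟨hz1, ht⟩)
    · have h1 := hKY (z * S.D) (S.mem_K.2 ⟨by rw [map_mul, hz1, show S.e S.D = 1 from S.hD1, one_mul],
        by rw [map_mul, ht, S.t_D, neg_mul_neg, one_mul]⟩)
      rw [map_mul] at h1
      simpa using mul_mem h1 (inv_mem hDY)
  -- the indices
  have hKle : S.K ≤ MP hm := fun z hz => hMS ▸ MonoidHom.mem_ker.2 (S.mem_K.1 hz).1
  have hKM : S.K.relIndex (MP hm) = 2 := by
    refine mem_relIndex_two (a := S.D) hDM S.D_notMem fun b hb hbK => ?_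
    rw [hMS] at hb
    have he1 : S.e b = 1 := hb
    have ht1 : S.t b = -1 := (S.t_pm b).resolve_left fun e => hbK (S.mem_K.2 ⟨he1, e⟩)
    exact S.mem_K.2 ⟨by rw [map_mul, he1, show S.e S.D = 1 from S.hD1, one_mul],
      by rw [map_mul, ht1, S.t_D, neg_mul_neg, one_mul]⟩
  have hNK : (NN QP).relIndex S.K = 2 :=
    mem_relIndex_two hτK hτN fun b hb hbN => S.mul_mem_of_out hb hτK hbN hτN
  have hX : (Cfsg.Inn (Cfsg.POmega F (⇑QP))).relIndex X = 4 := by
    have hk : (conjPO QP).ker ≤ NN QP := by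
      rw [OrthSim.conjPO_ker QP S.hQ S.hn]
      rintro _ ⟨a, rfl⟩
      exact (OrthSim.mem_NN QP).2 ⟨a, 1, one_mem _, by rw [map_one, mul_one]⟩
    rw [OrthSim.Setup.inn_eq' (Q := QP), Subgroup.relIndex_map_map, sup_eq_left.2 hk,
      sup_eq_left.2 (hk.trans (S.nn_le.trans hKle)),
      ← Subgroup.relIndex_mul_relIndex _ _ _ S.nn_le hKle, hNK, hKM]
  have hY : (Cfsg.Inn (Cfsg.POmega F (⇑QP))).relIndex Y = 4 := by
    rw [← autT_inn e, Subgroup.relIndex_map_map_of_injective _ _ (autT e).injective]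
    have h1 : Cfsg.Inn ↥(chevD4.group F) = (⊥ : Subgroup (Cfsg.Out ↥(chevD4.group F))).comap q :=
      (QuotientGroup.ker_mk' _).symm.trans (MonoidHom.comap_bot q).symm
    refine (congrArg (fun H : Subgroup (MulAut ↥(chevD4.group F)) => H.relIndex (DG.comap q)) h1).trans ?_
    rw [Subgroup.relIndex_comap, Subgroup.map_comap_eq_self_of_surjective (QuotientGroup.mk'_surjective _),
      Subgroup.relIndex_bot_left, card_diagBar hT, index_torusVal_D4, Nat.gcd_eq_left (by
        obtain ⟨j, hj⟩ := hFodd; omega)]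
    norm_num
  have hXinn : Cfsg.Inn (Cfsg.POmega F (⇑QP)) ≤ X := by
    rw [OrthSim.Setup.inn_eq' (Q := QP)]
    exact Subgroup.map_mono (S.nn_le.trans hKle)
  have h := Subgroup.relIndex_mul_relIndex _ _ _ hXinn hMY
  rw [hX, hY] at h
  exact le_antisymm hMY (Subgroup.relIndex_eq_one.1 (by omega))

end Cfsg.Lib.OrthField.Eight
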