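import Cfsg.Agent.Known.OrthField.PlusEightNormal

/-!
Field automorphisms of prime order of `PΩ⁺_{2m}(q)`, including `m = 4`.
-/

set_option autoImplicit false
set_option linter.unusedSectionVars false
set_option linter.style.haveILetI false

namespace Cfsg.Lib.OrthField

open Matrix Cfsg.Lib.Classical Cfsg.Lib.Classical.Refl Cfsg.Lib.OrthAut
open Cfsg.Lib.OrthSim (GO gm conjPO toGO scal NN mu plusD torusP inndiagP)
open Cfsg.Lib.OrthOut (exists_semi fieldAut field_unique)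

universe u v

theorem map_conj_normal {G : Type*} [Group G] {H : Subgroup G} (hH : H.Normal) (a : G) :
    H.map (MulAut.conj a).toMonoidHom = H :=
  Subgroup.ext fun y => ⟨by rintro ⟨h, hh, rfl⟩; exact hH.conj_mem h hh a, fun hy =>
    ⟨a⁻¹ * y * a⁻¹⁻¹, hH.conj_mem y hy a⁻¹, by simp [mul_assoc]⟩⟩

variable {F : Type u} [Field F] [Fintype F] [DecidableEq F] {m : ℕ} (hm : 4 ≤ m)

local notation "ιP" => Fin m ⊕ Fin m
local notation "QP" => HypQuad.plusForm m F

include hm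

theorem nn_le_MP : NN QP ≤ MP hm := fun z hz => by
  obtain ⟨d, s, hs, rfl⟩ := (OrthSim.mem_NN _).1 hz
  rw [MonoidHom.mem_ker, map_mul, eP_scal, one_mul, eP_toGO]
  exact hom_eq_one_of_omega _ (dickson _ (plusHyp hm).nd) hs

theorem eP_plusD (c : Fˣ) : eP (plusHyp hm) (plusD c : GO QP) = 1 :=
  eP_fix _ (plusHyp hm).hL fun v hv => by
    obtain ⟨y, rfl⟩ := hv
    refine ⟨fun i => (c : F) * y i, funext fun j => ?_⟩
    rw [OrthSim.plusD_mulVec]
    rcases j with j | j <;> simp [Sum.inl_injective.extend_apply]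

theorem mu_plusD (c : Fˣ) : mu QP (plusD c : GO QP) = c :=
  OrthSim.mu_eq QP (HypQuad.plusForm_nondegenerate m) (good_plus (F := F) hm).big (OrthSim.plusD_spec c)

/-- Every similitude is an isometry after a standard one. -/
theorem exists_plusD_decomp (x : GO QP) :
    ∃ s : Cfsg.isometryGroup F (⇑QP), x = plusD (mu QP x) * toGO QP s := by
  have G := good_plus (F := F) hm
  obtain ⟨s, hs⟩ := OrthSim.exists_iso_of_mu QP G.nd G.big (g := (plusD (mu QP x))⁻¹ * x) (by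
    have h := OrthSim.mu_mul QP G.nd G.big (plusD (mu QP x)) ((plusD (mu QP x))⁻¹ * x)
    rw [mul_inv_cancel_left, mu_plusD hm] at h
    exact mul_eq_left.1 h.symm)
  exact ⟨s, by rw [← hs, mul_inv_cancel_left]⟩

theorem MP_le_NN_two (h2 : (2 : F) = 0) : MP (F := F) hm ≤ NN QP := fun z hz => by
  have G := good_plus (F := F) hm
  haveI : CharP F 2 := CharTwo.of_one_ne_zero_of_two_eq_zero one_ne_zero h2
  obtain ⟨d, hd⟩ := exists_sqrt_two h2 (mu QP z : F)
  have hd0 : d ≠ 0 := fun e => (mu QP z).ne_zero (by rw [← hd, e, mul_zero])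
  obtain ⟨s, hs⟩ := OrthSim.exists_iso_of_mu QP G.nd G.big (g := scal QP (Units.mk0 d hd0)⁻¹ * z) (by
    rw [OrthSim.mu_mul _ G.nd G.big, OrthSim.mu_scal _ G.nd G.big, ← mul_inv,
      show Units.mk0 d hd0 * Units.mk0 d hd0 = mu QP z from Units.ext hd, inv_mul_cancel])
  refine (OrthSim.mem_NN _).2 ⟨Units.mk0 d hd0, s, ?_, by rw [← hs, ← mul_assoc, ← map_mul, mul_inv_cancel,
    map_one, one_mul]⟩
  refine (OmegaCls.dickson_iff G.nd (by simp; omega) (Or.inr (by simp; omega)) s).2 ?_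
  rw [← eP_toGO (plusHyp hm), ← hs, map_mul, eP_scal, one_mul]
  exact MonoidHom.mem_ker.1 hz

/-- The inner-diagonal group is normal in the automorphism group. -/
theorem inndiag_normal : ((MP (F := F) hm).map (conjPO QP)).Normal := by
  by_cases h2 : (2 : F) = 0
  · rw [le_antisymm (MP_le_NN_two hm h2) (nn_le_MP hm), ← OrthSim.Setup.inn_eq' (Q := QP)]
    infer_instance
  rcases eq_or_lt_of_le hm with h4 | h5
  · subst h4; exact Eight.normal_eight h2 hm
  refine ⟨?_⟩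
  rintro _ ⟨x, hx, rfl⟩ α
  obtain ⟨g', τ, hp, e⟩ := exists_semi (good_plus hm) (narrow_plus h5) α
  let g : GO QP := ⟨g', go_of_pair (fixes_plus τ) hp⟩
  have e' : α = semiW (fixes_plus τ) g := e
  refine ⟨tw (fixes_plus τ) g x, MonoidHom.mem_ker.2 ?_, ?_⟩
  · rw [tw, map_mul, map_mul, map_inv, eP_field, MonoidHom.mem_ker.1 hx, mul_one, mul_inv_cancel]
  · rw [e', semiW_mul_conj, mul_inv_cancel_right]

theorem field_order (σ : F ≃+* F) : orderOf (semiW (fixes_plus (m := m) σ) 1) = orderOf σ := by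
  have e : semiW (fixes_plus (m := m) σ) 1 = fieldAut (Q := QP) (fun τ => fixes_plus τ) σ := rfl
  rw [e]
  exact orderOf_injective _ (fun σ τ h => field_unique (good_plus hm) _ _ h) σ

set_option maxHeartbeats 1000000 in
theorem plus_field_data {p f : ℕ} [Fact p.Prime] (hF : Fintype.card F = p ^ f) (φ : (ιP → F) → F) (hφ : φ = ⇑QP)
    (x : MulAut (Cfsg.POmega F φ)) (hx : Cfsg.IsFieldAutClassPOmega φ x) {r : ℕ} (hr : r.Prime)
    (hxr : orderOf x = r) (F₀ : Type v) [Field F₀] [Fintype F₀] [DecidableEq F₀]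
    (hF₀ : Fintype.card F₀ = p ^ (f / r)) (φ₀ : (ιP → F₀) → F₀) (hφ₀ : φ₀ = ⇑(HypQuad.plusForm m F₀)) :
    r ∣ f ∧ Nonempty (↥(inndiagP φ ⊓ Subgroup.centralizer {x}) ≃* ↥(inndiagP φ₀)) ∧
      ((Odd r ∨ (2 : F) = 0) → Cfsg.splitClassCount (inndiagP φ) (Cfsg.Inn (Cfsg.POmega F φ)) x = 1) ∧
      ((r = 2 ∧ (2 : F) ≠ 0 ∧ Odd m ∧ Fintype.card F₀ % 4 = 1) →
        Cfsg.splitClassCount (inndiagP φ) (Cfsg.Inn (Cfsg.POmega F φ)) x = 2) ∧
      ((r = 2 ∧ (2 : F) ≠ 0 ∧ ¬ (Odd m ∧ Fintype.card F₀ % 4 = 1)) →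
        Cfsg.splitClassCount (inndiagP φ) (Cfsg.Inn (Cfsg.POmega F φ)) x = 4) := by
  classical
  subst hφ hφ₀
  obtain ⟨α, ψ, σ, hne, hψ, e⟩ := hx
  rw [eq_semiW_one (fixes_plus σ) hψ] at e
  have hord : orderOf σ = r := by
    rw [← field_order hm σ, ← e, ← MulAut.conj_apply, MulEquiv.orderOf_eq (MulAut.conj α), hxr]
  have G := good_plus (F := F) hm
  have G₀ := good_plus (F := F₀) hm
  obtain ⟨e₀, hfix⟩ := Known.FieldLight.exists_fixed_hom hF hord F₀ hF₀
  have hrf : r ∣ f := hord ▸ Known.FieldLight.order_dvd hF σ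
  have hq := ext_plus (m := m) e₀
  have hT : ∀ v, semiMap ((1 : GO QP) : GL ιP F) σ (LinearEquiv.refl F (ιP → F) v) =
      LinearEquiv.refl F _ fun i => σ (v i) := fun v => by simp [semiMap]
  have hc : ∀ v, QP (LinearEquiv.refl F (ιP → F) v) = ((1 : Fˣ) : F) * QP v := fun v => by simp
  have ht : ∀ (x : GO QP) v, gm QP (MonoidHom.id _ x) *ᵥ LinearEquiv.refl F (ιP → F) v =
      LinearEquiv.refl F _ (gm QP x *ᵥ v) := fun x v => rfl
  have hmapD : ∀ c : F₀ˣ, mapGO hq (plusD c) = plusD (Units.map e₀.toMonoidHom c) := fun c => by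
    refine OrthSim.go_ext QP ?_
    rw [gm_mapGO]
    show (diagonal (fun i => ((Sum.elim (fun _ => c) 1 i : F₀ˣ) : F₀))).map e₀ = diagonal _
    rw [Matrix.diagonal_map (map_zero e₀)]
    congr 1
    funext i
    rcases i with i | i <;> simp
  have hM : ∀ b : GO (HypQuad.plusForm m F₀), MonoidHom.id _ (mapGO hq b) ∈ MP hm ↔ b ∈ MP hm := fun b => by
    obtain ⟨s, hs⟩ := exists_plusD_decomp hm b
    rw [MonoidHom.id_apply, MonoidHom.mem_ker, MonoidHom.mem_ker, hs, map_mul, map_mul, map_mul, hmapD,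
      eP_plusD hm, eP_plusD hm, mapGO_toGO, one_mul, one_mul, eP_toGO, eP_toGO,
      dickson_mapIso hq (plusHyp (F := F₀) hm).nd (plusHyp (F := F) hm).nd (Or.inr (by simp; omega))]
  have hscal := scal_mem_MP (F := F) hm
  haveI hN := inndiag_normal (F := F) hm
  set X := (MP (F := F) hm).map (conjPO QP)
  have hXmap : X.map (MulAut.conj α).toMonoidHom = X := map_conj_normal hN α
  have hImap : (Cfsg.Inn (Cfsg.POmega F ⇑QP)).map (MulAut.conj α).toMonoidHom = Cfsg.Inn _ :=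
    map_conj_normal inferInstance α
  have hcount : Cfsg.splitClassCount (inndiagP ⇑QP) (Cfsg.Inn (Cfsg.POmega F ⇑QP)) x =
      ((MP (F := F₀) hm).map ((MonoidHom.id _).comp (mapGO hq)) ⊔ NN QP).relIndex (MP hm) := by
    rw [inndiag_plus hm, ← split_map (MulAut.conj α) hXmap hImap x, MulAut.conj_apply, e,
      split_std (fixes_plus σ) hq hT hc ht G hfix _ hscal _ hM (nn_le_MP hm)]
  rw [hcount, MonoidHom.id_comp]
  refine ⟨hrf, ?_, ?_⟩
  · rw [inndiag_plus hm, inndiag_plus hm]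
    obtain ⟨e1⟩ := cent_map (MulAut.conj α) hXmap x
    rw [MulAut.conj_apply, e] at e1
    obtain ⟨e2⟩ := cent_equiv (fixes_plus σ) hq hT hc ht G G₀ hfix (MP hm) hscal (MP hm) hM
    exact ⟨e1.trans e2⟩
  set H := (MP (F := F₀) hm).map (mapGO hq) ⊔ NN QP
  by_cases h2 : (2 : F) = 0
  · exact ⟨fun _ => Subgroup.relIndex_eq_one.2 ((MP_le_NN_two hm h2).trans le_sup_right),
      fun h => absurd h2 h.2.1, fun h => absurd h2 h.2.1⟩
  set S := OrthSim.setupP (F := F) h2 hm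
  haveI := OrthSim.nn_normal QP
  have hMS : MP hm = S.M := SetLike.ext fun z =>
    (MonoidHom.mem_ker.trans (preserves_iff (plusHyp hm) z).symm).trans (OrthSim.preservesPlus_iff h2 hm z)
  have hKle : S.K ≤ MP hm := fun z hz => hMS ▸ MonoidHom.mem_ker.2 (S.mem_K.1 hz).1
  have h20 : (2 : F₀) ≠ 0 := two_ne e₀ h2
  obtain ⟨ν, hν⟩ := OrthSim.exists_nonsq h20
  set D₀ : GO (HypQuad.plusForm m F₀) := plusD ν
  have hD₀ : D₀ ∈ MP hm := MonoidHom.mem_ker.2 (eP_plusD hm ν)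
  have hn2 : 2 ≤ Fintype.card ιP := by simp; omega
  refine ⟨fun hodd => ?_, ?_⟩
  · replace hodd : Odd r := hodd.resolve_right h2
    obtain ⟨s, hs1, hs2⟩ := exists_spin_map hq h2 G.nd hn2 G₀.nd (nonsquare_map h2 hfix hord hodd hν)
    have hsH : toGO QP (mapIso hq s) ∈ H := by
      refine Subgroup.mem_sup_left (Subgroup.mem_map.2 ⟨toGO _ s, (hM _).1 ?_, mapGO_toGO hq s⟩)
      rw [MonoidHom.id_apply, mapGO_toGO]
      exact hKle ((OrthSim.mem_KK QP S.hQ S.hn S.hk S.h2).2 ⟨1, _, hs1, by rw [map_one, one_mul]⟩)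
    have hKH : S.K ≤ H := by
      by_cases hneg : OrthSim.Setup.NegMem QP
      · intro z hz
        by_cases hzN : z ∈ NN QP
        · exact Subgroup.mem_sup_right hzN
        · have hsK : toGO QP (mapIso hq s) ∈ S.K :=
            (OrthSim.mem_KK QP S.hQ S.hn S.hk S.h2).2 ⟨1, _, hs1, by rw [map_one, one_mul]⟩
          have h1 := S.mul_mem_of_out hz hsK hzN (S.not_mem_of_spin hneg hs2)
          simpa using H.mul_mem (Subgroup.mem_sup_right h1 : z * toGO QP (mapIso hq s) ∈ H) (H.inv_mem hsH)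
      · rw [S.K_eq_NN hneg]; exact le_sup_right
    have hDt : S.t (mapGO hq D₀) = -1 := by
      refine (S.t_pm _).resolve_left fun h => ?_
      rw [S.t_eq_one_iff, hmapD, mu_plusD hm] at h
      exact nonsquare_map h2 hfix hord hodd hν (by simpa using h.map (Units.coeHom F))
    have hDH : mapGO hq D₀ ∈ H := Subgroup.mem_sup_left (Subgroup.mem_map.2 ⟨D₀, hD₀, rfl⟩)
    refine Subgroup.relIndex_eq_one.2 fun z hz => ?_
    have hz1 : S.e z = 1 := MonoidHom.mem_ker.1 (hMS ▸ hz : z ∈ S.M)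
    rcases S.t_pm z with ht | ht
    · exact hKH (S.mem_K.2 ⟨hz1, ht⟩)
    · have hD1 : S.e (mapGO hq D₀) = 1 := MonoidHom.mem_ker.1 (hMS ▸ (hM D₀).2 hD₀ : mapGO hq D₀ ∈ S.M)
      have h1 : z * mapGO hq D₀ ∈ H := hKH (S.mem_K.2 ⟨by rw [map_mul, hz1, hD1, one_mul],
        by rw [map_mul, ht, hDt, neg_mul_neg, one_mul]⟩)
      simpa using H.mul_mem h1 (H.inv_mem hDH)
  suffices hsuff : r = 2 → H.relIndex (MP hm) = if Odd m ∧ Fintype.card F₀ % 4 = 1 then 2 else 4 by
    exact ⟨fun h => by rw [hsuff h.1, if_pos h.2.2], fun h => by rw [hsuff h.1, if_neg h.2.2]⟩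
  intro h2r
  subst h2r
  have hcard : Fintype.card F = Fintype.card F₀ ^ 2 := by
    rw [hF, hF₀, ← pow_mul, Nat.div_mul_cancel hrf]
  have hq0 : Fintype.card F₀ % 2 = 1 := FiniteField.odd_card_of_char_ne_two
    (fun h => h20 (by haveI := ringChar.of_eq h; exact CharTwo.two_eq_zero))
  have hFodd : Odd (Fintype.card F) := hcard ▸ (Nat.odd_iff.2 hq0).pow
  have hneg : OrthSim.Setup.NegMem QP := by
    refine (OrthSim.negMem_plus h2 hm hFodd).2 fun h => ?_
    rw [hcard, Nat.pow_mod] at h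
    rcases (show Fintype.card F₀ % 4 = 1 ∨ Fintype.card F₀ % 4 = 3 by omega) with e | e <;> rw [e] at h <;>
      exact absurd h.2 (by decide)
  have hsq := square_map h2 hfix hord
  have hKM : S.K.relIndex (MP hm) = 2 := by
    refine mem_relIndex_two (a := S.D) (hMS ▸ MonoidHom.mem_ker.2 S.hD1) S.D_notMem fun b hb hbK => ?_
    rw [hMS] at hb
    have he1 : S.e b = 1 := hb
    have ht1 : S.t b = -1 := (S.t_pm b).resolve_left fun e => hbK (S.mem_K.2 ⟨he1, e⟩)
    exact S.mem_K.2 ⟨by rw [map_mul, he1, show S.e S.D = 1 from S.hD1, one_mul],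
      by rw [map_mul, ht1, S.t_D, neg_mul_neg, one_mul]⟩
  have hNK : (NN QP).relIndex S.K = 2 :=
    mem_relIndex_two S.s0_mem (S.s0_notMem hneg) fun b hb hbN =>
      S.mul_mem_of_out hb S.s0_mem hbN (S.s0_notMem hneg)
  have hrot : ∀ b ∈ MP (F := F₀) hm, IsSquare (mu _ b : F₀) → mapGO hq b ∈ NN QP := by
    rintro b hb ⟨d, hd⟩
    have hd0 : d ≠ 0 := fun e => (mu _ b).ne_zero (by rw [hd, e, mul_zero])
    obtain ⟨s, hs⟩ := OrthSim.exists_iso_of_mu _ G₀.nd G₀.big (g := scal _ (Units.mk0 d hd0)⁻¹ * b) (by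
      rw [OrthSim.mu_mul _ G₀.nd G₀.big, OrthSim.mu_scal _ G₀.nd G₀.big, ← mul_inv,
        show Units.mk0 d hd0 * Units.mk0 d hd0 = mu _ b from Units.ext hd.symm, inv_mul_cancel])
    have hds : dickson _ (plusHyp (F := F₀) hm).nd s = 1 := by
      rw [← eP_toGO (plusHyp hm), ← hs, map_mul, eP_scal, one_mul, MonoidHom.mem_ker.1 hb]
    have hdet : detHom _ (mapIso hq s) = 1 := Units.ext (by
      show (mat _ (mapIso hq s)).det = _
      rw [OmegaCls.det_dickson h2 G.nd, dickson_mapIso hq (plusHyp (F := F₀) hm).nd G.nd (Or.inr (by simp; omega)),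
        hds]
      simp)
    rw [show b = scal _ (Units.mk0 d hd0) * toGO _ s by
      rw [← hs, ← mul_assoc, ← map_mul, mul_inv_cancel, map_one, one_mul], map_mul, mapGO_scal, mapGO_toGO]
    exact (OrthSim.mem_NN _).2 ⟨_, _, (mem_omega_iff _ h2 G.nd hn2).2 ⟨hdet,
      spin_map_trivial hq h2 G.nd hn2 G₀.nd (Or.inr (by simp; omega)) hsq hdet⟩, rfl⟩
  obtain ⟨cc, hcc⟩ := hsq (ν : F₀)
  have hcc0 : cc ≠ 0 := fun e => ν.ne_zero (e₀.injective (by rw [hcc, e, mul_zero, map_zero]))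
  have hDNN : mapGO hq D₀ ∈ NN QP ↔ ¬ (Odd m ∧ Fintype.card F₀ % 4 = 1) := by
    have e : mapGO hq D₀ = scal QP (Units.mk0 cc hcc0) * toGO QP (torusP fun _ => Units.mk0 cc hcc0) := by
      rw [hmapD]
      refine OrthSim.go_ext QP (Matrix.toLin'.injective (LinearMap.ext fun z => funext fun j => ?_))
      rw [Matrix.toLin'_apply, Matrix.toLin'_apply, OrthSim.plusD_mulVec, OrthSim.gm_mul, ← mulVec_mulVec,
        OrthSim.gm_scal, smul_mulVec, one_mulVec, OrthSim.gm_toGO, Pi.smul_apply, OrthSim.torusP_mulVec,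
        smul_eq_mul]
      rcases j with j | j
      · simp [hcc, mul_assoc]
      · simp [hcc0]
    rw [e, OrthSim.scal_mul_mem_NN S hneg _ _ (OrthSim.detHom_torusP _), spin_torusP_eq h2 (by omega)]
    have hprod : (∏ _i : Fin m, ((Units.mk0 cc hcc0 : Fˣ) : F)) = cc ^ m := by simp
    rw [hprod]
    have hc4 := isSquare_sqrt_iff (e₀ := e₀) h2 hcard hν hcc.symm
    rw [show ((if IsSquare (cc ^ m) then (1 : ℤˣ) else -1) = 1) ↔ IsSquare (cc ^ m) from
      ⟨fun h => by by_contra hc'; rw [if_neg hc'] at h; exact absurd h (by decide), fun h => if_pos h⟩]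
    rcases Nat.even_or_odd m with hev | hod
    · exact iff_of_true (hev.isSquare_pow cc) fun h => Nat.not_even_iff_odd.2 h.1 hev
    · obtain ⟨j, hj⟩ := id hod
      constructor
      · intro h h'
        have hc2 : IsSquare cc := by
          obtain ⟨y, hy⟩ := h
          refine ⟨y / cc ^ j, ?_⟩
          rw [div_mul_div_comm, ← hy, eq_div_iff (mul_ne_zero (pow_ne_zero _ hcc0) (pow_ne_zero _ hcc0)), hj]
          ring
        exact absurd (hc4.1 hc2) (by omega)
      · intro h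
        exact (hc4.2 (by have : ¬ Fintype.card F₀ % 4 = 1 := fun e => h ⟨hod, e⟩; omega)).pow m
  have hred : ∀ b ∈ MP (F := F₀) hm, mapGO hq b ∈ NN QP ∨ mapGO hq b * mapGO hq D₀ ∈ NN QP := by
    intro b hb
    by_cases hsqb : IsSquare (mu _ b : F₀)
    · exact Or.inl (hrot b hb hsqb)
    · refine Or.inr (map_mul (mapGO hq) b D₀ ▸ hrot (b * D₀) (mul_mem hb hD₀) ?_)
      rw [OrthSim.mu_mul _ G₀.nd G₀.big, Units.val_mul, mu_plusD hm]
      refine (quadraticChar_one_iff_isSquare (mul_ne_zero (Units.ne_zero _) ν.ne_zero)).1 ?_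
      rw [map_mul, quadraticChar_neg_one_iff_not_isSquare.2 hsqb, quadraticChar_neg_one_iff_not_isSquare.2 hν]
      norm_num
  have hDK : mapGO hq D₀ ∈ S.K := by
    refine S.mem_K.2 ⟨MonoidHom.mem_ker.1 (hMS ▸ (hM D₀).2 hD₀ : mapGO hq D₀ ∈ S.M), (S.t_eq_one_iff _).2 ?_⟩
    rw [hmapD, mu_plusD hm]
    exact ⟨Units.mk0 cc hcc0, Units.ext hcc⟩
  split_ifs with hcase
  · have hH : H = S.K := by
      refine le_antisymm (sup_le ?_ S.nn_le) fun z hz => ?_
      · rintro _ ⟨b, hb, rfl⟩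
        rcases hred b hb with h | h
        · exact S.nn_le h
        · simpa using S.K.mul_mem (S.nn_le h) (S.K.inv_mem hDK)
      by_cases hzN : z ∈ NN QP
      · exact Subgroup.mem_sup_right hzN
      have hmem : mapGO hq D₀ ∈ H := Subgroup.mem_sup_left (Subgroup.mem_map.2 ⟨D₀, hD₀, rfl⟩)
      have h1 := S.mul_mem_of_out hz hDK hzN (fun h => hDNN.1 h hcase)
      simpa using H.mul_mem (Subgroup.mem_sup_right h1 : z * mapGO hq D₀ ∈ H) (H.inv_mem hmem)
    rw [hH, hKM]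
  · have hH : H = NN QP := by
      refine le_antisymm (sup_le ?_ le_rfl) le_sup_right
      rintro _ ⟨b, hb, rfl⟩
      rcases hred b hb with h | h
      · exact h
      · simpa using mul_mem h (inv_mem (hDNN.2 hcase))
    rw [hH, ← Subgroup.relIndex_mul_relIndex _ _ _ S.nn_le hKle, hNK, hKM]

end Cfsg.Lib.OrthField
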