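import Cfsg.Agent.Known.OrthField.Base
import Cfsg.Agent.Known.OrthOut.Chi
import Cfsg.Agent.Known.Sympl.Field

/-!
Semisimilarities whose power is scalar: twisted Hilbert 90 and forms over the fixed field.
-/

set_option autoImplicit false
set_option linter.unusedSectionVars false
set_option linter.style.haveILetI false

namespace Cfsg.Lib.OrthField

open Matrix Cfsg.Lib.Classical Cfsg.Lib.Classical.Refl Cfsg.Lib.OrthAut
open Cfsg.Lib.OrthSim (GO gm semiPO glS conjPO toGO scal semiPO_mul pair_comp)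
open Cfsg.Lib.OrthOut (semiMap_comp semiPO_congr conjPO_eq_semi pair_refl exists_pow)
open Cfsg.Lib.Known.AutPSLn (tnorm exists_pow_norm)

universe u v

variable {F : Type u} [Field F] [Fintype F] [DecidableEq F] {ι : Type} [Fintype ι] [DecidableEq ι]

theorem map_pow_fix {σ : F ≃+* F} {a : F} (h : σ a = a) : ∀ n : ℕ, (σ ^ n) a = a
  | 0 => rfl
  | n + 1 => by rw [pow_succ, RingAut.mul_apply, h, map_pow_fix h n]

theorem iterate_tnorm (w : GL ι F) (σ : F ≃+* F) : ∀ (k : ℕ) (v : ι → F),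
    (semiMap w σ)^[k] v = ((tnorm (Sympl.glm σ) w k : GL ι F) : Matrix ι ι F) *ᵥ fun i => (σ ^ k) (v i)
  | 0, v => by rw [tnorm, Units.val_one, one_mulVec, pow_zero]; rfl
  | k + 1, v => by
    rw [Function.iterate_succ_apply', iterate_tnorm w σ k v, semiMap, tnorm, Units.val_mul, ← mulVec_mulVec]
    refine congrArg _ (funext fun i => ?_)
    rw [pow_succ']
    exact RingHom.map_mulVec σ.toRingHom _ _ i

variable {Q : QuadraticForm F (ι → F)}

theorem semiMap_scal (a : Fˣ) (w : GL ι F) (σ : F ≃+* F) (v : ι → F) :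
    semiMap ((scal Q a : GL ι F) * w) σ v = (a : F) • semiMap w σ v := by
  rw [semiMap, semiMap, Units.val_mul, ← mulVec_mulVec]
  show gm Q (scal Q a) *ᵥ _ = _
  rw [OrthSim.gm_scal, smul_mulVec, one_mulVec]

theorem iterate_scal (a : Fˣ) (w : GL ι F) (σ : F ≃+* F) : ∀ (k : ℕ) (v : ι → F),
    (semiMap ((scal Q a : GL ι F) * w) σ)^[k] v =
      (∏ i ∈ Finset.range k, (σ ^ i) (a : F)) • (semiMap w σ)^[k] v
  | 0, v => by simp
  | k + 1, v => by
    rw [Function.iterate_succ_apply', iterate_scal a w σ k v, semiMap_scal, semiMap_smul, smul_smul, map_prod,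
      Finset.prod_range_succ', Function.iterate_succ_apply']
    refine congrArg (fun c => c • _) ?_
    rw [mul_comm, pow_zero]
    refine congrArg₂ (· * ·) (Finset.prod_congr rfl fun i _ => ?_) rfl
    rw [pow_succ']; rfl

/-- A scalar multiple with trivial power. -/
theorem normalise [Nonempty ι] {w : GL ι F} {σ : F ≃+* F} {r : ℕ} (hord : orderOf σ = r) (hr : 0 < r) {c : Fˣ}
    (h : ∀ v, (semiMap w σ)^[r] v = (c : F) • v) :
    ∃ a : Fˣ, ∀ v, (semiMap ((scal Q a : GL ι F) * w) σ)^[r] v = v := by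
  obtain ⟨i0⟩ := ‹Nonempty ι›
  have hfix : σ (c : F) = c := by
    set v : ι → F := Pi.single i0 1
    have h1 : (c : F) • semiMap w σ v = σ (c : F) • semiMap w σ v := by
      rw [← semiMap_smul, ← h v, ← h (semiMap w σ v), ← Function.iterate_succ_apply' (semiMap w σ),
        ← Function.iterate_succ_apply (semiMap w σ)]
    have h2 : semiMap w σ v ≠ 0 := fun h0 => by
      have h3 : v = 0 := semiMap_injective w σ (by rw [h0, semiMap]; simp [← Pi.zero_def])
      simpa [v] using congrFun h3 i0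
    exact (smul_left_injective F h2 h1).symm
  obtain ⟨a, ha⟩ := exists_pow_norm hord hr (x := (c : F)⁻¹) (by rw [map_inv₀, hfix])
  have ha0 : a ≠ 0 := by
    rintro rfl
    exact inv_ne_zero c.ne_zero (ha.symm.trans (Finset.prod_eq_zero (Finset.mem_range.2 hr) (map_zero _)))
  exact ⟨Units.mk0 a ha0, fun v => by
    rw [iterate_scal, h, smul_smul, Units.val_mk0, ha, inv_mul_cancel₀ c.ne_zero, one_smul]⟩

theorem pair_scal {w : GL ι F} {σ : F ≃+* F} (hp : Cfsg.IsSemisimilarityPair (⇑Q) w σ) (a : Fˣ) :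
    Cfsg.IsSemisimilarityPair (⇑Q) ((scal Q a : GL ι F) * w) σ := by
  obtain ⟨c, hc⟩ := hp
  refine ⟨a * a * c, fun v => ?_⟩
  show Q (semiMap ((scal Q a : GL ι F) * w) σ v) = _
  rw [semiMap_scal, QuadraticMap.map_smul, smul_eq_mul, semiMap_q hc, Units.val_mul, Units.val_mul]
  ring

theorem semiPO_scal {w : GL ι F} {σ : F ≃+* F} (hp : Cfsg.IsSemisimilarityPair (⇑Q) w σ) (a : Fˣ) :
    semiPO ((scal Q a : GL ι F) * w) σ (pair_scal hp a) = semiPO w σ hp := by
  refine (OrthSim.induced_semi_iff _ _ hp _).1 fun s s' h => ?_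
  refine (OrthSim.induced_semi_iff _ _ (pair_scal hp a) _).2 rfl s s' ?_
  rw [h]
  have hs : ((scal Q a : GL ι F)) * (w * glS σ (s.1 : GL ι F) * w⁻¹) =
      (w * glS σ (s.1 : GL ι F) * w⁻¹) * (scal Q a : GL ι F) := by
    refine Units.ext ?_
    rw [Units.val_mul, Units.val_mul]
    show gm Q (scal Q a) * _ = _ * gm Q (scal Q a)
    rw [OrthSim.gm_scal, Matrix.smul_mul, Matrix.one_mul, Matrix.mul_smul, Matrix.mul_one, Units.val_mul, Units.val_mul, Units.val_mul]
  have : (scal Q a : GL ι F) * w * glS σ (s.1 : GL ι F) * ((scal Q a : GL ι F) * w)⁻¹ =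
      w * glS σ (s.1 : GL ι F) * w⁻¹ := by
    calc (scal Q a : GL ι F) * w * glS σ (s.1 : GL ι F) * ((scal Q a : GL ι F) * w)⁻¹
        = (scal Q a : GL ι F) * (w * glS σ (s.1 : GL ι F) * w⁻¹) * (scal Q a : GL ι F)⁻¹ := by group
      _ = _ := by rw [hs, mul_inv_cancel_right]
  exact (congrArg Units.val this).symm

/-- The power of an induced automorphism is trivial only for scalar powers. -/
theorem pow_semi (G : Good Q) (hH : Narrow Q) {w : GL ι F} {σ : F ≃+* F}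
    (hp : Cfsg.IsSemisimilarityPair (⇑Q) w σ) {r : ℕ} (h : semiPO w σ hp ^ r = 1) :
    σ ^ r = 1 ∧ ∃ c : Fˣ, ∀ v, (semiMap w σ)^[r] v = (c : F) • v := by
  obtain ⟨g, hq, e, em⟩ := exists_pow hp r
  rw [h] at e
  have hσ : σ ^ r = 1 := by
    have h1 := OrthOut.chi_semi G hH hq
    rw [← e, map_one] at h1
    exact h1.symm
  refine ⟨hσ, ?_⟩
  have hσ' : σ ^ r = RingEquiv.refl F := hσ
  obtain ⟨d, hd⟩ := id hq
  have hg : g ∈ GO Q := ⟨d, fun v => by
    have := hd v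
    simp only [hσ', RingEquiv.refl_apply] at this
    exact this⟩
  have hk : (⟨g, hg⟩ : GO Q) ∈ (conjPO Q).ker := by
    rw [MonoidHom.mem_ker, conjPO_eq_semi]
    refine (semiPO_congr _ hq hσ'.symm fun x => ?_).trans e.symm
    rw [hσ']
  rw [OrthSim.conjPO_ker Q G.nd G.big] at hk
  obtain ⟨c, hc⟩ := hk
  refine ⟨c, fun v => ?_⟩
  rw [← em, semiMap, hσ']
  have hg' : (g : Matrix ι ι F) = (c : F) • 1 := by
    rw [← OrthSim.gm_scal Q c, hc]
  rw [hg', smul_mulVec, one_mulVec]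
  rfl

section Form

variable {K : Type v} [Field K] [Fintype K] {e₀ : K →+* F}

theorem exists_restrict (A : QuadraticForm F (ι → F)) (h : ∀ v : ι → K, A (⇑e₀ ∘ v) ∈ Set.range e₀) :
    ∃ q : QuadraticForm K (ι → K), Ext e₀ q A := by
  choose f hf using h
  have hinj := e₀.injective
  have hpol : ∀ x y, e₀ (QuadraticMap.polar f x y) = QuadraticMap.polar (⇑A) (⇑e₀ ∘ x) (⇑e₀ ∘ y) := fun x y => by
    have e : ⇑e₀ ∘ (x + y) = ⇑e₀ ∘ x + ⇑e₀ ∘ y := funext fun i => map_add e₀ _ _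
    simp only [QuadraticMap.polar, map_sub, hf, e]
  refine ⟨QuadraticMap.ofPolar f (fun a x => hinj ?_) (fun x x' y => hinj ?_) (fun a x y => hinj ?_), fun v => (hf v).symm⟩
  · have e : ⇑e₀ ∘ (a • x) = e₀ a • (⇑e₀ ∘ x) := funext fun i => map_mul e₀ _ _
    rw [smul_eq_mul, map_mul, map_mul, hf, hf, e, QuadraticMap.map_smul, smul_eq_mul]
  · have e : ⇑e₀ ∘ (x + x') = ⇑e₀ ∘ x + ⇑e₀ ∘ x' := funext fun i => map_add e₀ _ _
    rw [map_add, hpol, hpol, hpol, e, QuadraticMap.polar_add_left]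
  · have e : ⇑e₀ ∘ (a • x) = e₀ a • (⇑e₀ ∘ x) := funext fun i => map_mul e₀ _ _
    rw [smul_eq_mul, map_mul, hpol, hpol, e, QuadraticMap.polar_smul_left, smul_eq_mul]

theorem nd_restrict {q : QuadraticForm K (ι → K)} {A : QuadraticForm F (ι → F)} (hq : Ext e₀ q A)
    (hA : (QuadraticMap.polarBilin A).Nondegenerate) : (QuadraticMap.polarBilin q).Nondegenerate := by
  have key : ∀ x : ι → K, (∀ y, QuadraticMap.polar (⇑q) x y = 0) → x = 0 := fun x hx => by
    have h0 : ⇑e₀ ∘ x = 0 := by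
      refine hA.1 _ fun y => ?_
      have : (QuadraticMap.polarBilin A (⇑e₀ ∘ x)) = 0 := (Pi.basisFun F ι).ext fun i => by
        show QuadraticMap.polar (⇑A) (⇑e₀ ∘ x) (Pi.basisFun F ι i) = 0
        rw [Pi.basisFun_apply, ← map_one e₀, ← comp_single, ext_polar e₀ hq, hx, map_zero]
      exact congrFun (congrArg DFunLike.coe this) y
    exact funext fun i => e₀.injective (by rw [show e₀ (x i) = 0 from congrFun h0 i, Pi.zero_apply, map_zero])
  exact ⟨key, fun y hy => key y fun x => by rw [QuadraticMap.polar_comm]; exact hy x⟩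

variable {σ : F ≃+* F} {r : ℕ}

/-- A semisimilarity with trivial power has a fixed frame, on which the form lives over the fixed field. -/
theorem exists_form [Nonempty ι] (hQ : (QuadraticMap.polarBilin Q).Nondegenerate)
    (hfix : ∀ x, σ x = x ↔ x ∈ Set.range e₀) (hord : orderOf σ = r) (hr : 0 < r) {w : GL ι F}
    (hp : Cfsg.IsSemisimilarityPair (⇑Q) w σ) (h : ∀ v, (semiMap w σ)^[r] v = v) :
    ∃ (q : QuadraticForm K (ι → K)) (T : (ι → F) ≃ₗ[F] (ι → F)) (c : Fˣ),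
      (QuadraticMap.polarBilin q).Nondegenerate ∧ (∀ v, semiMap w σ (T v) = T fun i => σ (v i)) ∧
        ∀ v : ι → K, Q (T (⇑e₀ ∘ v)) = (c : F) * e₀ (q v) := by
  obtain ⟨d, hd⟩ := hp
  have hN : tnorm (Sympl.glm σ) w r = 1 := Units.ext (Matrix.toLin'.injective (LinearMap.ext fun v => by
    have := h v
    rw [iterate_tnorm, ← hord, pow_orderOf_eq_one, hord] at this
    rw [Matrix.toLin'_apply, Units.val_one, Matrix.toLin'_one, LinearMap.id_apply]
    exact this))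
  obtain ⟨h0, hh⟩ := Sympl.hilbert90' hord hr w hN
  let T : (ι → F) ≃ₗ[F] (ι → F) := LinearEquiv.ofBijective (Matrix.mulVecLin (h0 : Matrix ι ι F))
    ⟨mulVec_injective_iff_isUnit.2 (Units.isUnit _), fun v => ⟨((h0⁻¹ : GL ι F) : Matrix ι ι F) *ᵥ v, by
      simp [mulVec_mulVec, ← Units.val_mul]⟩⟩
  have hT : ∀ v, semiMap w σ (T v) = T fun i => σ (v i) := fun v => by
    show (w : Matrix ι ι F) *ᵥ (fun i => σ (((h0 : Matrix ι ι F) *ᵥ v) i)) = (h0 : Matrix ι ι F) *ᵥ _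
    conv_rhs => rw [← hh]
    rw [Units.val_mul, ← mulVec_mulVec, Sympl.coe_glm]
    exact congrArg _ (funext fun i => RingHom.map_mulVec σ.toRingHom _ v i)
  set A : QuadraticForm F (ι → F) := Q.comp T.toLinearMap
  have hAσ : ∀ v, A (fun i => σ (v i)) = (d : F) * σ (A v) := fun v => by
    show Q (T _) = _
    rw [← hT, semiMap_q hd]
    rfl
  have hA : (QuadraticMap.polarBilin A).Nondegenerate := by
    have key : ∀ x, (∀ y, QuadraticMap.polar (⇑A) x y = 0) → x = 0 := fun x hx => by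
      have := hQ.1 (T x) fun z => by
        have := hx (T.symm z)
        simpa [A, QuadraticMap.polar] using this
      exact T.map_eq_zero_iff.1 this
    exact ⟨key, fun y hy => key y fun x => by rw [QuadraticMap.polar_comm]; exact hy x⟩
  have hbase : ∀ v : ι → K, (fun i => σ ((⇑e₀ ∘ v) i)) = ⇑e₀ ∘ v := fun v => funext fun i => (hfix _).2 ⟨_, rfl⟩
  obtain ⟨v0, hv0⟩ : ∃ v0 : ι → K, A (⇑e₀ ∘ v0) ≠ 0 := by
    by_contra hne
    push Not at hne
    have hz : A = 0 := ext_base e₀ A 0 fun v => by rw [hne, QuadraticMap.zero_apply]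
    obtain ⟨i0⟩ := ‹Nonempty ι›
    have := hA.1 (Pi.single i0 1) fun y => by rw [hz]; simp [QuadraticMap.polar]
    simpa using congrFun this i0
  set c := A (⇑e₀ ∘ v0) with hc
  obtain ⟨q, hq⟩ := exists_restrict (e₀ := e₀) (c⁻¹ • A) fun v => (hfix _).1 (by
    have h1 := hAσ (⇑e₀ ∘ v)
    have h2 := hAσ (⇑e₀ ∘ v0)
    rw [hbase] at h1 h2
    rw [← hc] at h2
    have hσc : σ c ≠ 0 := (map_ne_zero σ).2 hv0
    show σ (c⁻¹ * A (⇑e₀ ∘ v)) = c⁻¹ * A (⇑e₀ ∘ v)
    rw [map_mul, map_inv₀]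
    field_simp
    linear_combination σ (A (⇑e₀ ∘ v)) * h2 - σ c * h1)
  refine ⟨q, T, Units.mk0 c hv0, ?_, hT, fun v => ?_⟩
  · refine nd_restrict hq ?_
    have key : ∀ x, (∀ y, QuadraticMap.polar (⇑(c⁻¹ • A)) x y = 0) → x = 0 := fun x hx => hA.1 x fun y => by
      have := hx y
      rw [FormNormal.polar_smul_form] at this
      exact (mul_eq_zero.1 this).resolve_left (inv_ne_zero hv0)
    exact ⟨key, fun y hy => key y fun x => by rw [QuadraticMap.polar_comm]; exact hy x⟩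
  · show A (⇑e₀ ∘ v) = c * _
    rw [← hq v]
    exact (mul_inv_cancel_left₀ hv0 _).symm

end Form

/-! ### Trivialisations -/

variable {ι₁ : Type} [Fintype ι₁] [DecidableEq ι₁]

/-- A similitude onto the model turning the semisimilarity into the field automorphism. -/
def Triv (Q₁ : QuadraticForm F (ι₁ → F)) (Q : QuadraticForm F (ι → F)) (w : GL ι F) (σ : F ≃+* F) : Prop :=
  ∃ (T : (ι₁ → F) ≃ₗ[F] (ι → F)) (c : Fˣ),
    (∀ v, semiMap w σ (T v) = T fun i => σ (v i)) ∧ ∀ v, Q (T v) = (c : F) * Q₁ v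

theorem triv_refl (Q : QuadraticForm F (ι → F)) (σ : F ≃+* F) : Triv Q Q (1 : GL ι F) σ :=
  ⟨LinearEquiv.refl F _, 1, fun v => by simp [semiMap], fun v => by simp⟩

section Model

variable {K : Type v} [Field K] [Fintype K] {e₀ : K →+* F}

theorem triv_of_model {σ : F ≃+* F} (hfix : ∀ x, σ (e₀ x) = e₀ x) {w : GL ι F} {q : QuadraticForm K (ι → K)}
    {T : (ι → F) ≃ₗ[F] (ι → F)} {c : Fˣ} (hT : ∀ v, semiMap w σ (T v) = T fun i => σ (v i))
    (hc : ∀ v : ι → K, Q (T (⇑e₀ ∘ v)) = (c : F) * e₀ (q v)) {q₁ : QuadraticForm K (ι₁ → K)}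
    {Q₁ : QuadraticForm F (ι₁ → F)} (hq₁ : Ext e₀ q₁ Q₁) (g : (ι → K) ≃ₗ[K] (ι₁ → K)) {d : K} (hd : d ≠ 0)
    (hg : ∀ v, q v = d * q₁ (g v)) : Triv Q₁ Q w σ := by
  set S := extend e₀ g.symm
  refine ⟨S.trans T, c * Units.mk0 (e₀ d) ((map_ne_zero e₀).2 hd), fun v => ?_, fun v => ?_⟩
  · show semiMap w σ (T (S v)) = T (S fun i => σ (v i))
    rw [hT, extend_comm e₀ g.symm hfix]
  · have key := ext_base e₀ (Q.comp (S.trans T).toLinearMap) (((c : F) * e₀ d) • Q₁) fun u => by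
      rw [QuadraticMap.comp_apply, _root_.smul_apply, smul_eq_mul]
      show Q (T (S (⇑e₀ ∘ u))) = _
      rw [extend_base, hc, hg, g.apply_symm_apply, map_mul, hq₁, mul_assoc]
    exact congrFun (congrArg DFunLike.coe key) v

end Model

/-- Two trivialisations differ by a similitude. -/
theorem exists_intertwiner {Q₁ : QuadraticForm F (ι₁ → F)} {w w' : GL ι F} {σ : F ≃+* F} (h : Triv Q₁ Q w σ)
    (h' : Triv Q₁ Q w' σ) : ∃ x : GO Q, ∀ v, semiMap w σ (gm Q x *ᵥ v) = gm Q x *ᵥ semiMap w' σ v := by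
  obtain ⟨T, c, hT, hc⟩ := h
  obtain ⟨T', c', hT', hc'⟩ := h'
  let L := T'.symm.trans T
  have hdet : (LinearMap.toMatrix' L.toLinearMap).det ≠ 0 := by
    rw [LinearMap.det_toMatrix']
    exact (LinearEquiv.isUnit_det' L).ne_zero
  let g : GL ι F := Matrix.GeneralLinearGroup.mkOfDetNeZero _ hdet
  have hg : ∀ v, (g : Matrix ι ι F) *ᵥ v = T (T'.symm v) := fun v => LinearMap.toMatrix'_mulVec _ v
  refine ⟨⟨g, c * c'⁻¹, fun v => ?_⟩, fun v => ?_⟩
  · rw [hg, hc, Units.val_mul, Units.val_inv_eq_inv_val]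
    have h2 := hc' (T'.symm v)
    rw [T'.apply_symm_apply] at h2
    rw [h2]
    field_simp
  · show semiMap w σ ((g : Matrix ι ι F) *ᵥ v) = (g : Matrix ι ι F) *ᵥ semiMap w' σ v
    rw [hg, hg, hT]
    have h2 := hT' (T'.symm v)
    rw [T'.apply_symm_apply] at h2
    rw [h2, T'.symm_apply_apply]

theorem conj_of_intertwiner {w w' : GL ι F} {σ : F ≃+* F} (hp : Cfsg.IsSemisimilarityPair (⇑Q) w σ)
    (hq : Cfsg.IsSemisimilarityPair (⇑Q) w' σ) {x : GO Q}
    (h : ∀ v, semiMap w σ (gm Q x *ᵥ v) = gm Q x *ᵥ semiMap w' σ v) :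
    semiPO w σ hp = conjPO Q x * semiPO w' σ hq * (conjPO Q x)⁻¹ := by
  rw [eq_mul_inv_iff_mul_eq, conjPO_eq_semi, semiPO_mul hp (pair_refl x), semiPO_mul (pair_refl x) hq]
  refine semiPO_congr _ _ (RingEquiv.ext fun _ => rfl) fun v => ?_
  rw [semiMap_comp, semiMap_comp]
  simpa [semiMap] using h v

end Cfsg.Lib.OrthField
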